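import Mathlib

/-!
# Conjugation action of a subgroup on a stable subset (seat helper10)

* `conjActOn K X hX`: the action of `K` on the subtype of a set `X` stable under `K`-conjugation.
* `exists_fixed_of_not_dvd`: a `p`-subgroup acting by conjugation on a stable set of size prime to
  `p` fixes (commutes with) one of its members.
* `not_dvd_card_of_unique_fixed`: if exactly one member is fixed then `p` does not divide the size.
* `isPGroup_zpowers_of_sq`, `mem_zpowers_of_sq`: the group generated by an involution.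
-/

set_option autoImplicit false

namespace Cfsg.Agent.Lib.helper10

variable {G : Type*} [Group G]

/-- conjugation action of a subgroup on a stable subset -/
@[reducible] def conjActOn (K : Subgroup G) (X : Set G) (hX : ∀ k ∈ K, ∀ x ∈ X, k * x * k⁻¹ ∈ X) :
    MulAction K X where
  smul k x := ⟨k.1 * x.1 * k.1⁻¹, hX k.1 k.2 x.1 x.2⟩
  one_smul x := Subtype.ext (by
    show ((1 : K) : G) * x.1 * ((1 : K) : G)⁻¹ = x.1
    simp)
  mul_smul a b x := Subtype.ext (by
    show ((a * b : K) : G) * x.1 * ((a * b : K) : G)⁻¹ = a.1 * (b.1 * x.1 * b.1⁻¹) * a.1⁻¹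
    simp [mul_assoc])

theorem exists_fixed_of_not_dvd {p : ℕ} [Fact p.Prime] (K : Subgroup G)
    (hK : IsPGroup p K) (X : Set G) (hX : ∀ k ∈ K, ∀ x ∈ X, k * x * k⁻¹ ∈ X)
    (hcard : ¬ p ∣ Nat.card X) : ∃ x ∈ X, ∀ k ∈ K, k * x * k⁻¹ = x := by
  let _inst := conjActOn K X hX
  obtain ⟨x, hx⟩ := hK.nonempty_fixed_point_of_prime_not_dvd_card X hcard
  refine ⟨x.1, x.2, fun k hk => ?_⟩
  have := hx ⟨k, hk⟩
  exact congrArg Subtype.val this

theorem not_dvd_card_of_unique_fixed [Finite G] {p : ℕ} [Fact p.Prime] (K : Subgroup G)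
    (hK : IsPGroup p K) (X : Set G) (hX : ∀ k ∈ K, ∀ x ∈ X, k * x * k⁻¹ ∈ X) (x₀ : G)
    (hx₀ : x₀ ∈ X) (hfix : ∀ k ∈ K, k * x₀ * k⁻¹ = x₀)
    (huniq : ∀ x ∈ X, (∀ k ∈ K, k * x * k⁻¹ = x) → x = x₀) : ¬ p ∣ Nat.card X := by
  let _inst := conjActOn K X hX
  have h1 := hK.card_modEq_card_fixedPoints X
  have h2 : Nat.card (MulAction.fixedPoints K X) = 1 := by
    rw [Nat.card_eq_one_iff_unique]
    constructor
    · constructor
      rintro ⟨a, ha⟩ ⟨b, hb⟩
      have ha' : a.1 = x₀ := huniq a.1 a.2 (fun k hk => congrArg Subtype.val (ha ⟨k, hk⟩))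
      have hb' : b.1 = x₀ := huniq b.1 b.2 (fun k hk => congrArg Subtype.val (hb ⟨k, hk⟩))
      exact Subtype.ext (Subtype.ext (ha'.trans hb'.symm))
    · exact ⟨⟨⟨x₀, hx₀⟩, fun k => Subtype.ext (hfix k.1 k.2)⟩⟩
  rw [h2] at h1
  intro hdvd
  have h3 : Nat.card X % p = 1 % p := h1
  have hp : p.Prime := Fact.out
  rw [Nat.mod_eq_zero_of_dvd hdvd, Nat.mod_eq_of_lt hp.one_lt] at h3
  exact absurd h3 (by norm_num)

theorem mem_zpowers_of_sq {a : G} (h : a * a = 1) {k : G} (hk : k ∈ Subgroup.zpowers a) :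
    k = 1 ∨ k = a := by
  obtain ⟨n, rfl⟩ := Subgroup.mem_zpowers_iff.mp hk
  have h2 : a ^ (2 : ℤ) = 1 := by rw [zpow_two]; exact h
  rcases Int.even_or_odd' n with ⟨m, rfl | rfl⟩
  · left; rw [zpow_mul, h2, one_zpow]
  · right; rw [zpow_add_one, zpow_mul, h2, one_zpow, one_mul]

theorem isPGroup_zpowers_of_sq {a : G} (h : a * a = 1) : IsPGroup 2 (Subgroup.zpowers a) := by
  rintro ⟨k, hk⟩
  refine ⟨1, Subtype.ext ?_⟩
  show k ^ (2 ^ 1) = 1
  rcases mem_zpowers_of_sq h hk with rfl | rfl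
  · simp
  · rw [pow_one, pow_two]; exact h

end Cfsg.Agent.Lib.helper10
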