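import Mathlib

set_option autoImplicit false

/-!
Norm surjectivity `u * τ u = y` for a finite commutative ring with an involution `τ` that moves
some element by a unit (a substitute for Lang's theorem on commutative unit groups).
-/

namespace Cfsg.Agent.Lib.helper10.HermNorm

universe u

theorem card_quot_lt {R : Type u} [CommRing R] [Finite R] (I : Ideal R) (hne : I ≠ ⊥) :
    Nat.card (R ⧸ I) < Nat.card R := by
  have : Finite (R ⧸ I) := Finite.of_surjective _ Ideal.Quotient.mk_surjective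
  have h1 := Submodule.card_eq_card_quotient_mul_card (R := R) (M := R) I
  have h2 : 1 < Nat.card ↥I := by
    rw [Finite.one_lt_card_iff_nontrivial]
    obtain ⟨x, hx, hx0⟩ := Submodule.exists_mem_ne_zero_of_ne_bot hne
    exact ⟨⟨⟨x, hx⟩, 0, fun h => hx0 (congrArg Subtype.val h)⟩⟩
  have h3 : 0 < Nat.card (R ⧸ I) := Nat.card_pos
  have h4 : Nat.card R = Nat.card ↥I * Nat.card (R ⧸ I) := h1
  rw [h4]
  nlinarith

theorem quot_step {R : Type u} [CommRing R] [Finite R] (τ : R →+* R) (hτ : ∀ x, τ (τ x) = x)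
    (ω : R) (hω : IsUnit (ω - τ ω))
    (IH : ∀ (R' : Type u) [CommRing R'] [Finite R'] (τ' : R' →+* R'),
      (∀ x, τ' (τ' x) = x) → (∃ ω', IsUnit (ω' - τ' ω')) → Nat.card R' < Nat.card R →
      ∀ y : R', IsUnit y → τ' y = y → ∃ u : R', u * τ' u = y)
    (I : Ideal R) (hI : ∀ x ∈ I, τ x ∈ I) (hne : I ≠ ⊥) (y : R) (hy : IsUnit y) (hyτ : τ y = y) :
    ∃ u : R, u * τ u - y ∈ I := by
  have hle : I ≤ Ideal.comap τ I := fun x hx => Ideal.mem_comap.mpr (hI x hx)
  have h1 : ∀ x, (Ideal.quotientMap I τ hle) ((Ideal.quotientMap I τ hle) x) = x := by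
    intro x
    obtain ⟨x, rfl⟩ := Ideal.Quotient.mk_surjective x
    rw [Ideal.quotientMap_mk, Ideal.quotientMap_mk, hτ]
  have h2 : ∃ ω', IsUnit (ω' - (Ideal.quotientMap I τ hle) ω') := by
    refine ⟨Ideal.Quotient.mk I ω, ?_⟩
    rw [Ideal.quotientMap_mk, ← map_sub]
    exact hω.map _
  have h3 : Nat.card (R ⧸ I) < Nat.card R := card_quot_lt I hne
  have : Finite (R ⧸ I) := Finite.of_surjective _ Ideal.Quotient.mk_surjective
  obtain ⟨u', hu'⟩ := IH (R ⧸ I) (Ideal.quotientMap I τ hle) h1 h2 h3 (Ideal.Quotient.mk I y)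
    (hy.map _) (by rw [Ideal.quotientMap_mk, hyτ])
  obtain ⟨u, rfl⟩ := Ideal.Quotient.mk_surjective u'
  refine ⟨u, ?_⟩
  rw [Ideal.quotientMap_mk, ← map_mul] at hu'
  exact Ideal.Quotient.eq.mp hu'

theorem field_like {R : Type u} [CommRing R] [Finite R]
    (hred : ∀ x : R, x * x = 0 → x = 0)
    (hid : ∀ e : R, e * e = e → e ≠ 0 → e = 1) (x : R) (hx : x ≠ 0) : IsUnit x := by
  have hR : IsReduced R := (isReduced_iff_pow_one_lt 2 (by norm_num)).mpr
    (fun z hz => hred z (by rw [← hz]; ring))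
  obtain ⟨i, j, hij, he⟩ := Finite.exists_ne_map_eq_of_infinite (fun n : ℕ => x ^ n)
  have he' : x ^ i = x ^ j := he
  wlog hlt : i < j generalizing i j
  · exact this j i (Ne.symm hij) he.symm he'.symm (lt_of_le_of_ne (not_lt.mp hlt) (Ne.symm hij))
  obtain ⟨d, rfl⟩ : ∃ d, j = i + d := ⟨j - i, by omega⟩
  have hd : 1 ≤ d := by omega
  by_cases hi0 : i = 0
  · subst hi0
    rw [pow_zero, zero_add] at he'
    exact IsUnit.of_pow_eq_one he'.symm (by omega)
  have c1 : ∀ k : ℕ, x ^ (i + k * d) = x ^ i := by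
    intro k
    induction k with
    | zero => simp
    | succ k ih =>
      rw [show i + (k + 1) * d = (i + k * d) + d by ring, pow_add, ih, ← pow_add]
      exact he'.symm
  have c2 : x ^ (i * d) * x ^ (i * d) = x ^ (i * d) := by
    have hle : i ≤ i * d := Nat.le_mul_of_pos_right i (by omega)
    obtain ⟨m, hm⟩ : ∃ m, i * d = i + m := ⟨i * d - i, by omega⟩
    rw [← pow_add]
    have : i * d + i * d = (i + i * d) + m := by omega
    rw [this, pow_add, c1 i, ← pow_add, ← hm]
  by_cases h0 : x ^ (i * d) = 0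
  · exact absurd (IsNilpotent.eq_zero ⟨i * d, h0⟩) hx
  · have h1 := hid _ c2 h0
    exact IsUnit.of_pow_eq_one h1 (by
      have : 1 ≤ i * d := Nat.mul_pos (by omega) (by omega)
      omega)

theorem norm_field {R : Type u} [CommRing R] [Finite R] (τ : R →+* R) (hτ : ∀ x, τ (τ x) = x)
    (d : Rˣ) (ω : R) (hd : (d : R) = ω - τ ω)
    (hfield : ∀ x : R, x ≠ 0 → IsUnit x) (yu : Rˣ) (hyτ : τ (yu : R) = yu) :
    ∃ u : R, u * τ u = yu := by
  let T : Rˣ →* Rˣ := Units.map (τ : R →* R)
  have hT : ∀ v : Rˣ, ((T v : Rˣ) : R) = τ (v : R) := fun v => rfl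
  have hTT : ∀ v : Rˣ, T (T v) = v := by
    intro v; apply Units.ext; rw [hT, hT, hτ]
  let Nm : Rˣ →* Rˣ := MonoidHom.id Rˣ * T
  let φ : Rˣ →* Rˣ := MonoidHom.id Rˣ * T⁻¹
  have hNm : ∀ v : Rˣ, Nm v = v * T v := fun v => rfl
  have hφ : ∀ v : Rˣ, φ v = v * (T v)⁻¹ := fun v => rfl
  have hA : Nm.range ≤ φ.ker := by
    rintro _ ⟨v, rfl⟩
    rw [MonoidHom.mem_ker, hφ, hNm, map_mul, hTT, mul_comm (T v) v, mul_inv_cancel]
  have hB : Nm.ker ≤ φ.range := by
    intro v hv
    rw [MonoidHom.mem_ker, hNm] at hv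
    have hv' : (v : R) * τ (v : R) = 1 := by
      have := congrArg Units.val hv
      rwa [Units.val_mul, hT, Units.val_one] at this
    have key : ∃ w : Rˣ, (w : R) = v * τ (w : R) := by
      by_cases h1 : (1 + (v : R)) = 0
      · refine ⟨d, ?_⟩
        have hv1 : (v : R) = -1 := by linear_combination h1
        rw [hv1, hd, map_sub, hτ]; ring
      · obtain ⟨w, hw⟩ := hfield _ h1
        refine ⟨w, ?_⟩
        rw [hw, map_add, map_one]
        linear_combination -hv'
    obtain ⟨w, hw⟩ := key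
    refine ⟨w, ?_⟩
    rw [hφ, mul_inv_eq_iff_eq_mul]
    apply Units.ext
    rw [Units.val_mul, hT]
    exact hw
  have hcard : Nat.card φ.ker ≤ Nat.card Nm.range := by
    have e1 := Subgroup.card_mul_index Nm.ker
    have e2 := Subgroup.card_mul_index φ.ker
    rw [Subgroup.index_ker] at e1 e2
    have e3 : Nat.card Nm.ker ≤ Nat.card φ.range := Subgroup.card_le_of_le hB
    have hpos : 0 < Nat.card Nm.ker := Nat.card_pos
    have e4 : Nat.card Nm.ker * Nat.card φ.ker ≤ Nat.card Nm.ker * Nat.card Nm.range := by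
      rw [e1, ← e2, mul_comm]
      exact Nat.mul_le_mul_left _ e3
    exact Nat.le_of_mul_le_mul_left e4 hpos
  have heq := Subgroup.eq_of_le_of_card_ge hA hcard
  have hyk : yu ∈ φ.ker := by
    rw [MonoidHom.mem_ker, hφ, mul_inv_eq_one]
    apply Units.ext
    rw [hT, hyτ]
  rw [← heq] at hyk
  obtain ⟨u, hu⟩ := hyk
  refine ⟨u, ?_⟩
  have := congrArg Units.val hu
  rwa [hNm, Units.val_mul, hT] at this

theorem norm_surj_aux : ∀ (N : ℕ) (R : Type u) [CommRing R] [Finite R] (τ : R →+* R),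
    (∀ x, τ (τ x) = x) → (∃ ω, IsUnit (ω - τ ω)) → Nat.card R ≤ N →
    ∀ y : R, IsUnit y → τ y = y → ∃ u : R, u * τ u = y := by
  intro N
  induction N using Nat.strong_induction_on with
  | _ N ih =>
  intro R _ _ τ hτ hω hN y hy hyτ
  obtain ⟨ω, hω⟩ := hω
  have IH : ∀ (R' : Type u) [CommRing R'] [Finite R'] (τ' : R' →+* R'),
      (∀ x, τ' (τ' x) = x) → (∃ ω', IsUnit (ω' - τ' ω')) → Nat.card R' < Nat.card R →
      ∀ y : R', IsUnit y → τ' y = y → ∃ u : R', u * τ' u = y := by
    intro R' _ _ τ' h1 h2 h3 y' hy' hyτ'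
    exact ih (Nat.card R') (lt_of_lt_of_le h3 hN) R' τ' h1 h2 le_rfl y' hy' hyτ'
  have hω' := hω
  obtain ⟨d, hd⟩ := hω
  obtain ⟨e, he⟩ : ∃ e : R, (ω - τ ω) * e = 1 := ⟨((d⁻¹ : Rˣ) : R), by rw [← hd]; exact d.mul_inv⟩
  have hτe : τ e + e = 0 := by
    have h' : (τ ω - ω) * τ e = 1 := by
      have := congrArg τ he
      rwa [map_mul, map_sub, hτ, map_one] at this
    linear_combination (-e) * h' - (τ e) * he
  obtain ⟨c₁, hc₁⟩ : ∃ c₁ : R, c₁ + τ c₁ = 1 := by
    refine ⟨ω * e, ?_⟩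
    rw [map_mul]
    linear_combination he + (τ ω) * hτe
  have hy' := hy
  obtain ⟨yu, hyu⟩ := hy
  obtain ⟨ey, hye⟩ : ∃ ey : R, y * ey = 1 := ⟨((yu⁻¹ : Rˣ) : R), by rw [← hyu]; exact yu.mul_inv⟩
  have hτey : τ ey = ey := by
    have h'' : y * τ ey = 1 := by
      have := congrArg τ hye
      rwa [map_mul, hyτ, map_one] at this
    linear_combination ey * h'' - (τ ey) * hye
  by_cases hred : ∃ x : R, x ≠ 0 ∧ x * x = 0
  · obtain ⟨x, hx0, hxx⟩ := hred
    obtain ⟨I, hIτ, hIne, hIsq⟩ : ∃ I : Ideal R, (∀ a ∈ I, τ a ∈ I) ∧ I ≠ ⊥ ∧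
        ∀ a ∈ I, ∀ b ∈ I, a * b = 0 := by
      by_cases hxt : x * τ x = 0
      · refine ⟨Ideal.span {x, τ x}, ?_, ?_, ?_⟩
        · intro a ha
          obtain ⟨r, s, rfl⟩ := Ideal.mem_span_pair.mp ha
          rw [Ideal.mem_span_pair]
          refine ⟨τ s, τ r, ?_⟩
          rw [map_add, map_mul, map_mul, hτ]; ring
        · intro h
          have : x ∈ Ideal.span {x, τ x} := Ideal.subset_span (by simp)
          rw [h] at this
          exact hx0 (by simpa using this)
        · intro a ha b hb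
          obtain ⟨r, s, rfl⟩ := Ideal.mem_span_pair.mp ha
          obtain ⟨r', s', rfl⟩ := Ideal.mem_span_pair.mp hb
          have h2 : τ x * τ x = 0 := by rw [← map_mul, hxx, map_zero]
          linear_combination (r * r') * hxx + (r * s' + s * r') * hxt + (s * s') * h2
      · refine ⟨Ideal.span {x * τ x}, ?_, ?_, ?_⟩
        · intro a ha
          obtain ⟨r, rfl⟩ := Ideal.mem_span_singleton'.mp ha
          rw [Ideal.mem_span_singleton']
          refine ⟨τ r, ?_⟩
          rw [map_mul, map_mul, hτ]; ring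
        · intro h
          have : x * τ x ∈ Ideal.span {x * τ x} := Ideal.subset_span (by simp)
          rw [h] at this
          exact hxt (by simpa using this)
        · intro a ha b hb
          obtain ⟨r, rfl⟩ := Ideal.mem_span_singleton'.mp ha
          obtain ⟨r', rfl⟩ := Ideal.mem_span_singleton'.mp hb
          linear_combination (r * r' * τ x * τ x) * hxx
    obtain ⟨u, hu⟩ := quot_step τ hτ ω hω' IH I hIτ hIne y hy' hyτ
    obtain ⟨i', hi'⟩ : ∃ i', i' = u * τ u - y := ⟨_, rfl⟩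
    rw [← hi'] at hu
    have hτi : τ i' = i' := by rw [hi', map_sub, map_mul, hτ, hyτ]; ring
    obtain ⟨t, ht⟩ : ∃ t, t = -(c₁ * ey * i') := ⟨_, rfl⟩
    have htI : t ∈ I := by rw [ht]; exact I.neg_mem (I.mul_mem_left _ hu)
    have hτtI : τ t ∈ I := hIτ t htI
    have h1 : t * τ t = 0 := hIsq t htI _ hτtI
    have h2 : t + τ t = -(ey * i') := by
      rw [ht, map_neg, map_mul, map_mul, hτi, hτey]; linear_combination (-(ey * i')) * hc₁
    have h3 : i' * i' = 0 := hIsq i' hu i' hu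
    refine ⟨u * (1 + t), ?_⟩
    rw [map_mul, map_add, map_one]
    have h5 : u * τ u = y + i' := by rw [hi']; ring
    linear_combination (1 + t) * (1 + τ t) * h5 + (y + i') * h1 + (y + i') * h2 - i' * hye - ey * h3
  · have hred' : ∀ x : R, x * x = 0 → x = 0 := by
      intro x hx
      by_contra h
      exact hred ⟨x, h, hx⟩
    by_cases hid : ∃ f : R, f * f = f ∧ τ f = f ∧ f ≠ 0 ∧ f ≠ 1
    · obtain ⟨f, hff, hτf, hf0, hf1⟩ := hid
      have hI1 : ∀ a ∈ Ideal.span {f}, τ a ∈ Ideal.span {f} := by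
        intro a ha
        obtain ⟨r, rfl⟩ := Ideal.mem_span_singleton'.mp ha
        rw [Ideal.mem_span_singleton']
        exact ⟨τ r, by rw [map_mul, hτf]⟩
      have hI2 : ∀ a ∈ Ideal.span {1 - f}, τ a ∈ Ideal.span {1 - f} := by
        intro a ha
        obtain ⟨r, rfl⟩ := Ideal.mem_span_singleton'.mp ha
        rw [Ideal.mem_span_singleton']
        exact ⟨τ r, by rw [map_mul, map_sub, map_one, hτf]⟩
      have hn1 : Ideal.span {f} ≠ (⊥ : Ideal R) := by
        intro h
        have : f ∈ Ideal.span {f} := Ideal.subset_span (by simp)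
        rw [h] at this
        exact hf0 (by simpa using this)
      have hn2 : Ideal.span {1 - f} ≠ (⊥ : Ideal R) := by
        intro h
        have : 1 - f ∈ Ideal.span {1 - f} := Ideal.subset_span (by simp)
        rw [h] at this
        have h0 : 1 - f = 0 := by simpa using this
        exact hf1 (by linear_combination -h0)
      obtain ⟨u₁, hu₁⟩ := quot_step τ hτ ω hω' IH _ hI1 hn1 y hy' hyτ
      obtain ⟨u₂, hu₂⟩ := quot_step τ hτ ω hω' IH _ hI2 hn2 y hy' hyτ
      obtain ⟨r₁, hr₁⟩ := Ideal.mem_span_singleton'.mp hu₁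
      obtain ⟨r₂, hr₂⟩ := Ideal.mem_span_singleton'.mp hu₂
      refine ⟨(1 - f) * u₁ + f * u₂, ?_⟩
      rw [map_add, map_mul, map_mul, map_sub, map_one, hτf]
      have e1 : (1 - f) * (1 - f) = 1 - f := by linear_combination hff
      have e2 : f * (1 - f) = 0 := by linear_combination -hff
      linear_combination (u₁ * τ u₁) * e1 + (u₁ * τ u₂ + u₂ * τ u₁) * e2 + (u₂ * τ u₂) * hff
        - (1 - f) * hr₁ - f * hr₂ + (r₁ + r₂) * e2
    · have hid' : ∀ f : R, f * f = f → τ f = f → f ≠ 0 → f = 1 := by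
        intro f h1 h2 h3
        by_contra h4
        exact hid ⟨f, h1, h2, h3, h4⟩
      by_cases hid2 : ∃ e : R, e * e = e ∧ e ≠ 0 ∧ e ≠ 1
      · obtain ⟨e, hee, he0, he1⟩ := hid2
        have hτee : τ e * τ e = τ e := by rw [← map_mul, hee]
        have h1 : e * τ e = 0 := by
          by_contra h
          have := hid' (e * τ e) (by linear_combination (τ e * τ e) * hee + e * hτee)
            (by rw [map_mul, hτ]; ring) h
          apply he1
          linear_combination (1 - e) * this + (τ e) * hee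
        have h2 : e + τ e = 1 := by
          have hne : e + τ e ≠ 0 := by
            intro h
            apply he0
            linear_combination e * h - hee - h1
          exact hid' (e + τ e) (by linear_combination hee + hτee + 2 * h1)
            (by rw [map_add, hτ]; ring) hne
        refine ⟨e * y + τ e, ?_⟩
        rw [map_add, map_mul, hτ, hyτ]
        linear_combination (y * y) * h1 + y * hee + y * hτee + h1 + y * h2
      · have hid2' : ∀ e : R, e * e = e → e ≠ 0 → e = 1 := by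
          intro e h1 h2
          by_contra h3
          exact hid2 ⟨e, h1, h2, h3⟩
        have hfield := field_like hred' hid2'
        obtain ⟨u, hu⟩ := norm_field τ hτ d ω hd hfield yu (by rw [hyu]; exact hyτ)
        exact ⟨u, by rw [hu, hyu]⟩

theorem norm_surj {R : Type u} [CommRing R] [Finite R] (τ : R →+* R)
    (hτ : ∀ x, τ (τ x) = x) (ω : R) (hω : IsUnit (ω - τ ω)) (y : R) (hy : IsUnit y)
    (hyτ : τ y = y) : ∃ u : R, u * τ u = y :=
  norm_surj_aux (Nat.card R) R τ hτ ⟨ω, hω⟩ le_rfl y hy hyτ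

end Cfsg.Agent.Lib.helper10.HermNorm
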