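import Mathlib
import Cfsg.Prelude.Def_LieClassical
import Cfsg.Agent.Lib.helper18.SpRz2
import Cfsg.Agent.Lib.helper4.QSim
import Cfsg.Agent.S2590

/-!
# Isometries of prime order of quadratic forms: realization and conjugacy
-/

set_option autoImplicit false

namespace Cfsg.Agent.Lib.helper10.OrthRz

open Polynomial Matrix
open Cfsg.Agent.Lib.helper18.SpRz

universe u
variable {F : Type u} [Field F]

/-- `χ` is the characteristic polynomial of an isometry `g`, `g ^ r = 1`, of the quadratic form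
`v ↦ v ⬝ᵥ N *ᵥ v`, whose polar form `N + Nᵀ` is nondegenerate. -/
def Oz (r : ℕ) (χ : F[X]) : Prop :=
  ∃ (ι : Type) (_ : Fintype ι) (_ : DecidableEq ι) (g gi N Bi : Matrix ι ι F),
    g * gi = 1 ∧ g ^ r = 1 ∧ gᵀ * N * g = N ∧ (N + Nᵀ) * Bi = 1 ∧ g.charpoly = χ

theorem mulVec_dot {ι : Type*} [Fintype ι] (A : Matrix ι ι F) (v w : ι → F) :
    (A *ᵥ v) ⬝ᵥ w = v ⬝ᵥ Aᵀ *ᵥ w := by
  rw [Matrix.dotProduct_mulVec, Matrix.vecMul_transpose]

theorem alt_transpose {ι : Type*} [Fintype ι] [DecidableEq ι] (Ω : Matrix ι ι F)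
    (ha : ∀ x : ι → F, x ⬝ᵥ Ω *ᵥ x = 0) : Ωᵀ = -Ω := by
  ext i j
  have h1 := ha (Pi.single i 1 + Pi.single j 1)
  have h2 := ha (Pi.single i 1)
  have h3 := ha (Pi.single j 1)
  rw [Matrix.mulVec_add, dotProduct_add, add_dotProduct, add_dotProduct, h2, h3,
    single_one_dotProduct, single_one_dotProduct, Matrix.mulVec_single_one,
    Matrix.mulVec_single_one] at h1
  simp only [Matrix.col_apply, zero_add, add_zero] at h1
  rw [Matrix.transpose_apply, Matrix.neg_apply]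
  exact eq_neg_of_add_eq_zero_left h1

theorem oz_of_rz {r : ℕ} (hr : Odd r) {χ : F[X]} (hz : Rz r χ) (h1 : χ.eval 1 ≠ 0) : Oz r χ := by
  obtain ⟨ι, _, _, g, gi, Ω, Ωi, hc, hg, hk, hΩ, ha, hi, hχ⟩ := hz
  have hgi : gi * g = 1 := mul_eq_one_comm.mp hg
  have hΩT : Ωᵀ = -Ω := alt_transpose Ω ha
  have hdet : (1 - g).det ≠ 0 := by
    have h3 := Matrix.eval_charpoly g 1
    rw [hχ, map_one] at h3
    rwa [← h3]
  obtain ⟨u, hu⟩ : ∃ u : (Matrix ι ι F)ˣ, (u : Matrix ι ι F) = 1 - g :=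
    ((Matrix.isUnit_iff_isUnit_det _).mpr (isUnit_iff_ne_zero.mpr hdet))
  obtain ⟨w, hw⟩ : ∃ w : (Matrix ι ι F)ˣ, (w : Matrix ι ι F) = 1 + g := by
    by_cases h2 : (2 : F) = 0
    · have h4 : g + g = 0 := by rw [← two_smul F g, h2, zero_smul]
      have h5 : (1 + g : Matrix ι ι F) = 1 - g := by
        rw [eq_sub_iff_add_eq, add_assoc, h4, add_zero]
      exact ⟨u, by rw [hu, h5]⟩
    · obtain ⟨h, hh⟩ : (X + 1 : F[X]) ∣ X ^ r + 1 := by
        have := Odd.add_dvd_pow_add_pow (X : F[X]) 1 hr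
        simpa using this
      have h6 := congrArg (aeval g) hh
      rw [map_add, map_pow, aeval_X, map_one, hk, map_mul, map_add, aeval_X, map_one] at h6
      have h7 : (1 + g) * ((2 : F)⁻¹ • aeval g h) = 1 := by
        rw [Matrix.mul_smul, add_comm 1 g, ← h6, ← two_smul F (1 : Matrix ι ι F), smul_smul,
          inv_mul_cancel₀ h2, one_smul]
      exact ⟨⟨1 + g, _, h7, mul_eq_one_comm.mp h7⟩, rfl⟩
  obtain ⟨ui, hui⟩ : ∃ ui : Matrix ι ι F, ui = ((u⁻¹ : (Matrix ι ι F)ˣ) : Matrix ι ι F) := ⟨_, rfl⟩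
  obtain ⟨wi, hwi⟩ : ∃ wi : Matrix ι ι F, wi = ((w⁻¹ : (Matrix ι ι F)ˣ) : Matrix ι ι F) := ⟨_, rfl⟩
  obtain ⟨um, hum⟩ : ∃ um : Matrix ι ι F, um = 1 - g := ⟨_, rfl⟩
  have huu : um * ui = 1 := by rw [hum, ← hu, hui, Units.mul_inv]
  have huu' : ui * um = 1 := by rw [hum, ← hu, hui, Units.inv_mul]
  have hww : (1 + g) * wi = 1 := by rw [← hw, hwi, Units.mul_inv]
  have hcomm : g * um = um * g := by rw [hum, mul_sub, sub_mul, mul_one, one_mul]
  have hcomm' : ui * g = g * ui := by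
    calc ui * g = ui * g * (um * ui) := by rw [huu, mul_one]
      _ = ui * (g * um) * ui := by simp only [mul_assoc]
      _ = ui * (um * g) * ui := by rw [hcomm]
      _ = (ui * um) * g * ui := by simp only [mul_assoc]
      _ = g * ui := by rw [huu', one_mul]
  have key1 : gᵀ * Ω = Ω * gi := by
    calc gᵀ * Ω = gᵀ * Ω * (g * gi) := by rw [hg, mul_one]
      _ = (gᵀ * Ω * g) * gi := by simp only [mul_assoc]
      _ = Ω * gi := by rw [hΩ]
  have key2 : umᵀ * Ω = Ω * (1 - gi) := by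
    rw [hum, Matrix.transpose_sub, Matrix.transpose_one, sub_mul, one_mul, key1, mul_sub, mul_one]
  have key3 : umᵀ * (Ω * ui * g) = -Ω := by
    have h8 : (1 - gi) = -(gi * um) := by rw [hum, mul_sub, mul_one, hgi, neg_sub]
    calc umᵀ * (Ω * ui * g) = (umᵀ * Ω) * ui * g := by simp only [mul_assoc]
      _ = Ω * (1 - gi) * ui * g := by rw [key2]
      _ = -(Ω * gi * (um * ui) * g) := by rw [h8]; simp only [mul_neg, neg_mul, mul_assoc]
      _ = -Ω := by rw [huu, mul_one, mul_assoc, hgi, mul_one]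
  have hT : uiᵀ * umᵀ = 1 := by rw [← Matrix.transpose_mul, huu, Matrix.transpose_one]
  have key4 : uiᵀ * Ω = -(Ω * ui * g) := by
    calc uiᵀ * Ω = uiᵀ * (-(umᵀ * (Ω * ui * g))) := by rw [key3, neg_neg]
      _ = -((uiᵀ * umᵀ) * (Ω * ui * g)) := by rw [mul_neg, ← Matrix.mul_assoc uiᵀ umᵀ]
      _ = -(Ω * ui * g) := by rw [hT, one_mul]
  have hNT : (Ω * ui)ᵀ = Ω * ui * g := by
    rw [Matrix.transpose_mul, hΩT, mul_neg, key4, neg_neg]
  refine ⟨ι, inferInstance, inferInstance, g, gi, Ω * ui, wi * um * Ωi, hg, hk, ?_, ?_, hχ⟩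
  · calc gᵀ * (Ω * ui) * g = gᵀ * Ω * (ui * g) := by simp only [mul_assoc]
      _ = (gᵀ * Ω * g) * ui := by rw [hcomm']; simp only [mul_assoc]
      _ = Ω * ui := by rw [hΩ]
  · rw [hNT]
    calc (Ω * ui + Ω * ui * g) * (wi * um * Ωi) = Ω * ui * ((1 + g) * wi) * um * Ωi := by
          simp only [mul_add, add_mul, mul_assoc, one_mul]
      _ = Ω * (ui * um) * Ωi := by rw [hww, mul_one]; simp only [mul_assoc]
      _ = 1 := by rw [huu', mul_one, hi]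

theorem oz_mul (r : ℕ) (χ₁ χ₂ : F[X]) (r₁ : Oz r χ₁) (r₂ : Oz r χ₂) : Oz r (χ₁ * χ₂) := by
  obtain ⟨ι₁, _, _, g₁, gi₁, N₁, B₁, hg₁, hk₁, hN₁, hB₁, hχ₁⟩ := r₁
  obtain ⟨ι₂, _, _, g₂, gi₂, N₂, B₂, hg₂, hk₂, hN₂, hB₂, hχ₂⟩ := r₂
  refine ⟨ι₁ ⊕ ι₂, inferInstance, inferInstance, Matrix.fromBlocks g₁ 0 0 g₂,
    Matrix.fromBlocks gi₁ 0 0 gi₂, Matrix.fromBlocks N₁ 0 0 N₂, Matrix.fromBlocks B₁ 0 0 B₂,
    ?_, ?_, ?_, ?_, ?_⟩
  · rw [Matrix.fromBlocks_multiply]; simp [hg₁, hg₂]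
  · rw [Matrix.fromBlocks_diagonal_pow, hk₁, hk₂, Matrix.fromBlocks_one]
  · rw [Matrix.fromBlocks_transpose, Matrix.fromBlocks_multiply, Matrix.fromBlocks_multiply]
    simp [hN₁, hN₂]
  · rw [Matrix.fromBlocks_transpose, Matrix.fromBlocks_add, Matrix.fromBlocks_multiply]
    simp [hB₁, hB₂]
  · rw [Matrix.charpoly_fromBlocks_zero₁₂, hχ₁, hχ₂]

theorem oz_hyp_fix (r c : ℕ) : Oz (F := F) r ((X - 1) ^ (c + c)) := by
  refine ⟨Fin c ⊕ Fin c, inferInstance, inferInstance, 1, 1, Matrix.fromBlocks 0 1 0 0,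
    Matrix.fromBlocks 0 1 1 0, ?_, ?_, ?_, ?_, ?_⟩
  · simp
  · simp
  · simp
  · rw [Matrix.fromBlocks_transpose, Matrix.fromBlocks_add, Matrix.fromBlocks_multiply]
    simp [Matrix.fromBlocks_one]
  · rw [Matrix.charpoly_one]; simp

theorem oz_unit (r : ℕ) (h2 : (2 : F) ≠ 0) : Oz (F := F) r (X - 1) := by
  refine ⟨Unit, inferInstance, inferInstance, 1, 1, 1, (2 : F)⁻¹ • 1, ?_, ?_, ?_, ?_, ?_⟩
  · simp
  · simp
  · simp
  · rw [Matrix.transpose_one, Matrix.mul_smul, mul_one, ← two_smul F (1 : Matrix Unit Unit F),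
      smul_smul, inv_mul_cancel₀ h2, one_smul]
  · rw [Matrix.charpoly_one]; simp


/-! ### The quadratic form of a matrix -/

/-- the quadratic form `v ↦ v ⬝ᵥ N *ᵥ v` -/
noncomputable def qN {ι : Type*} [Fintype ι] [DecidableEq ι] (N : Matrix ι ι F) :
    QuadraticForm F (ι → F) :=
  LinearMap.BilinMap.toQuadraticMap (Matrix.toBilin' N)

theorem qN_apply {ι : Type*} [Fintype ι] [DecidableEq ι] (N : Matrix ι ι F) (v : ι → F) :
    qN N v = v ⬝ᵥ N *ᵥ v := by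
  unfold qN
  rw [LinearMap.BilinMap.toQuadraticMap_apply, Matrix.toBilin'_apply']

theorem qN_polar {ι : Type*} [Fintype ι] [DecidableEq ι] (N : Matrix ι ι F) (x y : ι → F) :
    QuadraticMap.polar (⇑(qN N)) x y = x ⬝ᵥ (N + Nᵀ) *ᵥ y := by
  unfold qN
  rw [LinearMap.BilinMap.polar_toQuadraticMap, Matrix.toBilin'_apply', Matrix.toBilin'_apply',
    Matrix.add_mulVec, dotProduct_add, ← mulVec_dot N x y, dotProduct_comm (N *ᵥ x) y]

theorem qN_sep {ι : Type*} [Fintype ι] [DecidableEq ι] (N Bi : Matrix ι ι F)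
    (hB : (N + Nᵀ) * Bi = 1) (x : ι → F)
    (hx : ∀ y, QuadraticMap.polar (⇑(qN N)) x y = 0) : x = 0 := by
  funext j
  have h1 := hx (Bi *ᵥ Pi.single j 1)
  rw [qN_polar, Matrix.mulVec_mulVec, hB, Matrix.one_mulVec, dotProduct_single_one] at h1
  exact h1

theorem qf_inv {ι : Type*} [Fintype ι] [DecidableEq ι] (g N : Matrix ι ι F)
    (hN : gᵀ * N * g = N) (w : ι → F) : (g *ᵥ w) ⬝ᵥ N *ᵥ (g *ᵥ w) = w ⬝ᵥ N *ᵥ w := by
  rw [mulVec_dot, Matrix.mulVec_mulVec, Matrix.mulVec_mulVec, hN]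

/-- transfer of an isometry along a similarity of quadratic forms -/
theorem transfer {ι κ : Type} [Fintype ι] [DecidableEq ι] [Fintype κ] [DecidableEq κ]
    (g gi N : Matrix ι ι F) (hg : g * gi = 1) (hN : gᵀ * N * g = N)
    (Q₂ : (κ → F) → F) (φ : (ι → F) ≃ₗ[F] (κ → F)) (c : F)
    (hφ : ∀ v, Q₂ (φ v) = c * (v ⬝ᵥ N *ᵥ v)) :
    ∃ s : GL κ F, (∀ v, Q₂ ((s : Matrix κ κ F) *ᵥ v) = Q₂ v) ∧
      (s : Matrix κ κ F).charpoly = g.charpoly ∧ ∀ k : ℕ, g ^ k = 1 → s ^ k = 1 := by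
  obtain ⟨P, hP⟩ : ∃ P : Matrix κ ι F, P = LinearMap.toMatrix' (φ : (ι → F) →ₗ[F] (κ → F)) :=
    ⟨_, rfl⟩
  obtain ⟨Pi, hPi⟩ : ∃ Pi : Matrix ι κ F,
      Pi = LinearMap.toMatrix' (φ.symm : (κ → F) →ₗ[F] (ι → F)) := ⟨_, rfl⟩
  have hPPi : P * Pi = 1 := by
    rw [hP, hPi, ← LinearMap.toMatrix'_comp, LinearEquiv.comp_coe, LinearEquiv.symm_trans_self,
      LinearEquiv.refl_toLinearMap, LinearMap.toMatrix'_id]
  have hPiP : Pi * P = 1 := by
    rw [hP, hPi, ← LinearMap.toMatrix'_comp, LinearEquiv.comp_coe, LinearEquiv.self_trans_symm,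
      LinearEquiv.refl_toLinearMap, LinearMap.toMatrix'_id]
  have hPv : ∀ v, P *ᵥ v = φ v := by
    intro v; rw [hP, LinearMap.toMatrix'_mulVec]; rfl
  have hPiv : ∀ v, Pi *ᵥ v = φ.symm v := by
    intro v; rw [hPi, LinearMap.toMatrix'_mulVec]; rfl
  have hgi : gi * g = 1 := mul_eq_one_comm.mp hg
  have hS : (P * g * Pi) * (P * gi * Pi) = 1 := by
    calc (P * g * Pi) * (P * gi * Pi) = P * g * (Pi * P) * gi * Pi := by
          simp only [Matrix.mul_assoc]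
      _ = P * (g * gi) * Pi := by rw [hPiP, Matrix.mul_one]; simp only [Matrix.mul_assoc]
      _ = 1 := by rw [hg, Matrix.mul_one, hPPi]
  have hpow : ∀ k : ℕ, (P * g * Pi) ^ k = P * g ^ k * Pi := by
    intro k
    induction k with
    | zero => rw [pow_zero, pow_zero, Matrix.mul_one, hPPi]
    | succ k ih =>
      rw [pow_succ, ih, pow_succ]
      calc P * g ^ k * Pi * (P * g * Pi) = P * g ^ k * (Pi * P) * g * Pi := by
            simp only [Matrix.mul_assoc]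
        _ = P * (g ^ k * g) * Pi := by rw [hPiP, Matrix.mul_one]; simp only [Matrix.mul_assoc]
  have hcard : Fintype.card ι = Fintype.card κ := by
    have := LinearEquiv.finrank_eq φ
    rwa [Module.finrank_fintype_fun_eq_card, Module.finrank_fintype_fun_eq_card] at this
  refine ⟨⟨P * g * Pi, P * gi * Pi, hS, mul_eq_one_comm.mp hS⟩, ?_, ?_, ?_⟩
  · intro v
    show Q₂ ((P * g * Pi) *ᵥ v) = Q₂ v
    rw [← Matrix.mulVec_mulVec, ← Matrix.mulVec_mulVec, hPv, hPiv, hφ, qf_inv g N hN, ← hφ,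
      LinearEquiv.apply_symm_apply]
  · show (P * g * Pi).charpoly = g.charpoly
    have h1 := Matrix.charpoly_mul_comm' (P * g) Pi
    rw [← Matrix.mul_assoc, hPiP, Matrix.one_mul, hcard] at h1
    exact mul_left_cancel₀ (pow_ne_zero _ X_ne_zero) h1
  · intro k hk
    apply Units.ext
    rw [Units.val_pow_eq_pow_val, Units.val_one]
    show (P * g * Pi) ^ k = 1
    rw [hpow, hk, Matrix.mul_one, hPPi]

/-! ### The odd-dimensional standard form -/

/-- matrix of `x₀² + Σ xᵢ yᵢ` -/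
def NOdd (m : ℕ) : Matrix (Unit ⊕ (Fin m ⊕ Fin m)) (Unit ⊕ (Fin m ⊕ Fin m)) F :=
  Matrix.fromBlocks 1 0 0 (Matrix.fromBlocks 0 1 0 0)

theorem qN_NOdd (m : ℕ) (v : Unit ⊕ (Fin m ⊕ Fin m) → F) :
    qN (NOdd (F := F) m) v = Cfsg.quadFormOdd m F v := by
  rw [qN_apply]
  simp [NOdd, Cfsg.quadFormOdd, dotProduct, Matrix.mulVec, Matrix.one_apply, pow_two]

theorem NOdd_B (h2 : (2 : F) ≠ 0) (m : ℕ) :
    (NOdd (F := F) m + (NOdd (F := F) m)ᵀ) *
      Matrix.fromBlocks ((2 : F)⁻¹ • 1) 0 0 (Matrix.fromBlocks 0 1 1 0) = 1 := by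
  unfold NOdd
  rw [Matrix.fromBlocks_transpose, Matrix.fromBlocks_transpose, Matrix.fromBlocks_add,
    Matrix.fromBlocks_add, Matrix.fromBlocks_multiply, Matrix.fromBlocks_multiply]
  have h3 : ((2 : F)⁻¹ • (1 : Matrix Unit Unit F) + (2 : F)⁻¹ • 1) = 1 := by
    rw [← add_smul, ← two_mul, mul_inv_cancel₀ h2, one_smul]
  simp [h3, Matrix.fromBlocks_one]

theorem oz_to_odd [Fintype F] (h2 : (2 : F) ≠ 0) (r m : ℕ) (χ : F[X])
    (hd : χ.natDegree = 2 * m + 1) (hz : Oz r χ) :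
    ∃ s : GL (Unit ⊕ (Fin m ⊕ Fin m)) F, s ∈ Cfsg.isometryGroup F (Cfsg.quadFormOdd m F) ∧
      (s : Matrix (Unit ⊕ (Fin m ⊕ Fin m)) (Unit ⊕ (Fin m ⊕ Fin m)) F).charpoly = χ ∧
      s ^ r = 1 := by
  obtain ⟨ι, _, _, g, gi, N, Bi, hg, hk, hN, hB, hχ⟩ := hz
  have hcard : Fintype.card ι = 2 * m + 1 := by
    rw [← hd, ← hχ, Matrix.charpoly_natDegree_eq_dim]
  obtain ⟨φ, c, hc, hφ⟩ := Cfsg.Agent.Lib.helper4.sim_odd h2 m (ι → F)
    (Unit ⊕ (Fin m ⊕ Fin m) → F) (qN N) (qN (NOdd m))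
    (by rw [Module.finrank_fintype_fun_eq_card, hcard])
    (by rw [Module.finrank_fintype_fun_eq_card]; simp; omega)
    (qN_sep N Bi hB) (qN_sep (NOdd m) _ (NOdd_B h2 m))
  obtain ⟨s, hs1, hs2, hs3⟩ := transfer g gi N hg hN (Cfsg.quadFormOdd m F) φ c
    (fun v => by rw [← qN_NOdd, hφ, qN_apply])
  exact ⟨s, fun u v => hs1 u, hs2.trans hχ, hs3 r hk⟩

/-! ### Conjugacy -/

/-- semisimple isometries of odd order conjugate in `GL` are conjugate by an isometry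
(`S2590` on an arbitrary index type) -/
theorem orth_conj_of_gl [Finite F] {ι : Type} [Fintype ι] [DecidableEq ι]
    (Q : QuadraticForm F (ι → F))
    (hQ : ∀ x, (∀ y, QuadraticMap.polar (⇑Q) x y = 0) → x = 0)
    (Am Ai Bm Bi x xi : Matrix ι ι F) (hAAi : Am * Ai = 1) (hBBi : Bm * Bi = 1)
    (hxxi : x * xi = 1) (hQA : ∀ v, Q (Am *ᵥ v) = Q v) (hQB : ∀ v, Q (Bm *ᵥ v) = Q v)
    (hxA : x * Am = Bm * x) (k : ℕ) (hodd : Odd k) (hkF : (k : F) ≠ 0) (hAk : Am ^ k = 1) :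
    ∃ s si : Matrix ι ι F, s * si = 1 ∧ s * Am = Bm * s ∧ ∀ v, Q (s *ᵥ v) = Q v := by
  classical
  obtain ⟨n, ⟨e⟩⟩ : ∃ n, Nonempty (ι ≃ Fin n) := ⟨Fintype.card ι, ⟨Fintype.equivFin ι⟩⟩
  obtain ⟨Q', hQ'⟩ : ∃ Q' : QuadraticForm F (Fin n → F), ∀ w, Q' w = Q (w ∘ e) :=
    ⟨Q.comp ((LinearEquiv.funCongrLeft F F e : (Fin n → F) ≃ₗ[F] (ι → F)) :
      (Fin n → F) →ₗ[F] (ι → F)), fun w => rfl⟩
  obtain ⟨T, hT⟩ : ∃ T : Matrix ι ι F → Matrix (Fin n) (Fin n) F,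
      ∀ M, T M = M.submatrix e.symm e.symm := ⟨_, fun M => rfl⟩
  obtain ⟨T', hT'⟩ : ∃ T' : Matrix (Fin n) (Fin n) F → Matrix ι ι F,
      ∀ M, T' M = M.submatrix e e := ⟨_, fun M => rfl⟩
  have hTmul : ∀ M N, T (M * N) = T M * T N := by
    intro M N
    rw [hT, hT, hT, Matrix.submatrix_mul_equiv]
  have hTone : T 1 = 1 := by rw [hT, Matrix.submatrix_one_equiv]
  have hT'mul : ∀ M N, T' (M * N) = T' M * T' N := by
    intro M N
    rw [hT', hT', hT', Matrix.submatrix_mul_equiv]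
  have hT'one : T' 1 = 1 := by rw [hT', Matrix.submatrix_one_equiv]
  have hT'T : ∀ M, T' (T M) = M := by
    intro M
    rw [hT', hT, Matrix.submatrix_submatrix]
    simp
  have hTv : ∀ (M : Matrix ι ι F) (w : Fin n → F), (T M *ᵥ w) ∘ e = M *ᵥ (w ∘ e) := by
    intro M w
    rw [hT, Matrix.submatrix_mulVec_equiv]
    funext i
    simp
  have hT'v : ∀ (M : Matrix (Fin n) (Fin n) F) (v : ι → F),
      T' M *ᵥ v = (M *ᵥ (v ∘ e.symm)) ∘ e := by
    intro M v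
    rw [hT', Matrix.submatrix_mulVec_equiv]
  have hTQ : ∀ M : Matrix ι ι F, (∀ v, Q (M *ᵥ v) = Q v) → ∀ w, Q' (T M *ᵥ w) = Q' w := by
    intro M hM w
    rw [hQ', hTv, hM, hQ']
  have hpolar : ∀ a b : Fin n → F,
      QuadraticMap.polar (⇑Q') a b = QuadraticMap.polar (⇑Q) (a ∘ e) (b ∘ e) := by
    intro a b
    unfold QuadraticMap.polar
    rw [hQ', hQ', hQ']
    rfl
  have hsep : ∀ a : Fin n → F, (∀ b, QuadraticMap.polar (⇑Q') a b = 0) → a = 0 := by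
    intro a ha
    have h1 : a ∘ e = 0 := by
      apply hQ
      intro y
      have h2 := ha (y ∘ e.symm)
      rw [hpolar] at h2
      have h3 : (y ∘ e.symm) ∘ e = y := by funext i; simp
      rwa [h3] at h2
    funext j
    have h4 := congrFun h1 (e.symm j)
    simpa using h4
  have hnd : (QuadraticMap.polarBilin Q').Nondegenerate := by
    constructor
    · intro a ha
      exact hsep a (fun b => by rw [← QuadraticMap.polarBilin_apply_apply]; exact ha b)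
    · intro b hb
      exact hsep b (fun a => by
        rw [QuadraticMap.polar_comm, ← QuadraticMap.polarBilin_apply_apply]; exact hb a)
  obtain ⟨G, hGdef⟩ : ∃ G : Matrix (Fin n) (Fin n) F,
      G = LinearMap.BilinForm.toMatrix' (QuadraticMap.polarBilin Q') := ⟨_, rfl⟩
  have hβ : ∀ u v : Fin n → F, QuadraticMap.polar (⇑Q') u v = u ⬝ᵥ G *ᵥ v := by
    intro u v
    have := congrArg (fun B : LinearMap.BilinForm F (Fin n → F) => B u v)
      (Matrix.toBilin'_toMatrix' (QuadraticMap.polarBilin Q'))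
    simp only [Matrix.toBilin'_apply'] at this
    rw [← QuadraticMap.polarBilin_apply_apply, hGdef]
    exact this.symm
  have hGsym : Gᵀ = G := by
    apply Cfsg.Agent.S2589.mat_ext_bil
    intro v w
    rw [← Cfsg.Agent.S2589.dot_tr, ← hβ, dotProduct_comm, ← hβ, QuadraticMap.polar_comm]
  have hGu : IsUnit G := by
    rw [← Matrix.mulVec_injective_iff_isUnit]
    have key : ∀ v, G *ᵥ v = 0 → v = 0 := by
      intro v hv
      apply hnd.2
      intro u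
      rw [QuadraticMap.polarBilin_apply_apply, hβ, hv, dotProduct_zero]
    intro v w hvw
    have := key (v - w) (by rw [Matrix.mulVec_sub, hvw, sub_self])
    exact sub_eq_zero.mp this
  have hG : G * G⁻¹ = 1 := Matrix.mul_nonsing_inv _ ((Matrix.isUnit_iff_isUnit_det _).mp hGu)
  obtain ⟨s, si, hssi, hsA, hsQ⟩ := Cfsg.Agent.S2590.core Q' hnd G G⁻¹ hG hGsym hβ
    (T Am) (T Ai) (T Bm) (T Bi) (T x) (T xi)
    (by rw [← hTmul, hAAi, hTone]) (by rw [← hTmul, hBBi, hTone]) (by rw [← hTmul, hxxi, hTone])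
    (hTQ Am hQA) (hTQ Bm hQB) (by rw [← hTmul, ← hTmul, hxA]) k hodd hkF
    (by
      have hpow : ∀ j : ℕ, T Am ^ j = T (Am ^ j) := by
        intro j
        induction j with
        | zero => rw [pow_zero, pow_zero, hTone]
        | succ j ih => rw [pow_succ, pow_succ, hTmul, ih]
      rw [hpow, hAk, hTone])
  refine ⟨T' s, T' si, by rw [← hT'mul, hssi, hT'one], ?_, ?_⟩
  · have h5 := congrArg T' hsA
    rw [hT'mul, hT'mul, hT'T, hT'T] at h5
    exact h5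
  · intro v
    rw [hT'v]
    have h6 := hsQ (v ∘ e.symm)
    rw [hQ', hQ'] at h6
    have h7 : (v ∘ e.symm) ∘ e = v := by funext i; simp
    rw [h7] at h6
    exact h6

end Cfsg.Agent.Lib.helper10.OrthRz
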