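import Mathlib
import Cfsg.Agent.Lib.helper10.OrthRz
import Cfsg.Agent.S2645
import Cfsg.Agent.S2568

/-!
# Counting classes of elements of odd prime order in isometry groups of quadratic forms
-/

set_option autoImplicit false

namespace Cfsg.Agent.Lib.helper10.OrthCount

open Polynomial Matrix UniqueFactorizationMonoid
open Cfsg.Agent.Lib.helper18.SpRz Cfsg.Agent.Lib.helper18.RCF Cfsg.Agent.Lib.helper10.OrthRz

universe u
variable {F : Type u} [Field F]

theorem card_inv_gen {α : Type*} [DecidableEq α] (x₀ : α) (S T : Finset α) (σ : α → α)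
    (hσ : Function.Involutive σ) (hx : x₀ ∉ S) (hσx : σ x₀ = x₀)
    (hTS : T ⊆ S) (hT1 : ∀ P ∈ S, P ∈ T ↔ σ P ∉ T) (hσS : ∀ P ∈ S, σ P ∈ S)
    (ok : ℕ → Prop) (slack : ℕ → ℕ) :
    Nat.card {M : Multiset α // (∀ h ∈ M, h = x₀ ∨ h ∈ S) ∧ M.map σ = M ∧
      ok (Multiset.card (M.filter (fun h => h ≠ x₀))) ∧
      M.count x₀ = slack (Multiset.card (M.filter (fun h => h ≠ x₀)))} =
    Nat.card {N : Multiset α // (∀ h ∈ N, h ∈ T) ∧ ok (2 * Multiset.card N)} := by
  have hxT : x₀ ∉ T := fun h => hx (hTS h)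
  have hc2 : ∀ M : Multiset α, (∀ h ∈ M, h = x₀ ∨ h ∈ S) → M.map σ = M →
      Multiset.card (M.filter (fun h => h ≠ x₀)) = 2 * Multiset.card (M.filter (fun h => h ∈ T)) := by
    intro M hM hMσ
    have e1 : M.filter (fun h => h ≠ x₀) =
        (M.filter (fun h => h ≠ x₀)).filter (fun h => h ∈ T) +
        (M.filter (fun h => h ≠ x₀)).filter (fun h => ¬ h ∈ T) :=
      (Multiset.filter_add_not _ _).symm
    have e2 : (M.filter (fun h => h ≠ x₀)).filter (fun h => h ∈ T) = M.filter (fun h => h ∈ T) := by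
      rw [Multiset.filter_filter]
      apply Multiset.filter_congr
      intro h _
      constructor
      · exact fun h1 => h1.1
      · exact fun h1 => ⟨h1, fun h2 => hxT (h2 ▸ h1)⟩
    have e3 : (M.filter (fun h => h ≠ x₀)).filter (fun h => ¬ h ∈ T) =
        M.filter ((fun h => h ∈ T) ∘ σ) := by
      rw [Multiset.filter_filter]
      apply Multiset.filter_congr
      intro h hh
      show (h ∉ T ∧ h ≠ x₀) ↔ σ h ∈ T
      constructor
      · rintro ⟨h1, h2⟩
        have hS : h ∈ S := (hM h hh).resolve_left h2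
        by_contra h3
        exact h1 ((hT1 h hS).2 h3)
      · intro h1
        have hS : h ∈ S := by
          have := hσS (σ h) (hTS h1)
          rwa [hσ h] at this
        exact ⟨fun h2 => (hT1 h hS).1 h2 h1, fun h2 => hx (h2 ▸ hS)⟩
    have e4 : Multiset.card (M.filter ((fun h => h ∈ T) ∘ σ)) =
        Multiset.card (M.filter (fun h => h ∈ T)) := by
      conv_rhs => rw [← hMσ, Multiset.filter_map, Multiset.card_map]
    rw [e1, Multiset.card_add, e2, e3, e4, two_mul]
  apply Nat.card_congr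
  refine Equiv.ofBijective (fun M => ⟨M.1.filter (fun h => h ∈ T), ?_, ?_⟩) ⟨?_, ?_⟩
  · intro h hh
    exact (Multiset.mem_filter.1 hh).2
  · have := hc2 M.1 M.2.1 M.2.2.1
    have h1 := M.2.2.2.1
    rw [this] at h1
    exact h1
  · rintro ⟨M₁, h1, h2, h3, h4⟩ ⟨M₂, h1', h2', h3', h4'⟩ heq
    have heq' : M₁.filter (fun h => h ∈ T) = M₂.filter (fun h => h ∈ T) := congrArg Subtype.val heq
    apply Subtype.ext
    show M₁ = M₂
    have hT' : ∀ a ∈ T, M₁.count a = M₂.count a := by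
      intro a ha
      rw [← Multiset.count_filter_of_pos (p := fun h => h ∈ T) ha, heq',
        Multiset.count_filter_of_pos (p := fun h => h ∈ T) ha]
    have hcnt : ∀ (M : Multiset α), M.map σ = M → ∀ a, M.count a = M.count (σ a) := by
      intro M hMσ a
      conv_lhs => rw [← hMσ, ← hσ a]
      exact Multiset.count_map_eq_count' σ M hσ.injective (σ a)
    ext a
    by_cases ha0 : a = x₀
    · rw [ha0, h4, h4', hc2 M₁ h1 h2, hc2 M₂ h1' h2', heq']
    by_cases haT : a ∈ T
    · exact hT' a haT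
    by_cases haσ : σ a ∈ T
    · rw [hcnt M₁ h2 a, hcnt M₂ h2' a]
      exact hT' _ haσ
    · have hnm : ∀ M : Multiset α, (∀ h ∈ M, h = x₀ ∨ h ∈ S) → a ∉ M := by
        intro M hM ha
        have hS : a ∈ S := (hM a ha).resolve_left ha0
        exact haT ((hT1 a hS).2 haσ)
      rw [Multiset.count_eq_zero_of_notMem (hnm M₁ h1), Multiset.count_eq_zero_of_notMem (hnm M₂ h1')]
  · rintro ⟨N, hN1, hN2⟩
    have hNS : ∀ h ∈ N, h ≠ x₀ := fun h hh h0 => hxT (h0 ▸ hN1 h hh)
    have hσNS : ∀ h ∈ N.map σ, h ∈ S ∧ h ∉ T := by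
      intro h hh
      rw [Multiset.mem_map] at hh
      obtain ⟨b, hb, rfl⟩ := hh
      exact ⟨hσS b (hTS (hN1 b hb)), (hT1 b (hTS (hN1 b hb))).1 (hN1 b hb)⟩
    have hσN0 : ∀ h ∈ N.map σ, h ≠ x₀ := fun h hh h0 => hx (h0 ▸ (hσNS h hh).1)
    obtain ⟨k, hk⟩ : ∃ k, k = slack (2 * Multiset.card N) := ⟨_, rfl⟩
    have hf : (N + N.map σ + Multiset.replicate k x₀).filter (fun h => h ≠ x₀) = N + N.map σ := by
      rw [Multiset.filter_add, Multiset.filter_add, Multiset.filter_eq_self.2 hNS,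
        Multiset.filter_eq_self.2 hσN0, Multiset.filter_eq_nil.2, add_zero]
      intro h hh
      rw [Multiset.eq_of_mem_replicate hh]
      exact not_not.2 rfl
    have hfc : Multiset.card ((N + N.map σ + Multiset.replicate k x₀).filter (fun h => h ≠ x₀)) =
        2 * Multiset.card N := by
      rw [hf, Multiset.card_add, Multiset.card_map, two_mul]
    refine ⟨⟨N + N.map σ + Multiset.replicate k x₀, ?_, ?_, ?_, ?_⟩, ?_⟩
    · intro h hh
      rw [Multiset.mem_add, Multiset.mem_add] at hh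
      rcases hh with (hh | hh) | hh
      · exact Or.inr (hTS (hN1 h hh))
      · exact Or.inr (hσNS h hh).1
      · exact Or.inl (Multiset.eq_of_mem_replicate hh)
    · rw [Multiset.map_add, Multiset.map_add, Multiset.map_map, hσ.comp_self, Multiset.map_id,
        Multiset.map_replicate, hσx, add_comm (N.map σ) N]
    · rw [hfc]; exact hN2
    · rw [hfc, Multiset.count_add, Multiset.count_add, Multiset.count_replicate_self,
        Multiset.count_eq_zero_of_notMem (fun h => hNS _ h rfl),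
        Multiset.count_eq_zero_of_notMem (fun h => hσN0 _ h rfl), hk, zero_add, zero_add]
    · apply Subtype.ext
      show (N + N.map σ + Multiset.replicate k x₀).filter (fun h => h ∈ T) = N
      rw [Multiset.filter_add, Multiset.filter_add, Multiset.filter_eq_self.2 hN1,
        Multiset.filter_eq_nil.2 (fun h hh => (hσNS h hh).2), Multiset.filter_eq_nil.2, add_zero,
        add_zero]
      intro h hh
      rw [Multiset.eq_of_mem_replicate hh]
      exact hxT

/-- an isometry of a nondegenerate quadratic form has the characteristic polynomial of its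
inverse -/
theorem orth_charpoly_inv {ι : Type} [Fintype ι] [DecidableEq ι] (N Bi g gi : Matrix ι ι F)
    (hB : (N + Nᵀ) * Bi = 1) (hg : g * gi = 1)
    (hQ : ∀ v : ι → F, (g *ᵥ v) ⬝ᵥ N *ᵥ (g *ᵥ v) = v ⬝ᵥ N *ᵥ v) :
    gi.charpoly = g.charpoly := by
  have hB' : Bi * (N + Nᵀ) = 1 := mul_eq_one_comm.mp hB
  have hpol : ∀ x y : ι → F, x ⬝ᵥ (gᵀ * (N + Nᵀ) * g) *ᵥ y = x ⬝ᵥ (N + Nᵀ) *ᵥ y := by
    intro x y
    have h1 := hQ (x + y)
    have h2 := hQ x
    have h3 := hQ y
    have e1 : ∀ a b : ι → F, a ⬝ᵥ (N + Nᵀ) *ᵥ b = a ⬝ᵥ N *ᵥ b + b ⬝ᵥ N *ᵥ a := by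
      intro a b
      rw [Matrix.add_mulVec, dotProduct_add, ← mulVec_dot N a b, dotProduct_comm (N *ᵥ a) b]
    have e2 : x ⬝ᵥ (gᵀ * (N + Nᵀ) * g) *ᵥ y = (g *ᵥ x) ⬝ᵥ (N + Nᵀ) *ᵥ (g *ᵥ y) := by
      rw [mulVec_dot, Matrix.mulVec_mulVec, Matrix.mulVec_mulVec]
    rw [e2, e1, e1]
    rw [Matrix.mulVec_add, Matrix.mulVec_add, dotProduct_add, add_dotProduct, add_dotProduct,
      h2, h3, Matrix.mulVec_add, dotProduct_add, add_dotProduct, add_dotProduct] at h1
    linear_combination h1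
  have hmat : gᵀ * (N + Nᵀ) * g = N + Nᵀ := Cfsg.Agent.S2589.mat_ext_bil _ _ hpol
  have h4 : gᵀ * (N + Nᵀ) = (N + Nᵀ) * gi := by
    calc gᵀ * (N + Nᵀ) = gᵀ * (N + Nᵀ) * (g * gi) := by rw [hg, Matrix.mul_one]
      _ = (gᵀ * (N + Nᵀ) * g) * gi := by rw [Matrix.mul_assoc _ g gi]
      _ = (N + Nᵀ) * gi := by rw [hmat]
  calc gi.charpoly = (Bi * ((N + Nᵀ) * gi)).charpoly := by
        rw [← Matrix.mul_assoc, hB', Matrix.one_mul]
    _ = (Bi * (gᵀ * (N + Nᵀ))).charpoly := by rw [h4]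
    _ = ((gᵀ * (N + Nᵀ)) * Bi).charpoly := Matrix.charpoly_mul_comm _ _
    _ = gᵀ.charpoly := by rw [Matrix.mul_assoc, hB, Matrix.mul_one]
    _ = g.charpoly := Matrix.charpoly_transpose g

theorem card_filter_two {α : Type*} [DecidableEq α] (x₀ : α) (S T : Finset α) (σ : α → α)
    (hσ : Function.Involutive σ) (hx : x₀ ∉ S)
    (hTS : T ⊆ S) (hT1 : ∀ P ∈ S, P ∈ T ↔ σ P ∉ T) (hσS : ∀ P ∈ S, σ P ∈ S)
    (M : Multiset α) (hM : ∀ h ∈ M, h = x₀ ∨ h ∈ S) (hMσ : M.map σ = M) :
    Multiset.card (M.filter (fun h => h ≠ x₀)) =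
      2 * Multiset.card (M.filter (fun h => h ∈ T)) := by
  have hxT : x₀ ∉ T := fun h => hx (hTS h)
  have e1 : M.filter (fun h => h ≠ x₀) =
      (M.filter (fun h => h ≠ x₀)).filter (fun h => h ∈ T) +
      (M.filter (fun h => h ≠ x₀)).filter (fun h => ¬ h ∈ T) :=
    (Multiset.filter_add_not _ _).symm
  have e2 : (M.filter (fun h => h ≠ x₀)).filter (fun h => h ∈ T) = M.filter (fun h => h ∈ T) := by
    rw [Multiset.filter_filter]
    apply Multiset.filter_congr
    intro h _
    constructor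
    · exact fun h1 => h1.1
    · exact fun h1 => ⟨h1, fun h2 => hxT (h2 ▸ h1)⟩
  have e3 : (M.filter (fun h => h ≠ x₀)).filter (fun h => ¬ h ∈ T) =
      M.filter ((fun h => h ∈ T) ∘ σ) := by
    rw [Multiset.filter_filter]
    apply Multiset.filter_congr
    intro h hh
    show (h ∉ T ∧ h ≠ x₀) ↔ σ h ∈ T
    constructor
    · rintro ⟨h1, h2⟩
      have hS : h ∈ S := (hM h hh).resolve_left h2
      by_contra h3
      exact h1 ((hT1 h hS).2 h3)
    · intro h1
      have hS : h ∈ S := by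
        have := hσS (σ h) (hTS h1)
        rwa [hσ h] at this
      exact ⟨fun h2 => (hT1 h hS).1 h2 h1, fun h2 => hx (h2 ▸ hS)⟩
  have e4 : Multiset.card (M.filter ((fun h => h ∈ T) ∘ σ)) =
      Multiset.card (M.filter (fun h => h ∈ T)) := by
    conv_rhs => rw [← hMσ, Multiset.filter_map, Multiset.card_map]
  rw [e1, Multiset.card_add, e2, e3, e4, two_mul]

theorem deg_sum [DecidableEq F[X]] (i : ℕ) (S : Finset F[X])
    (hS1 : ∀ P ∈ S, P.natDegree = i) (M : Multiset F[X])
    (hM : ∀ h ∈ M, h = X - 1 ∨ h ∈ S) :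
    (M.map natDegree).sum =
      M.count (X - 1) + i * Multiset.card (M.filter (fun h => h ≠ X - 1)) := by
  have hx0d : (X - 1 : F[X]).natDegree = 1 := by simpa using natDegree_X_sub_C (1 : F)
  have hfi : ∀ h ∈ M.filter (fun h => h ≠ X - 1), h.natDegree = i := by
    intro h hh
    rw [Multiset.mem_filter] at hh
    exact hS1 h ((hM h hh.1).resolve_left hh.2)
  conv_lhs => rw [ms_decomp (X - 1 : F[X]) M]
  rw [Multiset.map_add, Multiset.sum_add, Multiset.map_replicate, Multiset.sum_replicate, hx0d,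
    smul_eq_mul, mul_one, add_comm, Multiset.map_congr rfl hfi, Multiset.map_const',
    Multiset.sum_replicate, smul_eq_mul, mul_comm]

/-- the part of a `σ`-stable multiset away from `X - 1` is realized by an isometry of a
nondegenerate quadratic form without nonzero fixed vectors -/
theorem oz_filter [DecidableEq F] [DecidableEq F[X]] (r i : ℕ) (hr : Odd r) (S : Finset F[X])
    (hxS : (X - 1 : F[X]) ∉ S)
    (hS1 : ∀ P ∈ S, P.Monic ∧ Irreducible P ∧ P.natDegree = i ∧ P ∣ (X ^ r - 1 : F[X]))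
    (σ : F[X] → F[X]) (hσinv : Function.Involutive σ) (hσx : σ (X - 1) = X - 1)
    (hσSS : ∀ P ∈ S, σ P ∈ S)
    (hat1 : ∀ P ∈ S, σ P = P → Rz r P ∧ Even i)
    (hat2 : ∀ P ∈ S, σ P ≠ P → Rz r (P * σ P))
    (M : Multiset F[X]) (hM : ∀ h ∈ M, h = X - 1 ∨ h ∈ S) (hMσ : M.map σ = M)
    (hev : Even (i * Multiset.card (M.filter (fun h => h ≠ X - 1)))) :
    Oz r (M.filter (fun h => h ≠ X - 1)).prod := by
  have hx0m : (X - 1 : F[X]).Monic := by simpa using monic_X_sub_C (1 : F)
  have hx0i : Irreducible (X - 1 : F[X]) := by simpa using irreducible_X_sub_C (1 : F)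
  have hM' : ∀ h ∈ M.filter (fun h => h ≠ X - 1), h ∈ S := by
    intro h hh
    rw [Multiset.mem_filter] at hh
    exact (hM h hh.1).resolve_left hh.2
  have hσ' : (M.filter (fun h => h ≠ X - 1)).map σ = M.filter (fun h => h ≠ X - 1) := by
    have e1 : M.filter ((fun h => h ≠ X - 1) ∘ σ) = M.filter (fun h => h ≠ X - 1) := by
      apply Multiset.filter_congr
      intro h hh
      show σ h ≠ X - 1 ↔ h ≠ X - 1
      rcases hM h hh with rfl | hS
      · rw [hσx]
      · constructor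
        · intro _ h0
          exact hxS (h0 ▸ hS)
        · intro _ h0
          exact hxS (h0 ▸ hσSS h hS)
    conv_rhs => rw [← hMσ, Multiset.filter_map, e1]
  have hdeg : ((M.filter (fun h => h ≠ X - 1)).map natDegree).sum =
      i * Multiset.card (M.filter (fun h => h ≠ X - 1)) := by
    rw [Multiset.map_congr rfl (fun h hh => (hS1 h (hM' h hh)).2.2.1), Multiset.map_const',
      Multiset.sum_replicate, smul_eq_mul, mul_comm]
  have hz : Rz r (M.filter (fun h => h ≠ X - 1)).prod :=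
    rz_multiset r S σ i (fun P hP => ⟨(hS1 P hP).1, (hS1 P hP).2.2.1⟩) hσSS
      (fun P _ => hσinv P) hat1 hat2 _ _ rfl (fun h hh => Or.inr (hM' h hh)) hσ'
      (by rw [hdeg]; exact hev)
  apply oz_of_rz hr hz
  intro h0
  have hdvd : (X - C (1 : F)) ∣ (M.filter (fun h => h ≠ X - 1)).prod :=
    Polynomial.dvd_iff_isRoot.2 h0
  rw [map_one] at hdvd
  obtain ⟨a, ha, hda⟩ := hx0i.prime.exists_mem_multiset_dvd hdvd
  have haS := hM' a ha
  have := eq_of_monic_of_associated hx0m (hS1 a haS).1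
    (hx0i.associated_of_dvd (hS1 a haS).2.1 hda)
  exact hxS (this ▸ haS)

/-- the irreducible factors of `X ^ r - 1` other than `X - 1` and the involution induced on
them by inversion -/
theorem sigma_setup [Fintype F] {p q : ℕ} [Fact p.Prime] [CharP F p] [DecidableEq F]
    [DecidableEq F[X]]
    (hF : Fintype.card F = q) (r i t : ℕ) (hr : r.Prime) (hr2 : r ≠ 2) (hrp : r ≠ p)
    (hi : i = orderOf (q : ZMod r)) (ht : t * i = r - 1) :
    ∃ (S : Finset F[X]) (σ : F[X] → F[X]), S.card = t ∧ (X - 1 : F[X]) ∉ S ∧ 0 < i ∧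
      (∀ P ∈ S, P.Monic ∧ Irreducible P ∧ P.natDegree = i ∧ P ∣ (X ^ r - 1 : F[X])) ∧
      (∀ h : F[X], h.Monic → Irreducible h → h ∣ (X ^ r - 1 : F[X]) → h = X - 1 ∨ h ∈ S) ∧
      Function.Involutive σ ∧ σ (X - 1) = X - 1 ∧ (∀ P ∈ S, σ P ∈ S) ∧
      (∀ P ∈ S, σ P = P → Rz r P ∧ Even i) ∧
      (∀ P ∈ S, σ P ≠ P → Rz r (P * σ P)) ∧
      (Odd i → ∀ P ∈ S, σ P ≠ P) ∧ (¬ Odd i → ∀ P ∈ S, σ P = P) ∧
      (∀ P, P = X - 1 ∨ P ∈ S → σ P = st P) := by
  classical
  obtain ⟨S, hSc, hxS, hipos, hS1, hS2⟩ := Cfsg.Agent.S2568.cyc_facts hF r i t hr hrp hi ht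
  have hrF : (r : F) ≠ 0 := cast_ne_zero_of_coprime p r ((Nat.coprime_primes hr Fact.out).2 hrp)
  have hrodd : Odd r := hr.odd_of_ne_two hr2
  have hx0m : (X - 1 : F[X]).Monic := by simpa using monic_X_sub_C (1 : F)
  have hx0i : Irreducible (X - 1 : F[X]) := by simpa using irreducible_X_sub_C (1 : F)
  have hmat : ∀ P ∈ S, ∃ A Ai : Matrix (Fin i) (Fin i) F, A ^ r = 1 ∧ A * Ai = 1 ∧
      A.charpoly = P ∧ A ≠ 1 := by
    intro P hP
    obtain ⟨hPm, hPi, hPd, hPr⟩ := hS1 P hP
    obtain ⟨A, hA, hAc⟩ := exists_mat_of_multiset (n := i) ({P} : Multiset F[X]) r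
      (by intro h hh; rw [Multiset.mem_singleton] at hh; rw [hh]; exact ⟨hPm, hPr⟩)
      (by rw [Multiset.map_singleton, Multiset.sum_singleton, hPd])
    rw [Multiset.prod_singleton] at hAc
    refine ⟨A, A ^ (r - 1), hA, ?_, hAc, ?_⟩
    · rw [← pow_succ', Nat.sub_add_cancel hr.pos, hA]
    · intro h1
      rw [h1, Matrix.charpoly_one, Fintype.card_fin] at hAc
      have hdvd : (X - 1 : F[X]) ∣ P := by rw [← hAc]; exact dvd_pow_self _ hipos.ne'
      have := eq_of_monic_of_associated hx0m hPm (hx0i.associated_of_dvd hPi hdvd)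
      exact hxS (this ▸ hP)
  have hstS : ∀ P ∈ S, st P ∈ S := by
    intro P hP
    obtain ⟨A, Ai, hA, hAi, hAc, hA1⟩ := hmat P hP
    have hAi' : Ai * A = 1 := mul_eq_one_comm.mp hAi
    have hAir : Ai ^ r = 1 := by
      have hcomm : Commute A Ai := by rw [Commute, SemiconjBy, hAi, hAi']
      have := hcomm.mul_pow r
      rw [hAi, one_pow, hA, one_mul] at this
      exact this.symm
    have h1 : Ai.charpoly = st P := by rw [charpoly_inv A Ai hAi, hAc]
    have hirr : Irreducible (st P) := st_irr P (hS1 P hP).2.1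
    have hdvd : st P ∣ X ^ r - 1 :=
      factor_dvd_of_pow_eq_one Ai r hAir (st P) hirr (by rw [h1])
    rcases hS2 (st P) (st_monic P (hS1 P hP).1.ne_zero) hirr hdvd with h | h
    · exfalso
      have := st_st P (hS1 P hP).1
      rw [h, st_X_sub_one] at this
      exact hxS (this ▸ hP)
    · exact h
  obtain ⟨σ, hσdef⟩ : ∃ σ : F[X] → F[X], σ = fun P => if P ∈ S then st P else P := ⟨_, rfl⟩
  have hσS : ∀ P ∈ S, σ P = st P := by
    intro P hP; rw [hσdef]; exact if_pos hP
  have hσnS : ∀ P, P ∉ S → σ P = P := by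
    intro P hP; rw [hσdef]; exact if_neg hP
  have hσinv : Function.Involutive σ := by
    intro P
    by_cases hP : P ∈ S
    · rw [hσS P hP, hσS _ (hstS P hP), st_st P (hS1 P hP).1]
    · rw [hσnS P hP, hσnS P hP]
  have hσx : σ (X - 1) = X - 1 := hσnS _ hxS
  have hσSS : ∀ P ∈ S, σ P ∈ S := fun P hP => by rw [hσS P hP]; exact hstS P hP
  have hat1 : ∀ P ∈ S, σ P = P → Rz r P ∧ Even i := by
    intro P hP hfix
    rw [hσS P hP] at hfix
    obtain ⟨A, Ai, hA, hAi, hAc, hA1⟩ := hmat P hP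
    have hz := rz_self r hrodd hrF A Ai hA hAi (by rw [hAc]; exact (hS1 P hP).2.1) hA1
      (by rw [charpoly_inv A Ai hAi, hAc, hfix])
    have hev := rz_even r _ hz
    rw [hAc] at hz
    rw [hAc, (hS1 P hP).2.2.1] at hev
    exact ⟨hz, hev⟩
  have hat2 : ∀ P ∈ S, σ P ≠ P → Rz r (P * σ P) := by
    intro P hP _
    obtain ⟨A, Ai, hA, hAi, hAc, hA1⟩ := hmat P hP
    have := rz_hyp r A Ai hA hAi
    rwa [charpoly_inv A Ai hAi, hAc, ← hσS P hP] at this
  refine ⟨S, σ, hSc, hxS, hipos, hS1, hS2, hσinv, hσx, hσSS, hat1, hat2, ?_, ?_, ?_⟩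
  · intro hodd P hP hfix
    exact (Nat.not_even_iff_odd.2 hodd) (hat1 P hP hfix).2
  · intro hodd P hP
    have hev : Even i := Nat.not_odd_iff_even.1 hodd
    obtain ⟨e, he⟩ := hev
    have : Fact r.Prime := ⟨hr⟩
    have hq1 : ((q : ZMod r)) ^ e = -1 := by
      have h1 : ((q : ZMod r) ^ e) * ((q : ZMod r) ^ e) = 1 := by
        rw [← pow_add, ← he, hi, pow_orderOf_eq_one]
      rcases mul_self_eq_one_iff.1 h1 with h | h
      · exfalso
        have : e < orderOf (q : ZMod r) := by rw [← hi]; omega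
        exact pow_ne_one_of_lt_orderOf (by omega) this h
      · exact h
    have hdvd : r ∣ q ^ e + 1 := by
      rw [← ZMod.natCast_eq_zero_iff]
      push_cast
      rw [hq1]; ring
    have hfrob : ∀ (A : Matrix (Fin i) (Fin i) F) (k : ℕ),
        (A ^ (q ^ k)).charpoly = A.charpoly := by
      intro A k
      induction k with
      | zero => rw [pow_zero, pow_one]
      | succ k ih =>
        have := FiniteField.Matrix.charpoly_pow_card (A ^ (q ^ k))
        rw [hF] at this
        rw [pow_succ, pow_mul, this, ih]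
    obtain ⟨A, Ai, hA, hAi, hAc, hA1⟩ := hmat P hP
    have hAq : A ^ (q ^ e) * A = 1 := by
      obtain ⟨k, hk⟩ := hdvd
      rw [← pow_succ, hk, pow_mul, hA, one_pow]
    have hAiq : Ai = A ^ (q ^ e) := by
      calc Ai = (A ^ (q ^ e) * A) * Ai := by rw [hAq, Matrix.one_mul]
        _ = A ^ (q ^ e) := by rw [Matrix.mul_assoc, hAi, Matrix.mul_one]
    have h5 := charpoly_inv A Ai hAi
    rw [hAiq, hfrob, hAc] at h5
    rw [hσS P hP]
    exact h5.symm
  · intro P hP
    rcases hP with rfl | hP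
    · rw [hσx, st_X_sub_one]
    · exact hσS P hP

theorem classes_card [Fintype F] {p : ℕ} [Fact p.Prime] [CharP F p]
    [DecidableEq F] [DecidableEq F[X]] {ι : Type} [Fintype ι] [DecidableEq ι]
    (N Bi : Matrix ι ι F) (hB : (N + Nᵀ) * Bi = 1)
    (Qf : (ι → F) → F) (hQf : ∀ v, Qf v = v ⬝ᵥ N *ᵥ v)
    (r i : ℕ) (hr : r.Prime) (hr2 : r ≠ 2) (hrp : r ≠ p) (S : Finset F[X])
    (hxS : (X - 1 : F[X]) ∉ S) (hipos : 0 < i)
    (hS1 : ∀ P ∈ S, P.Monic ∧ Irreducible P ∧ P.natDegree = i ∧ P ∣ (X ^ r - 1 : F[X]))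
    (hS2 : ∀ h : F[X], h.Monic → Irreducible h → h ∣ (X ^ r - 1 : F[X]) → h = X - 1 ∨ h ∈ S)
    (σ : F[X] → F[X]) (ok : ℕ → Prop)
    (H1 : ∀ g : GL ι F, g ∈ Cfsg.isometryGroup F Qf → g ^ r = 1 →
      (∀ h ∈ normalizedFactors g.1.charpoly, h = X - 1 ∨ h ∈ S) →
      (normalizedFactors g.1.charpoly).map σ = normalizedFactors g.1.charpoly ∧
      ok (Multiset.card ((normalizedFactors g.1.charpoly).filter (fun h => h ≠ X - 1))))
    (H2 : ∀ M : Multiset F[X], (∀ h ∈ M, h = X - 1 ∨ h ∈ S) → M.map σ = M →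
      (M.map natDegree).sum = Fintype.card ι →
      ok (Multiset.card (M.filter (fun h => h ≠ X - 1))) →
      ∃ s : GL ι F, s ∈ Cfsg.isometryGroup F Qf ∧ s.1.charpoly = M.prod ∧ s ^ r = 1) :
    Nat.card {C : ConjClasses (Cfsg.isometryGroup F Qf) //
      ∃ g : Cfsg.isometryGroup F Qf, ConjClasses.mk g = C ∧ orderOf g = r} =
    Nat.card {M : Multiset F[X] // (∀ h ∈ M, h = X - 1 ∨ h ∈ S) ∧ M.map σ = M ∧
      ((Multiset.card (M.filter (fun h => h ≠ X - 1)) ≠ 0 ∧
        Multiset.card (M.filter (fun h => h ≠ X - 1)) ≤ Fintype.card ι / i) ∧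
        ok (Multiset.card (M.filter (fun h => h ≠ X - 1)))) ∧
      M.count (X - 1) = Fintype.card ι - i * Multiset.card (M.filter (fun h => h ≠ X - 1))} := by
  have hrF : (r : F) ≠ 0 := cast_ne_zero_of_coprime p r ((Nat.coprime_primes hr Fact.out).2 hrp)
  have hrodd : Odd r := hr.odd_of_ne_two hr2
  have hx0m : (X - 1 : F[X]).Monic := by simpa using monic_X_sub_C (1 : F)
  have hx0i : Irreducible (X - 1 : F[X]) := by simpa using irreducible_X_sub_C (1 : F)
  have hx0d : (X - 1 : F[X]).natDegree = 1 := by simpa using natDegree_X_sub_C (1 : F)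
  have hx0r : (X - 1 : F[X]) ∣ X ^ r - 1 := by simpa using sub_dvd_pow_sub_pow (X : F[X]) 1 r
  have hdegsum : ∀ M : Multiset F[X], (∀ h ∈ M, h = X - 1 ∨ h ∈ S) →
      (M.map natDegree).sum =
        M.count (X - 1) + i * Multiset.card (M.filter (fun h => h ≠ X - 1)) := by
    intro M hM
    have hfi : ∀ h ∈ M.filter (fun h => h ≠ X - 1), h.natDegree = i := by
      intro h hh
      rw [Multiset.mem_filter] at hh
      exact (hS1 h ((hM h hh.1).resolve_left hh.2)).2.2.1
    conv_lhs => rw [ms_decomp (X - 1 : F[X]) M]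
    rw [Multiset.map_add, Multiset.sum_add, Multiset.map_replicate, Multiset.sum_replicate, hx0d,
      smul_eq_mul, mul_one, add_comm, Multiset.map_congr rfl hfi, Multiset.map_const',
      Multiset.sum_replicate, smul_eq_mul, mul_comm]
  have hcp : ∀ a b : Cfsg.isometryGroup F Qf, IsConj a b →
      a.1.1.charpoly = b.1.1.charpoly := by
    intro a b hab
    obtain ⟨c, rfl⟩ := isConj_iff.1 hab
    have e1 : (c * a * c⁻¹ : Cfsg.isometryGroup F Qf).1.1 = c.1.1 * (a.1.1 * (c⁻¹).1.1) := by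
      rw [← Matrix.mul_assoc]; rfl
    have e2 : (c⁻¹).1.1 * c.1.1 = 1 := by
      have : (c⁻¹ * c).1.1 = 1 := by rw [inv_mul_cancel]; rfl
      exact this
    rw [e1, Matrix.charpoly_mul_comm, Matrix.mul_assoc, e2, Matrix.mul_one]
  let cp : ConjClasses (Cfsg.isometryGroup F Qf) → F[X] :=
    Quotient.lift (fun g : Cfsg.isometryGroup F Qf => g.1.1.charpoly) hcp
  have hNFmon : ∀ (f h : F[X]), h ∈ normalizedFactors f → h.Monic := by
    intro f h hh
    rw [← normalize_normalized_factor h hh]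
    exact monic_normalize (irreducible_of_normalized_factor h hh).ne_zero
  have hfac : ∀ A : Matrix ι ι F, A ^ r = 1 →
      ∀ h ∈ normalizedFactors A.charpoly, h = X - 1 ∨ h ∈ S := by
    intro A hA h hh
    have hirr := irreducible_of_normalized_factor h hh
    refine hS2 h (hNFmon _ h hh) hirr ?_
    have haev : aeval (Matrix.toLin' A) (X ^ r - 1 : F[X]) = 0 := by
      rw [map_sub, map_pow, aeval_X, map_one, ← Matrix.toLin'_pow, hA, Matrix.toLin'_one]
      exact sub_self _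
    exact factor_dvd_of_aeval (Matrix.toLin' A) _ haev h hirr
      (by rw [Matrix.charpoly_toLin']; exact dvd_of_mem_normalizedFactors hh)
  have hprodM : ∀ A : Matrix ι ι F,
      (normalizedFactors A.charpoly).prod = A.charpoly := by
    intro A
    apply eq_of_monic_of_associated _ (Matrix.charpoly_monic A)
      (prod_normalizedFactors (Matrix.charpoly_monic A).ne_zero)
    have := monic_multiset_prod_of_monic (normalizedFactors A.charpoly) id
      (fun h hh => hNFmon _ h hh)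
    simpa using this
  have hdegM : ∀ A : Matrix ι ι F,
      ((normalizedFactors A.charpoly).map natDegree).sum = Fintype.card ι := by
    intro A
    rw [← natDegree_multiset_prod_of_monic _ (fun h hh => hNFmon _ h hh), hprodM,
      Matrix.charpoly_natDegree_eq_dim]
  have hone : ∀ A : Matrix ι ι F, A ^ r = 1 →
      (∀ h ∈ normalizedFactors A.charpoly, h = X - 1) → A = 1 := by
    intro A hA hall
    have hM : normalizedFactors A.charpoly =
        Multiset.replicate (Multiset.card (normalizedFactors A.charpoly)) (X - 1) :=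
      Multiset.eq_replicate_card.2 hall
    have hcnt : Multiset.card (normalizedFactors A.charpoly) = Fintype.card ι := by
      have h1 := hdegM A
      rw [hM, Multiset.map_replicate, Multiset.sum_replicate, hx0d, smul_eq_mul, mul_one] at h1
      exact h1
    have hc : A.charpoly = (1 : Matrix ι ι F).charpoly := by
      rw [Matrix.charpoly_one, ← hprodM A, hM, Multiset.prod_replicate, hcnt]
    obtain ⟨c, hc'⟩ := Cfsg.Agent.Lib.helper4.SympSS.mat_isConj_of_charpoly A 1 r hrF hA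
      (one_pow r) hc
    have hc'' : (c : Matrix ι ι F) * A = 1 * c := hc'
    calc A = ((c⁻¹ : (Matrix ι ι F)ˣ) : Matrix _ _ F) * ((c : Matrix ι ι F) * A) := by
          rw [← Matrix.mul_assoc, Units.inv_mul, Matrix.one_mul]
      _ = 1 := by rw [hc'', Matrix.one_mul, Units.inv_mul]
  have hone' : ∀ h ∈ normalizedFactors (1 : Matrix ι ι F).charpoly, h = X - 1 := by
    intro h hh
    have hmon := hNFmon _ h hh
    have hirr := irreducible_of_normalized_factor h hh
    have hd := dvd_of_mem_normalizedFactors hh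
    rw [Matrix.charpoly_one] at hd
    have hd' : h ∣ X - 1 := hirr.prime.dvd_of_dvd_pow hd
    exact eq_of_monic_of_associated hmon hx0m (hirr.associated_of_dvd hx0i hd')
  have hpowmat : ∀ g : Cfsg.isometryGroup F Qf, g ^ r = 1 → g.1.1 ^ r = 1 := by
    intro g hgr
    have h := congrArg (fun x : Cfsg.isometryGroup F Qf => x.1.1) hgr
    simpa using h
  have hQpres : ∀ g : Cfsg.isometryGroup F Qf, ∀ v, qN N (g.1.1 *ᵥ v) = qN N v := by
    intro g v
    rw [qN_apply, qN_apply, ← hQf, ← hQf]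
    exact g.2 v v
  have hinvmat : ∀ g : Cfsg.isometryGroup F Qf, g.1.1 * (g⁻¹).1.1 = 1 := by
    intro g
    have : (g * g⁻¹).1.1 = 1 := by rw [mul_inv_cancel]; rfl
    exact this
  apply Nat.card_congr
  refine Equiv.ofBijective (fun c => ⟨normalizedFactors (cp c.1), ?_⟩) ⟨?_, ?_⟩
  · rcases c with ⟨c, g, rfl, hg⟩
    have hgr : g ^ r = 1 := by rw [← hg, pow_orderOf_eq_one]
    have hA : g.1.1 ^ r = 1 := hpowmat g hgr
    have hgr' : g.1 ^ r = 1 := by
      have h := congrArg (fun x : Cfsg.isometryGroup F Qf => x.1) hgr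
      simpa using h
    have h1 := hfac _ hA
    have h2 := hdegsum _ h1
    rw [hdegM] at h2
    obtain ⟨h3, h4⟩ := H1 g.1 g.2 hgr' h1
    show (∀ h ∈ normalizedFactors g.1.1.charpoly, h = X - 1 ∨ h ∈ S) ∧
      (normalizedFactors g.1.1.charpoly).map σ = normalizedFactors g.1.1.charpoly ∧
      ((Multiset.card ((normalizedFactors g.1.1.charpoly).filter (fun h => h ≠ X - 1)) ≠ 0 ∧
       Multiset.card ((normalizedFactors g.1.1.charpoly).filter (fun h => h ≠ X - 1)) ≤
        Fintype.card ι / i) ∧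
       ok (Multiset.card ((normalizedFactors g.1.1.charpoly).filter (fun h => h ≠ X - 1)))) ∧
      Multiset.count (X - 1) (normalizedFactors g.1.1.charpoly) =
        Fintype.card ι -
          i * Multiset.card ((normalizedFactors g.1.1.charpoly).filter (fun h => h ≠ X - 1))
    refine ⟨h1, h3, ⟨⟨?_, ?_⟩, h4⟩, ?_⟩
    · intro h0
      rw [Multiset.card_eq_zero, Multiset.filter_eq_nil] at h0
      have h5 : g.1.1 = 1 := hone _ hA (fun h hh => not_not.1 (h0 h hh))
      have hg1 : g = 1 := Subtype.ext (Units.ext h5)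
      rw [hg1, orderOf_one] at hg
      exact hr.one_lt.ne hg
    · rw [Nat.le_div_iff_mul_le hipos, mul_comm]
      omega
    · omega
  · rintro ⟨c, g, rfl, hg⟩ ⟨c', g', rfl, hg'⟩ heq
    have heq' : normalizedFactors g.1.1.charpoly = normalizedFactors g'.1.1.charpoly :=
      congrArg Subtype.val heq
    apply Subtype.ext
    show ConjClasses.mk g = ConjClasses.mk g'
    rw [ConjClasses.mk_eq_mk_iff_isConj]
    have hc : g.1.1.charpoly = g'.1.1.charpoly := by
      rw [← hprodM, ← hprodM g'.1.1, heq']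
    have hgr : g ^ r = 1 := by rw [← hg, pow_orderOf_eq_one]
    have hgr' : g' ^ r = 1 := by rw [← hg', pow_orderOf_eq_one]
    obtain ⟨x, hx⟩ := Cfsg.Agent.Lib.helper4.SympSS.mat_isConj_of_charpoly g.1.1 g'.1.1 r hrF
      (hpowmat g hgr) (hpowmat g' hgr') hc
    have hx' : (x : Matrix ι ι F) * g.1.1 = g'.1.1 * x := hx
    obtain ⟨s, si, hssi, hsA, hsQ⟩ := orth_conj_of_gl (qN N) (qN_sep N Bi hB)
      g.1.1 (g⁻¹).1.1 g'.1.1 (g'⁻¹).1.1 (x : Matrix ι ι F) ((x⁻¹ : (Matrix ι ι F)ˣ) : Matrix ι ι F)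
      (hinvmat g) (hinvmat g') (by rw [Units.mul_inv]) (hQpres g) (hQpres g') hx' r hrodd hrF
      (hpowmat g hgr)
    have hsmem : (⟨s, si, hssi, mul_eq_one_comm.mp hssi⟩ : GL ι F) ∈ Cfsg.isometryGroup F Qf := by
      intro u v
      show Qf (s *ᵥ u) = Qf u
      rw [hQf, hQf, ← qN_apply, ← qN_apply]
      exact hsQ u
    rw [isConj_iff]
    refine ⟨⟨⟨s, si, hssi, mul_eq_one_comm.mp hssi⟩, hsmem⟩, ?_⟩
    rw [mul_inv_eq_iff_eq_mul]
    apply Subtype.ext
    apply Units.ext
    exact hsA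
  · rintro ⟨M, hM1, hMσ, ⟨⟨hM2, hM3⟩, hMok⟩, hM4⟩
    have hM3' : i * Multiset.card (M.filter (fun h => h ≠ X - 1)) ≤ Fintype.card ι := by
      rw [mul_comm]
      exact (Nat.le_div_iff_mul_le hipos).1 hM3
    have hdeg : (M.map natDegree).sum = Fintype.card ι := by
      rw [hdegsum M hM1, hM4]
      omega
    have hmonM : ∀ h ∈ M, h.Monic := by
      intro h hh
      rcases hM1 h hh with rfl | hS
      · exact hx0m
      · exact (hS1 h hS).1
    obtain ⟨s, hsmem, hs1, hs2⟩ := H2 M hM1 hMσ hdeg hMok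
    have hNF : normalizedFactors s.1.charpoly = M := by
      rw [hs1, normalizedFactors_prod_eq]
      · refine (Multiset.map_congr rfl ?_).trans (Multiset.map_id _)
        intro h hh
        exact (hmonM h hh).normalize_eq_self
      · intro h hh
        rcases hM1 h hh with rfl | hS
        · exact hx0i
        · exact (hS1 h hS).2.1
    have hs1' : (⟨s, hsmem⟩ : Cfsg.isometryGroup F Qf) ≠ 1 := by
      intro h1
      have h1' : s = 1 := congrArg Subtype.val h1
      apply hM2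
      rw [Multiset.card_eq_zero, Multiset.filter_eq_nil]
      intro h hh
      rw [← hNF, h1'] at hh
      exact not_not.2 (hone' h hh)
    have hs2' : (⟨s, hsmem⟩ : Cfsg.isometryGroup F Qf) ^ r = 1 := by
      apply Subtype.ext
      rw [SubmonoidClass.coe_pow]
      exact hs2
    have : Fact r.Prime := ⟨hr⟩
    refine ⟨⟨ConjClasses.mk ⟨s, hsmem⟩, ⟨s, hsmem⟩, rfl, orderOf_eq_prime hs2' hs1'⟩, ?_⟩
    apply Subtype.ext
    show normalizedFactors s.1.charpoly = M
    exact hNF

end Cfsg.Agent.Lib.helper10.OrthCount
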