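import Mathlib
import Cfsg.Agent.Lib.helper10.OrthCount
import Cfsg.Agent.Lib.helper6.QCount
import Cfsg.Agent.Lib.helper13.UnitaryQuad

/-!
# The type of an even-dimensional quadratic space carrying a fixed-point-free isometry
-/

set_option autoImplicit false

namespace Cfsg.Agent.Lib.helper10.OrthType

open Polynomial Matrix
open Cfsg.Agent.Lib.helper10.OrthRz

universe u
variable {F : Type u} [Field F]

theorem card_dvd_of_free {G X : Type*} [Group G] [Finite X] (act : G → X → X)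
    (h1 : ∀ x, act 1 x = x) (hmul : ∀ a b x, act (a * b) x = act a (act b x))
    (hfree : ∀ a x, act a x = x → a = 1) : Nat.card G ∣ Nat.card X := by
  let inst : MulAction G X := { smul := act, one_smul := h1, mul_smul := hmul }
  have hst : ∀ x : X, MulAction.stabilizer G x = ⊥ := by
    intro x
    rw [eq_bot_iff]
    intro a ha
    exact Subgroup.mem_bot.2 (hfree a x (MulAction.mem_stabilizer_iff.1 ha))
  have e := MulAction.selfEquivOrbitsQuotientProd hst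
  rw [Nat.card_congr e, Nat.card_prod]
  exact dvd_mul_left _ _

theorem eig_pow {ι : Type*} [Fintype ι] [DecidableEq ι] (A : Matrix ι ι F) (c : F) (v : ι → F)
    (hv : A *ᵥ v = c • v) (j : ℕ) : (A ^ j) *ᵥ v = c ^ j • v := by
  induction j with
  | zero => simp
  | succ j ih =>
    rw [pow_succ, ← Matrix.mulVec_mulVec, hv, Matrix.mulVec_smul, ih, smul_smul, pow_succ, mul_comm]

/-- a fixed-point-free isometry of prime order `r` together with the scalars acts freely on the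
nonsingular vectors -/
theorem free_div [Fintype F] {ι : Type} [Fintype ι] [DecidableEq ι] (Qf : (ι → F) → F)
    (hsc : ∀ (μ : F) (v : ι → F), Qf (μ • v) = μ ^ 2 * Qf v)
    (g : GL ι F) (r : ℕ) (hr : r.Prime) (hr2 : r ≠ 2) (hg : g ^ r = 1)
    (hfix : ∀ v : ι → F, g.1 *ᵥ v = v → v = 0)
    (hQ : ∀ v, Qf (g.1 *ᵥ v) = Qf v) :
    r * (Fintype.card F - 1) ∣ Nat.card {v : ι → F // Qf v ≠ 0} := by
  classical
  have hQ0 : Qf 0 = 0 := by
    have h := hsc 0 0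
    rw [zero_smul] at h
    rw [h]; ring
  by_cases hg1 : g = 1
  · have hemp : IsEmpty {v : ι → F // Qf v ≠ 0} :=
      ⟨fun v => v.2 (by rw [hfix v.1 (by rw [hg1]; simp)]; exact hQ0)⟩
    rw [Nat.card_of_isEmpty]
    exact dvd_zero _
  have : Fact r.Prime := ⟨hr⟩
  have hord : orderOf g = r := orderOf_eq_prime hg hg1
  have hmem : g ∈ Cfsg.isometryGroup F Qf := fun u _ => hQ u
  have hle : Subgroup.zpowers g ≤ Cfsg.isometryGroup F Qf := (Subgroup.zpowers_le).2 hmem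
  have hiso : ∀ h : Subgroup.zpowers g, ∀ v, Qf (h.1.1 *ᵥ v) = Qf v := fun h v => hle h.2 v v
  have hcard : Nat.card (Subgroup.zpowers g) = r := by rw [Nat.card_zpowers, hord]
  have hgr : g.1 ^ r = 1 := by
    have h := congrArg Units.val hg
    simpa using h
  have hfix' : ∀ h : Subgroup.zpowers g, h ≠ 1 → ∀ (c : F) (v : ι → F),
      h.1.1 *ᵥ v = c • v → Qf v = 0 := by
    intro h hh c v hv
    by_contra hQv
    have hv0 : v ≠ 0 := fun h0 => hQv (h0 ▸ hQ0)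
    have htop := zpowers_eq_top_of_prime_card hcard hh
    have hgm : (⟨g, Subgroup.mem_zpowers g⟩ : Subgroup.zpowers g) ∈ Subgroup.zpowers h := by
      rw [htop]; trivial
    obtain ⟨n, hn⟩ := (IsOfFinOrder.mem_powers_iff_mem_zpowers (isOfFinOrder_of_finite h)).2 hgm
    have hgv : g.1 *ᵥ v = c ^ n • v := by
      have h3 : g.1 = h.1.1 ^ n := by
        have h4 := congrArg (fun x : Subgroup.zpowers g => x.1.1) hn
        simpa using h4.symm
      rw [h3, eig_pow _ c v hv]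
    have h2 : (c ^ n) ^ 2 = 1 := by
      have h5 := hQ v
      rw [hgv, hsc] at h5
      exact mul_right_cancel₀ hQv (by rw [h5, one_mul])
    have hr' : (c ^ n) ^ r = 1 := by
      have h6 := eig_pow g.1 (c ^ n) v hgv r
      rw [hgr, Matrix.one_mulVec] at h6
      by_contra hne
      have h7 : ((c ^ n) ^ r - 1) • v = 0 := by rw [sub_smul, ← h6, one_smul, sub_self]
      rcases smul_eq_zero.1 h7 with h8 | h8
      · exact hne (sub_eq_zero.1 h8)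
      · exact hv0 h8
    have h1 : c ^ n = 1 := by
      obtain ⟨j, hj⟩ := hr.odd_of_ne_two hr2
      rw [hj, pow_succ, pow_mul, h2, one_pow, one_mul] at hr'
      exact hr'
    rw [h1, one_smul] at hgv
    exact hv0 (hfix v hgv)
  have hdvd := card_dvd_of_free (G := Subgroup.zpowers g × Fˣ) (X := {v : ι → F // Qf v ≠ 0})
    (fun a v => ⟨(a.2 : F) • (a.1.1.1 *ᵥ v.1), by
      rw [hsc, hiso]; exact mul_ne_zero (pow_ne_zero 2 a.2.ne_zero) v.2⟩)
    (by intro x; apply Subtype.ext; simp)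
    (by
      intro a b x
      apply Subtype.ext
      show ((a * b).2 : F) • ((a * b).1.1.1 *ᵥ x.1) =
        (a.2 : F) • (a.1.1.1 *ᵥ ((b.2 : F) • (b.1.1.1 *ᵥ x.1)))
      rw [Matrix.mulVec_smul, smul_smul, Matrix.mulVec_mulVec]
      rfl)
    (by
      rintro ⟨h, μ⟩ ⟨v, hv⟩ hfixed
      have hfx : (μ : F) • (h.1.1 *ᵥ v) = v := congrArg Subtype.val hfixed
      have hv0 : v ≠ 0 := fun h0 => hv (h0 ▸ hQ0)
      have heig : h.1.1 *ᵥ v = ((μ⁻¹ : Fˣ) : F) • v := by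
        calc h.1.1 *ᵥ v = ((μ⁻¹ : Fˣ) : F) • ((μ : F) • (h.1.1 *ᵥ v)) := by
              rw [smul_smul, Units.inv_mul, one_smul]
          _ = ((μ⁻¹ : Fˣ) : F) • v := by rw [hfx]
      have hh1 : h = 1 := by
        by_contra hne
        exact hv (hfix' h hne _ v heig)
      have hμv : (μ : F) • v = v := by
        rw [hh1] at hfx
        simpa using hfx
      have hμ : (μ : F) = 1 := by
        by_contra hne
        have h9 : ((μ : F) - 1) • v = 0 := by rw [sub_smul, hμv, one_smul, sub_self]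
        rcases smul_eq_zero.1 h9 with h | h
        · exact hne (sub_eq_zero.1 h)
        · exact hv0 h
      exact Prod.ext hh1 (Units.ext hμ))
  rw [Nat.card_prod, hcard, Nat.card_eq_fintype_card (α := Fˣ), Fintype.card_units] at hdvd
  exact hdvd

theorem arith_type (q r n Nz Z : ℕ) (ε : ℤ) (hq : 2 ≤ q) (hn : 1 ≤ n) [Fact r.Prime]
    (hQ : (q : ZMod r) ≠ 0)
    (hsum : Nz + Z = q ^ (2 * n))
    (hZ : (Z : ℤ) = (q : ℤ) ^ (2 * n - 1) + ε * ((q : ℤ) ^ n - (q : ℤ) ^ (n - 1)))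
    (hdvd : r * (q - 1) ∣ Nz) :
    (q : ZMod r) ^ n = (ε : ZMod r) := by
  obtain ⟨n', rfl⟩ : ∃ n', n = n' + 1 := ⟨n - 1, by omega⟩
  obtain ⟨c, hc⟩ := hdvd
  have h1 : (Nz : ℤ) = (q : ℤ) ^ (2 * (n' + 1)) - Z := by
    have h := congrArg (Nat.cast : ℕ → ℤ) hsum
    push_cast at h
    linarith
  have e2 : 2 * (n' + 1) - 1 = 2 * n' + 1 := by omega
  rw [e2, Nat.add_sub_cancel] at hZ
  have h2 : (Nz : ℤ) = ((q : ℤ) - 1) * ((q : ℤ) ^ n' * ((q : ℤ) ^ n' * q - ε)) := by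
    rw [h1, hZ]; ring
  have h3 : (Nz : ℤ) = ((q : ℤ) - 1) * (r * c) := by
    rw [hc]
    push_cast [Nat.cast_sub (by omega : 1 ≤ q)]
    ring
  have hs : ((q : ℤ) - 1) ≠ 0 := by
    have : (2 : ℤ) ≤ q := by exact_mod_cast hq
    intro h0
    omega
  have h4 : (q : ℤ) ^ n' * ((q : ℤ) ^ n' * q - ε) = r * c := by
    apply mul_left_cancel₀ hs
    rw [← h2, h3]
  have h5 := congrArg (Int.cast : ℤ → ZMod r) h4
  push_cast at h5
  rw [ZMod.natCast_self, zero_mul] at h5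
  rcases mul_eq_zero.1 h5 with h | h
  · exact absurd h (pow_ne_zero n' hQ)
  · rw [pow_succ]
    exact sub_eq_zero.1 h

theorem card_ne_add_card_eq [Fintype F] {κ : Type} [Fintype κ] (Qf : (κ → F) → F) :
    Nat.card {v : κ → F // Qf v ≠ 0} + Nat.card {v : κ → F // Qf v = 0} =
      Fintype.card F ^ Fintype.card κ := by
  classical
  have h1 : Nat.card {v : κ → F // Qf v ≠ 0} =
      Fintype.card (κ → F) - Fintype.card {v : κ → F // Qf v = 0} := by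
    rw [Nat.card_eq_fintype_card]
    exact Fintype.card_subtype_compl (fun v : κ → F => Qf v = 0)
  rw [h1, Nat.card_eq_fintype_card, ← Fintype.card_fun]
  exact Nat.sub_add_cancel (Fintype.card_subtype_le _)

theorem plus_smul (n : ℕ) (μ : F) (v : Fin n ⊕ Fin n → F) :
    Cfsg.quadFormPlus n F (μ • v) = μ ^ 2 * Cfsg.quadFormPlus n F v := by
  unfold Cfsg.quadFormPlus
  simp only [Pi.smul_apply, smul_eq_mul]
  rw [Finset.mul_sum]
  exact Finset.sum_congr rfl (fun i _ => by ring)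

theorem minus_smul (n : ℕ) (a c : F) (μ : F) (v : (Fin n ⊕ Fin n) ⊕ Fin 2 → F) :
    Cfsg.quadFormMinus n F a c (μ • v) = μ ^ 2 * Cfsg.quadFormMinus n F a c v := by
  unfold Cfsg.quadFormMinus
  simp only [Pi.smul_apply, smul_eq_mul]
  rw [mul_add, Finset.mul_sum]
  congr 1
  · exact Finset.sum_congr rfl (fun i _ => by ring)
  · ring

theorem plus_free [Fintype F] {q : ℕ} (hF : Fintype.card F = q) (n : ℕ) (hn : 1 ≤ n)
    (g : GL (Fin n ⊕ Fin n) F) (r : ℕ) (hr : r.Prime) (hr2 : r ≠ 2) (hQr : (q : ZMod r) ≠ 0)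
    (hg : g ^ r = 1) (hfix : ∀ v : Fin n ⊕ Fin n → F, g.1 *ᵥ v = v → v = 0)
    (hQ : ∀ v, Cfsg.quadFormPlus n F (g.1 *ᵥ v) = Cfsg.quadFormPlus n F v) :
    (q : ZMod r) ^ n = 1 := by
  have : Fact r.Prime := ⟨hr⟩
  have hq2 : 2 ≤ q := by rw [← hF]; exact Fintype.one_lt_card
  have hdvd := free_div (Cfsg.quadFormPlus n F) (plus_smul n) g r hr hr2 hg hfix hQ
  have hsum := card_ne_add_card_eq (Cfsg.quadFormPlus n F)
  have hZ := Cfsg.Agent.Lib.helper6.card_quadPlus_zero hF n hn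
  rw [hF] at hdvd hsum
  rw [Fintype.card_sum, Fintype.card_fin, ← two_mul] at hsum
  have hle : q ^ (n - 1) ≤ q ^ (2 * n - 1) + q ^ n :=
    le_add_left (Nat.pow_le_pow_right (by omega) (by omega))
  have h := arith_type q r n _ _ 1 hq2 hn hQr hsum (by
    rw [hZ]
    push_cast [Nat.cast_sub hle]
    ring) hdvd
  simpa using h

theorem minus_free [Fintype F] {q : ℕ} (hF : Fintype.card F = q) (n : ℕ) (hn : 1 ≤ n) (a c : F)
    (hac : ∀ z₁ z₂ : F, z₁ ^ 2 + a * z₁ * z₂ + c * z₂ ^ 2 = 0 → z₁ = 0 ∧ z₂ = 0)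
    (g : GL ((Fin (n - 1) ⊕ Fin (n - 1)) ⊕ Fin 2) F) (r : ℕ) (hr : r.Prime) (hr2 : r ≠ 2)
    (hQr : (q : ZMod r) ≠ 0)
    (hg : g ^ r = 1) (hfix : ∀ v : (Fin (n - 1) ⊕ Fin (n - 1)) ⊕ Fin 2 → F, g.1 *ᵥ v = v → v = 0)
    (hQ : ∀ v, Cfsg.quadFormMinus (n - 1) F a c (g.1 *ᵥ v) = Cfsg.quadFormMinus (n - 1) F a c v) :
    (q : ZMod r) ^ n = -1 := by
  have : Fact r.Prime := ⟨hr⟩
  have hq2 : 2 ≤ q := by rw [← hF]; exact Fintype.one_lt_card
  have hdvd := free_div (Cfsg.quadFormMinus (n - 1) F a c) (minus_smul (n - 1) a c) g r hr hr2 hg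
    hfix hQ
  have hsum := card_ne_add_card_eq (Cfsg.quadFormMinus (n - 1) F a c)
  have hZ := Cfsg.Agent.Lib.helper6.card_quadMinus_zero hF n hn a c hac
  rw [hF] at hdvd hsum
  have hcard : Fintype.card ((Fin (n - 1) ⊕ Fin (n - 1)) ⊕ Fin 2) = 2 * n := by
    simp only [Fintype.card_sum, Fintype.card_fin]
    omega
  rw [hcard] at hsum
  have hle : q ^ n ≤ q ^ (2 * n - 1) + q ^ (n - 1) :=
    le_add_right (Nat.pow_le_pow_right (by omega) (by omega))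
  have h := arith_type q r n _ _ (-1) hq2 hn hQr hsum (by
    rw [hZ]
    push_cast [Nat.cast_sub hle]
    ring) hdvd
  simpa using h

/-! ### the standard forms as matrices -/

def NPlus (n : ℕ) : Matrix (Fin n ⊕ Fin n) (Fin n ⊕ Fin n) F :=
  Matrix.fromBlocks 0 1 0 0

theorem qN_NPlus (n : ℕ) (v : Fin n ⊕ Fin n → F) :
    v ⬝ᵥ NPlus (F := F) n *ᵥ v = Cfsg.quadFormPlus n F v := by
  simp [NPlus, Cfsg.quadFormPlus, dotProduct, Matrix.mulVec, Matrix.one_apply]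

theorem NPlus_B (n : ℕ) :
    (NPlus (F := F) n + (NPlus (F := F) n)ᵀ) * Matrix.fromBlocks 0 1 1 0 = 1 := by
  unfold NPlus
  rw [Matrix.fromBlocks_transpose, Matrix.fromBlocks_add, Matrix.fromBlocks_multiply]
  simp

def NMinus (n : ℕ) (a c : F) :
    Matrix ((Fin n ⊕ Fin n) ⊕ Fin 2) ((Fin n ⊕ Fin n) ⊕ Fin 2) F :=
  Matrix.fromBlocks (Matrix.fromBlocks 0 1 0 0) 0 0 !![1, a; 0, c]

theorem qN_NMinus (n : ℕ) (a c : F) (v : (Fin n ⊕ Fin n) ⊕ Fin 2 → F) :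
    v ⬝ᵥ NMinus n a c *ᵥ v = Cfsg.quadFormMinus n F a c v := by
  simp [NMinus, Cfsg.quadFormMinus, dotProduct, Matrix.mulVec, Matrix.one_apply,
    Fin.sum_univ_two]
  ring

theorem disc_ne_zero [Fintype F] (a c : F)
    (hac : ∀ z₁ z₂ : F, z₁ ^ 2 + a * z₁ * z₂ + c * z₂ ^ 2 = 0 → z₁ = 0 ∧ z₂ = 0) :
    4 * c - a ^ 2 ≠ 0 := by
  intro h0
  have h1 := hac a (-2) (by linear_combination h0)
  have h2 : (2 : F) = 0 := by
    have := h1.2
    exact neg_eq_zero.1 this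
  have hchar : ringChar F = 2 := by
    have : CharP F 2 := CharTwo.of_one_ne_zero_of_two_eq_zero one_ne_zero h2
    exact ringChar.eq F 2
  obtain ⟨s, hs⟩ := FiniteField.isSquare_of_char_two hchar c
  have h3 := (hac s 1 (by rw [h1.1]; linear_combination (-1 : F) * hs + c * h2)).2
  exact one_ne_zero h3

theorem NMinus_B [Fintype F] (n : ℕ) (a c : F)
    (hac : ∀ z₁ z₂ : F, z₁ ^ 2 + a * z₁ * z₂ + c * z₂ ^ 2 = 0 → z₁ = 0 ∧ z₂ = 0) :
    (NMinus n a c + (NMinus n a c)ᵀ) *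
      Matrix.fromBlocks (Matrix.fromBlocks 0 1 1 0) 0 0
        ((4 * c - a ^ 2)⁻¹ • !![2 * c, -a; -a, 2]) = 1 := by
  have hd := disc_ne_zero a c hac
  unfold NMinus
  rw [Matrix.fromBlocks_transpose, Matrix.fromBlocks_transpose, Matrix.fromBlocks_add,
    Matrix.fromBlocks_add, Matrix.fromBlocks_multiply, Matrix.fromBlocks_multiply]
  have h3 : (!![1, a; 0, c] + (!![1, a; 0, c] : Matrix (Fin 2) (Fin 2) F)ᵀ) *
      ((4 * c - a ^ 2)⁻¹ • !![2 * c, -a; -a, 2]) = 1 := by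
    ext i j
    fin_cases i <;> fin_cases j <;>
      simp [Matrix.mul_apply, Fin.sum_univ_two] <;> field_simp <;> ring
  rw [h3]
  simp

theorem minus_or_plus [Fintype F] {ι : Type} [Fintype ι] [DecidableEq ι] (N Bi : Matrix ι ι F)
    (hB : (N + Nᵀ) * Bi = 1) (m : ℕ) (hcard : Fintype.card ι = 2 * m) (a c : F)
    (hac : ∀ z₁ z₂ : F, z₁ ^ 2 + a * z₁ * z₂ + c * z₂ ^ 2 = 0 → z₁ = 0 ∧ z₂ = 0) :
    (∃ φ : (ι → F) ≃ₗ[F] (Fin m ⊕ Fin m → F),
      ∀ v, Cfsg.quadFormPlus m F (φ v) = v ⬝ᵥ N *ᵥ v) ∨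
    (1 ≤ m ∧ ∃ φ : (ι → F) ≃ₗ[F] ((Fin (m - 1) ⊕ Fin (m - 1)) ⊕ Fin 2 → F),
      ∀ v, Cfsg.quadFormMinus (m - 1) F a c (φ v) = v ⬝ᵥ N *ᵥ v) := by
  have hV : Module.finrank F (ι → F) = 2 * m := by
    rw [Module.finrank_fintype_fun_eq_card, hcard]
  have hnd : (QuadraticMap.polarBilin (qN N)).Nondegenerate := by
    constructor
    · intro x hx
      exact qN_sep N Bi hB x (fun y => by
        rw [← QuadraticMap.polarBilin_apply_apply]; exact hx y)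
    · intro y hy
      exact qN_sep N Bi hB y (fun x => by
        rw [QuadraticMap.polar_comm, ← QuadraticMap.polarBilin_apply_apply]; exact hy x)
  rcases Cfsg.Agent.Lib.helper13.quad_classify hV (qN N) hnd with ⟨φ, hφ⟩ | ⟨k, ζ, hk, hζ, φ, hφ⟩
  · left
    exact ⟨φ, fun v => by rw [← hφ, qN_apply]⟩
  · right
    subst hk
    obtain ⟨T, hT⟩ := Cfsg.Agent.Lib.helper13.minus_to_ab k a c hac ζ hζ
    refine ⟨by omega, ?_⟩
    show ∃ φ : (ι → F) ≃ₗ[F] ((Fin k ⊕ Fin k) ⊕ Fin 2 → F),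
      ∀ v, Cfsg.quadFormMinus k F a c (φ v) = v ⬝ᵥ N *ᵥ v
    exact ⟨φ.trans T, fun v => by rw [LinearEquiv.trans_apply, hT, ← hφ, qN_apply]⟩

/-- orthogonal sum of a plus-type space and a minus-type space, in standard coordinates -/
theorem plus_minus_sum {ι₁ ι₂ : Type} [Fintype ι₁] [DecidableEq ι₁] [Fintype ι₂]
    [DecidableEq ι₂] (x y : ℕ) (a c : F) (N₁ : Matrix ι₁ ι₁ F) (N₂ : Matrix ι₂ ι₂ F)
    (φ₁ : (ι₁ → F) ≃ₗ[F] (Fin x ⊕ Fin x → F))
    (h₁ : ∀ v, Cfsg.quadFormPlus x F (φ₁ v) = v ⬝ᵥ N₁ *ᵥ v)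
    (φ₂ : (ι₂ → F) ≃ₗ[F] ((Fin y ⊕ Fin y) ⊕ Fin 2 → F))
    (h₂ : ∀ v, Cfsg.quadFormMinus y F a c (φ₂ v) = v ⬝ᵥ N₂ *ᵥ v) :
    ∃ φ : (ι₁ ⊕ ι₂ → F) ≃ₗ[F] ((Fin (x + y) ⊕ Fin (x + y)) ⊕ Fin 2 → F),
      ∀ v, Cfsg.quadFormMinus (x + y) F a c (φ v) =
        v ⬝ᵥ (Matrix.fromBlocks N₁ 0 0 N₂) *ᵥ v := by
  let e : ((Fin (x + y) ⊕ Fin (x + y)) ⊕ Fin 2) ≃
      ((Fin x ⊕ Fin x) ⊕ ((Fin y ⊕ Fin y) ⊕ Fin 2)) :=
    ((Equiv.sumCongr (Equiv.sumCongr finSumFinEquiv.symm finSumFinEquiv.symm)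
      (Equiv.refl (Fin 2))).trans
      (Equiv.sumCongr (Equiv.sumSumSumComm (Fin x) (Fin y) (Fin x) (Fin y))
        (Equiv.refl (Fin 2)))).trans
      (Equiv.sumAssoc (Fin x ⊕ Fin x) (Fin y ⊕ Fin y) (Fin 2))
  let φ : (ι₁ ⊕ ι₂ → F) ≃ₗ[F] ((Fin (x + y) ⊕ Fin (x + y)) ⊕ Fin 2 → F) :=
    ((LinearEquiv.sumArrowLequivProdArrow ι₁ ι₂ F F).trans (LinearEquiv.prodCongr φ₁ φ₂)).trans
      (((LinearEquiv.sumArrowLequivProdArrow (Fin x ⊕ Fin x) ((Fin y ⊕ Fin y) ⊕ Fin 2)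
        F F).symm).trans (LinearEquiv.funCongrLeft F F e))
  have hφ : ∀ (v : ι₁ ⊕ ι₂ → F) (idx : (Fin (x + y) ⊕ Fin (x + y)) ⊕ Fin 2),
      φ v idx = Sum.elim (φ₁ (v ∘ Sum.inl)) (φ₂ (v ∘ Sum.inr)) (e idx) := by
    intro v idx
    rfl
  refine ⟨φ, fun v => ?_⟩
  have hv : v = Sum.elim (v ∘ Sum.inl) (v ∘ Sum.inr) := (Sum.elim_comp_inl_inr v).symm
  have hR : v ⬝ᵥ (Matrix.fromBlocks N₁ 0 0 N₂) *ᵥ v =
      (v ∘ Sum.inl) ⬝ᵥ N₁ *ᵥ (v ∘ Sum.inl) + (v ∘ Sum.inr) ⬝ᵥ N₂ *ᵥ (v ∘ Sum.inr) := by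
    conv_lhs => rw [hv]
    rw [Matrix.fromBlocks_mulVec, sumElim_dotProduct_sumElim, Matrix.zero_mulVec,
      Matrix.zero_mulVec, add_zero, zero_add]
    simp only [Sum.elim_comp_inl, Sum.elim_comp_inr]
  rw [hR, ← h₁, ← h₂]
  unfold Cfsg.quadFormMinus Cfsg.quadFormPlus
  rw [Fin.sum_univ_add]
  simp only [hφ]
  have e1 : ∀ j : Fin x, e (Sum.inl (Sum.inl (Fin.castAdd y j))) = Sum.inl (Sum.inl j) := by
    intro j; simp [e]
  have e2 : ∀ j : Fin x, e (Sum.inl (Sum.inr (Fin.castAdd y j))) = Sum.inl (Sum.inr j) := by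
    intro j; simp [e]
  have e3 : ∀ j : Fin y, e (Sum.inl (Sum.inl (Fin.natAdd x j))) =
      Sum.inr (Sum.inl (Sum.inl j)) := by
    intro j; simp [e]
  have e4 : ∀ j : Fin y, e (Sum.inl (Sum.inr (Fin.natAdd x j))) =
      Sum.inr (Sum.inl (Sum.inr j)) := by
    intro j; simp [e]
  have e5 : ∀ z : Fin 2, e (Sum.inr z) = Sum.inr (Sum.inr z) := by
    intro z; simp [e]
  simp only [e1, e2, e3, e4, e5, Sum.elim_inl, Sum.elim_inr]
  ring

theorem no_fix {κ : Type} [Fintype κ] [DecidableEq κ] (A : Matrix κ κ F)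
    (h1 : A.charpoly.eval 1 ≠ 0) (v : κ → F) (hv : A *ᵥ v = v) : v = 0 := by
  have h3 := Matrix.eval_charpoly A 1
  rw [map_one] at h3
  have hdet : (1 - A).det ≠ 0 := by rw [← h3]; exact h1
  apply Matrix.eq_zero_of_mulVec_eq_zero hdet
  rw [Matrix.sub_mulVec, Matrix.one_mulVec, hv, sub_self]

theorem transfer_sum {ι₁ ι₂ κ : Type} [Fintype ι₁] [DecidableEq ι₁] [Fintype ι₂]
    [DecidableEq ι₂] [Fintype κ] [DecidableEq κ]
    (g₁ gi₁ N₁ : Matrix ι₁ ι₁ F) (g₂ gi₂ N₂ : Matrix ι₂ ι₂ F) (hg₁ : g₁ * gi₁ = 1)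
    (hg₂ : g₂ * gi₂ = 1) (hN₁ : g₁ᵀ * N₁ * g₁ = N₁) (hN₂ : g₂ᵀ * N₂ * g₂ = N₂) (r : ℕ)
    (hk₁ : g₁ ^ r = 1) (hk₂ : g₂ ^ r = 1)
    (Q₂ : (κ → F) → F) (φ : (ι₁ ⊕ ι₂ → F) ≃ₗ[F] (κ → F))
    (hφ : ∀ v, Q₂ (φ v) = v ⬝ᵥ (Matrix.fromBlocks N₁ 0 0 N₂) *ᵥ v) :
    ∃ s : GL κ F, s ∈ Cfsg.isometryGroup F Q₂ ∧
      s.1.charpoly = g₁.charpoly * g₂.charpoly ∧ s ^ r = 1 := by
  obtain ⟨s, hs1, hs2, hs3⟩ := transfer (Matrix.fromBlocks g₁ 0 0 g₂)
    (Matrix.fromBlocks gi₁ 0 0 gi₂) (Matrix.fromBlocks N₁ 0 0 N₂)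
    (by rw [Matrix.fromBlocks_multiply]; simp [hg₁, hg₂])
    (by
      rw [Matrix.fromBlocks_transpose, Matrix.fromBlocks_multiply, Matrix.fromBlocks_multiply]
      simp [hN₁, hN₂])
    Q₂ φ 1 (fun v => by rw [hφ, one_mul])
  refine ⟨s, fun u _ => hs1 u, ?_,
    hs3 r (by rw [Matrix.fromBlocks_diagonal_pow, hk₁, hk₂, Matrix.fromBlocks_one])⟩
  rw [hs2, Matrix.charpoly_fromBlocks_zero₁₂]

/-- a fixed-point-free isometry of prime order on a `2n`-dimensional space extends, by a trivial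
action on a `2d`-dimensional complement, to an isometry of the minus-type form in dimension
`2(n + d)` unless `d = 0` and the space is forced to be of plus type -/
theorem oz_to_minus [Fintype F] {q : ℕ} (hF : Fintype.card F = q) (r : ℕ) (hr : r.Prime)
    (hr2 : r ≠ 2) (hQr : (q : ZMod r) ≠ 0) (a c : F)
    (hac : ∀ z₁ z₂ : F, z₁ ^ 2 + a * z₁ * z₂ + c * z₂ ^ 2 = 0 → z₁ = 0 ∧ z₂ = 0)
    (m n d : ℕ) (hm : 1 ≤ m) (χ : F[X]) (hχd : χ.natDegree = 2 * n) (hχ1 : χ.eval 1 ≠ 0)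
    (hz : Oz r χ) (hmn : n + d = m) (hd0 : d = 0 → (q : ZMod r) ^ m ≠ 1) :
    ∃ s : GL ((Fin (m - 1) ⊕ Fin (m - 1)) ⊕ Fin 2) F,
      s ∈ Cfsg.isometryGroup F (Cfsg.quadFormMinus (m - 1) F a c) ∧
      s.1.charpoly = χ * (X - 1) ^ (2 * d) ∧ s ^ r = 1 := by
  obtain ⟨ι, _, _, g, gi, N, Bi, hg, hk, hN, hB, hχ⟩ := hz
  have hcard : Fintype.card ι = 2 * n := by
    rw [← hχd, ← hχ, Matrix.charpoly_natDegree_eq_dim]
  obtain ⟨k₀, hk₀⟩ : ∃ k₀, k₀ = m - 1 := ⟨_, rfl⟩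
  rw [← hk₀]
  rcases minus_or_plus N Bi hB n hcard a c hac with ⟨φ, hφ⟩ | ⟨hn1, φ, hφ⟩
  · by_cases hd : d = 0
    · exfalso
      have hnm : n = m := by omega
      obtain ⟨s₀, hs1, hs2, hs3⟩ := transfer g gi N hg hN (Cfsg.quadFormPlus n F) φ 1
        (fun v => by rw [hφ, one_mul])
      have h1 := plus_free hF n (by omega) s₀ r hr hr2 hQr (hs3 r hk)
        (fun v hv => no_fix s₀.1 (by rw [hs2, hχ]; exact hχ1) v hv) hs1
      rw [hnm] at h1
      exact hd0 hd h1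
    · obtain ⟨d', rfl⟩ : ∃ d', d = d' + 1 := ⟨d - 1, by omega⟩
      obtain ⟨Φ, hΦ⟩ := plus_minus_sum n d' a c N (NMinus d' a c) φ hφ (LinearEquiv.refl F _)
        (fun v => (qN_NMinus d' a c v).symm)
      have hk' : k₀ = n + d' := by omega
      subst hk'
      obtain ⟨s, hs1, hs2, hs3⟩ := transfer_sum g gi N 1 1 (NMinus d' a c) hg (one_mul 1) hN
        (by simp) r hk (one_pow r) (Cfsg.quadFormMinus (n + d') F a c) Φ hΦ
      refine ⟨s, hs1, ?_, hs3⟩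
      have hc2 : Fintype.card ((Fin d' ⊕ Fin d') ⊕ Fin 2) = 2 * (d' + 1) := by
        simp only [Fintype.card_sum, Fintype.card_fin]
        omega
      rw [hs2, hχ, Matrix.charpoly_one, hc2]
  · obtain ⟨Φ, hΦ⟩ := plus_minus_sum d (n - 1) a c (NPlus d) N (LinearEquiv.refl F _)
      (fun v => (qN_NPlus d v).symm) φ hφ
    have hk' : k₀ = d + (n - 1) := by omega
    subst hk'
    obtain ⟨s, hs1, hs2, hs3⟩ := transfer_sum 1 1 (NPlus d) g gi N (one_mul 1) hg (by simp) hN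
      r (one_pow r) hk (Cfsg.quadFormMinus (d + (n - 1)) F a c) Φ hΦ
    refine ⟨s, hs1, ?_, hs3⟩
    have hc2 : Fintype.card (Fin d ⊕ Fin d) = 2 * d := by
      simp only [Fintype.card_sum, Fintype.card_fin]
      omega
    rw [hs2, hχ, Matrix.charpoly_one, hc2, mul_comm]

section nf
open UniqueFactorizationMonoid
variable [DecidableEq F]

omit [DecidableEq F] in
theorem filter_eval_one [DecidableEq F[X]] (S : Finset F[X]) (hxS : (X - 1 : F[X]) ∉ S)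
    (hS1 : ∀ P ∈ S, P.Monic ∧ Irreducible P) (M : Multiset F[X])
    (hM : ∀ h ∈ M, h = X - 1 ∨ h ∈ S) :
    (M.filter (fun h => h ≠ X - 1)).prod.eval 1 ≠ 0 := by
  have hx0m : (X - 1 : F[X]).Monic := by simpa using monic_X_sub_C (1 : F)
  have hx0i : Irreducible (X - 1 : F[X]) := by simpa using irreducible_X_sub_C (1 : F)
  have hM' : ∀ h ∈ M.filter (fun h => h ≠ X - 1), h ∈ S := by
    intro h hh
    rw [Multiset.mem_filter] at hh
    exact (hM h hh.1).resolve_left hh.2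
  intro h0
  have hdvd : (X - C (1 : F)) ∣ (M.filter (fun h => h ≠ X - 1)).prod :=
    Polynomial.dvd_iff_isRoot.2 h0
  rw [map_one] at hdvd
  obtain ⟨b, hb, hdb⟩ := hx0i.prime.exists_mem_multiset_dvd hdvd
  have hbS := hM' b hb
  have := eq_of_monic_of_associated hx0m (hS1 b hbS).1
    (hx0i.associated_of_dvd (hS1 b hbS).2 hdb)
  exact hxS (this ▸ hbS)

omit [DecidableEq F] in
theorem filter_natDegree [DecidableEq F[X]] (i : ℕ) (S : Finset F[X])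
    (hS1 : ∀ P ∈ S, P.Monic ∧ P.natDegree = i) (M : Multiset F[X])
    (hM : ∀ h ∈ M, h = X - 1 ∨ h ∈ S) :
    (M.filter (fun h => h ≠ X - 1)).prod.natDegree =
      i * Multiset.card (M.filter (fun h => h ≠ X - 1)) := by
  have hM' : ∀ h ∈ M.filter (fun h => h ≠ X - 1), h ∈ S := by
    intro h hh
    rw [Multiset.mem_filter] at hh
    exact (hM h hh.1).resolve_left hh.2
  rw [natDegree_multiset_prod_of_monic _ (fun h hh => (hS1 h (hM' h hh)).1),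
    Multiset.map_congr rfl (fun h hh => (hS1 h (hM' h hh)).2), Multiset.map_const',
    Multiset.sum_replicate, smul_eq_mul, mul_comm]

theorem nf_monic (f h : F[X]) (hh : h ∈ normalizedFactors f) : h.Monic := by
  rw [← normalize_normalized_factor h hh]
  exact monic_normalize (irreducible_of_normalized_factor h hh).ne_zero

theorem nf_prod {κ : Type} [Fintype κ] [DecidableEq κ] (A : Matrix κ κ F) :
    (normalizedFactors A.charpoly).prod = A.charpoly := by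
  apply eq_of_monic_of_associated _ (Matrix.charpoly_monic A)
    (prod_normalizedFactors (Matrix.charpoly_monic A).ne_zero)
  have := monic_multiset_prod_of_monic (normalizedFactors A.charpoly) id
    (fun h hh => nf_monic _ h hh)
  simpa using this

theorem nf_deg {κ : Type} [Fintype κ] [DecidableEq κ] (A : Matrix κ κ F) :
    ((normalizedFactors A.charpoly).map natDegree).sum = Fintype.card κ := by
  rw [← natDegree_multiset_prod_of_monic _ (fun h hh => nf_monic _ h hh), nf_prod,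
    Matrix.charpoly_natDegree_eq_dim]

end nf

theorem zmod_half (r : ℕ) [Fact r.Prime] (Qz : ZMod r) (i e : ℕ) (hi : i = orderOf Qz)
    (he : i = e + e) (hipos : 0 < i) : Qz ^ e = -1 := by
  have h1 : (Qz ^ e) * (Qz ^ e) = 1 := by rw [← pow_add, ← he, hi, pow_orderOf_eq_one]
  rcases mul_self_eq_one_iff.1 h1 with h | h
  · exfalso
    have : e < orderOf Qz := by rw [← hi]; omega
    exact pow_ne_one_of_lt_orderOf (by omega) this h
  · exact h

theorem one_ne_neg_one_zmod (r : ℕ) (hr : r.Prime) (hr2 : r ≠ 2) : (1 : ZMod r) ≠ -1 := by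
  intro h
  have h2 : ((2 : ℕ) : ZMod r) = 0 := by push_cast; linear_combination h
  have h3 := (ZMod.natCast_eq_zero_iff 2 r).1 h2
  exact hr2 ((Nat.prime_dvd_prime_iff_eq hr Nat.prime_two).1 h3)

theorem pascal_sub (L s : ℕ) (hL : 1 ≤ L) (hs : 1 ≤ s) :
    (L + s).choose s - 1 - (L + s - 1).choose (s - 1) = (L - 1 + s).choose s - 1 := by
  obtain ⟨L', rfl⟩ : ∃ L', L = L' + 1 := ⟨L - 1, by omega⟩
  obtain ⟨s', rfl⟩ : ∃ s', s = s' + 1 := ⟨s - 1, by omega⟩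
  have e1 : L' + 1 + (s' + 1) = (L' + s' + 1) + 1 := by omega
  have e2 : L' + 1 + (s' + 1) - 1 = L' + s' + 1 := by omega
  have e4 : L' + 1 - 1 + (s' + 1) = L' + s' + 1 := by omega
  have h1 : (L' + 1 + (s' + 1)).choose (s' + 1) =
      (L' + s' + 1).choose s' + (L' + s' + 1).choose (s' + 1) := by
    rw [e1]; exact Nat.choose_succ_succ' _ _
  have h2 : (L' + 1 + (s' + 1) - 1).choose (s' + 1 - 1) = (L' + s' + 1).choose s' := by
    rw [e2, Nat.add_sub_cancel]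
  have h3 : (L' + 1 - 1 + (s' + 1)).choose (s' + 1) = (L' + s' + 1).choose (s' + 1) := by
    rw [e4]
  rw [h1, h2, h3]
  omega

theorem ok_iff_div (i m2 L k : ℕ) (hi : 0 < i) (hm : m2 = i * L) :
    ((k ≠ 0 ∧ k ≤ m2 / i) ∧ ¬(i * k = m2 ∧ Even k)) ↔ ((k ≠ 0 ∧ k ≤ L) ∧ ¬(k = L ∧ Even k)) := by
  subst hm
  rw [Nat.mul_div_cancel_left L hi]
  have h : i * k = i * L ↔ k = L :=
    ⟨fun h => Nat.eq_of_mul_eq_mul_left hi h, fun h => by rw [h]⟩
  rw [h]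

theorem ok_iff_ndiv (i m2 k : ℕ) (h : ¬ i ∣ m2) :
    ((k ≠ 0 ∧ k ≤ m2 / i) ∧ ¬(i * k = m2 ∧ Even k)) ↔ (k ≠ 0 ∧ k ≤ m2 / i) :=
  and_iff_left (fun h1 => h ⟨k, h1.1.symm⟩)

end Cfsg.Agent.Lib.helper10.OrthType
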