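import Mathlib
import Cfsg.Agent.Lib.helper7.Local
import Cfsg.Agent.Lib.helper8.CoprimeAction

set_option autoImplicit false

/-!
`p`-solvable groups: no components when `O_{p'} = 1`, Hall–Higman Lemma 1.2.3, and
`O_{p'}(C_H(Y)) ≤ O_{p'}(H)` for `p`-subgroups `Y` of `p`-constrained-type groups.
-/

namespace Cfsg.Agent.Lib.helper10

open Cfsg Cfsg.Agent.Lib.helper7

universe u

theorem eq_one_of_mem_pgroup_of_coprime {G : Type*} [Group G] {p : ℕ} {U : Subgroup G}
    (hU : IsPGroup p U) {x : G} (hx : x ∈ U) (hc : (orderOf x).Coprime p) : x = 1 := by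
  obtain ⟨k, hk⟩ := hU ⟨x, hx⟩
  have hk' : x ^ p ^ k = 1 := by
    have := congrArg Subtype.val hk
    simpa using this
  have h3 : orderOf x ∣ p ^ k := orderOf_dvd_of_pow_eq_one hk'
  have h4 : orderOf x = 1 := Nat.Coprime.eq_one_of_dvd (Nat.Coprime.pow_right k hc) h3
  exact orderOf_eq_one_iff.1 h4

/-- A component lying in `B` lies in the normal subgroup `A` when `[B : A ∩ B]` is a power of `p` or
prime to `p` (and `O_{p'}(G) = 1`). -/
theorem comp_le_of_step {G : Type u} [Group G] [Finite G] {p : ℕ} [Fact p.Prime]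
    (hcore : pPrimeCore p G = ⊥) {K : Subgroup G} (hK : IsComponent K) (A B : Subgroup G)
    [A.Normal] (hKB : K ≤ B)
    (h : (∃ m : ℕ, A.relIndex B = p ^ m) ∨ (A.relIndex B).Coprime p) : K ≤ A := by
  have hN : (A.subgroupOf K).Normal := inferInstance
  suffices hs : A.subgroupOf K = ⊤ by rwa [Subgroup.subgroupOf_eq_top] at hs
  rcases h with ⟨m, hm⟩ | hcop
  · apply perfect_normal_eq_top_of_pgroup_quotient (p := p) (qs_perfect hK.2)
    intro g
    refine ⟨m, ?_⟩
    have h1 := Subgroup.pow_index_mem (A.subgroupOf B) (⟨(g : G), hKB g.2⟩ : ↥B)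
    have h2 : (A.subgroupOf B).index = p ^ m := hm
    rw [h2] at h1
    exact h1
  · apply comp_normal_coprime_index_eq_top hcore hK
    let f : ↥K →* ↥B ⧸ A.subgroupOf B :=
      (QuotientGroup.mk' (A.subgroupOf B)).comp (Subgroup.inclusion hKB)
    have hker : f.ker = A.subgroupOf K := by
      ext k
      rw [MonoidHom.mem_ker, MonoidHom.comp_apply, QuotientGroup.mk'_apply,
        QuotientGroup.eq_one_iff, Subgroup.mem_subgroupOf, Subgroup.mem_subgroupOf]
      rfl
    rw [← hker, Subgroup.index_ker]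
    have h1 : Nat.card f.range ∣ Nat.card (↥B ⧸ A.subgroupOf B) :=
      Subgroup.card_subgroup_dvd_card _
    exact Nat.Coprime.coprime_dvd_left h1 hcop

/-- A finite `p`-solvable group with `O_{p'} = 1` has no components. -/
theorem layer_eq_bot_of_pSolvable {G : Type u} [Group G] [Finite G] {p : ℕ} [Fact p.Prime]
    (hG : IsPSolvable p G) (hcore : pPrimeCore p G = ⊥) : layer G = ⊥ := by
  obtain ⟨n, H, h0, hn, hmono, hnorm, hstep⟩ := hG
  rw [eq_bot_iff]
  apply sSup_le
  intro K hK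
  have key : ∀ i : Fin (n + 1), K ≤ H i := by
    intro i
    induction i using Fin.reverseInduction with
    | last => rw [hn]; exact le_top
    | cast i ih =>
      have := hnorm i.castSucc
      exact comp_le_of_step hcore hK (H i.castSucc) (H i.succ) ih (hstep i)
  have h3 := key 0
  rwa [h0] at h3

/-- Hall–Higman Lemma 1.2.3 for `p`-solvable groups. -/
theorem centralizer_pCore_le_of_pSolvable {G : Type u} [Group G] [Finite G] {p : ℕ}
    [Fact p.Prime] (hG : IsPSolvable p G) (hcore : pPrimeCore p G = ⊥) :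
    Subgroup.centralizer (pCore p G : Set G) ≤ pCore p G := by
  have h := centralizer_genFitting_le G
  unfold generalizedFittingSubgroup at h
  rwa [layer_eq_bot_of_pSolvable hG hcore, bot_sup_eq, fitting_eq_pCore_of_core_bot hcore] at h

/-- Hall–Higman Lemma 1.2.3 for solvable groups. -/
theorem centralizer_pCore_le_of_solvable {G : Type u} [Group G] [Finite G] {p : ℕ}
    [Fact p.Prime] (hG : Group.IsSolvable G) (hcore : pPrimeCore p G = ⊥) :
    Subgroup.centralizer (pCore p G : Set G) ≤ pCore p G := by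
  have h := centralizer_fitting_le_of_solvable G hG
  rwa [fitting_eq_pCore_of_core_bot hcore] at h

/-- If `C(O_p(H/O_{p'}(H))) ≤ O_p(H/O_{p'}(H))`, then `O_{p'}(C_H(Y)) ≤ O_{p'}(H)` for every
`p`-subgroup `Y` of `H`. -/
theorem pPrimeCore_centralizer_le {H : Type u} [Group H] [Finite H] {p : ℕ} [Fact p.Prime]
    (hcent : Subgroup.centralizer (pCore p (H ⧸ pPrimeCore p H) : Set (H ⧸ pPrimeCore p H)) ≤
      pCore p (H ⧸ pPrimeCore p H))
    (Y : Subgroup H) (hY : IsPGroup p Y) :
    (pPrimeCore p ↥(Subgroup.centralizer (Y : Set H))).map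
      (Subgroup.centralizer (Y : Set H)).subtype ≤ pPrimeCore p H := by
  classical
  have hp : p.Prime := Fact.out
  obtain ⟨C, hC⟩ : ∃ C : Subgroup H, C = Subgroup.centralizer (Y : Set H) := ⟨_, rfl⟩
  rw [← hC]
  have hCmem : ∀ g, g ∈ C ↔ ∀ y ∈ Y, y * g = g * y := by
    intro g; rw [hC, Subgroup.mem_centralizer_iff]; rfl
  have hOn : (pPrimeCore p H).Normal := Cfsg.Agent.Lib.helper9.ppc_normal p H
  have hOc : (Nat.card (pPrimeCore p H)).Coprime p := Cfsg.Agent.Lib.helper9.pPrimeCore_coprime p H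
  have hOCn : (pPrimeCore p ↥C).Normal := Cfsg.Agent.Lib.helper9.ppc_normal p ↥C
  have hOCc : (Nat.card (pPrimeCore p ↥C)).Coprime p :=
    Cfsg.Agent.Lib.helper9.pPrimeCore_coprime p ↥C
  obtain ⟨U, hU⟩ : ∃ U : Subgroup (H ⧸ pPrimeCore p H), U = pCore p (H ⧸ pPrimeCore p H) :=
    ⟨_, rfl⟩
  rw [← hU] at hcent
  have hUp : IsPGroup p U := by rw [hU]; exact pCore_isPGroup p _
  have hUn : U.Normal := by rw [hU]; infer_instance
  have hUnorm : ∀ g, g ∈ Subgroup.normalizer (U : Set (H ⧸ pPrimeCore p H)) := by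
    intro g
    rw [Subgroup.normalizer_eq_top_iff.2 hUn]; trivial
  -- orders of images of elements of O_{p'}(C)
  have hord : ∀ c : ↥C, c ∈ pPrimeCore p ↥C →
      (orderOf (QuotientGroup.mk' (pPrimeCore p H) (c : H))).Coprime p := by
    intro c hc
    have h1 : orderOf (QuotientGroup.mk' (pPrimeCore p H) (c : H)) ∣ orderOf (c : H) :=
      orderOf_map_dvd _ _
    have h2 : orderOf (c : H) = orderOf c := Subgroup.orderOf_coe c
    have h3 : orderOf c ∣ Nat.card (pPrimeCore p ↥C) := Subgroup.orderOf_dvd_natCard _ hc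
    exact Nat.Coprime.coprime_dvd_left (h1.trans (h2 ▸ h3)) hOCc
  rintro _ ⟨w, hw, rfl⟩
  have hmem : QuotientGroup.mk' (pPrimeCore p H) (w : H) ∈
      Subgroup.centralizer (U : Set (H ⧸ pPrimeCore p H)) := by
    apply thompson_elem (Y.map (QuotientGroup.mk' (pPrimeCore p H))) U (hY.map _) hUp
      (fun g _ => hUnorm g) _ (hord w hw)
    · rintro _ ⟨y, hy, rfl⟩
      rw [← map_mul, ← map_mul]
      congr 1
      exact (hCmem (w : H)).1 w.2 y hy
    · exact hUnorm _
    · intro u hu hcomm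
      obtain ⟨h, rfl⟩ := QuotientGroup.mk'_surjective _ u
      obtain ⟨k, hk⟩ := IsPGroup.iff_card.1 hY
      obtain ⟨d, hd, hd2⟩ := Cfsg.Agent.Lib.helper8.coset_fix Y (pPrimeCore p H)
        (fun g _ => by rw [Subgroup.normalizer_eq_top_iff.2 hOn]; trivial)
        (by rw [hk]; exact Nat.Coprime.pow_left k hOc.symm)
        (Or.inl (by have := hY.isNilpotent; exact IsNilpotent.to_isSolvable)) h (by
          intro a ha
          rw [← QuotientGroup.eq_one_iff, ← QuotientGroup.mk'_apply]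
          have h1 := hcomm _ ⟨a, ha, rfl⟩
          simp only [map_mul, map_inv]
          rw [mul_assoc _ (QuotientGroup.mk' (pPrimeCore p H) a), h1]
          group)
      have hh'C : h * d ∈ C := (hCmem _).2 hd2
      have hπ : QuotientGroup.mk' (pPrimeCore p H) (h * d) = QuotientGroup.mk' (pPrimeCore p H) h := by
        have hd1 : QuotientGroup.mk' (pPrimeCore p H) d = 1 := by
          rw [QuotientGroup.mk'_apply]; exact (QuotientGroup.eq_one_iff d).2 hd
        rw [map_mul, hd1, mul_one]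
      have hcm : w * ⟨h * d, hh'C⟩ * w⁻¹ * (⟨h * d, hh'C⟩ : ↥C)⁻¹ ∈ pPrimeCore p ↥C := by
        have h1 : (⟨h * d, hh'C⟩ : ↥C) * w⁻¹ * (⟨h * d, hh'C⟩ : ↥C)⁻¹ ∈ pPrimeCore p ↥C :=
          hOCn.conj_mem _ (Subgroup.inv_mem _ hw) _
        have h2 := Subgroup.mul_mem _ hw h1
        have h3 : w * ((⟨h * d, hh'C⟩ : ↥C) * w⁻¹ * (⟨h * d, hh'C⟩ : ↥C)⁻¹) =
            w * ⟨h * d, hh'C⟩ * w⁻¹ * (⟨h * d, hh'C⟩ : ↥C)⁻¹ := by group
        rwa [h3] at h2
      have hz := hord _ hcm
      have hzeq : QuotientGroup.mk' (pPrimeCore p H)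
          ((w * ⟨h * d, hh'C⟩ * w⁻¹ * (⟨h * d, hh'C⟩ : ↥C)⁻¹ : ↥C) : H) =
          QuotientGroup.mk' (pPrimeCore p H) (w : H) * QuotientGroup.mk' (pPrimeCore p H) h *
            (QuotientGroup.mk' (pPrimeCore p H) (w : H))⁻¹ *
            (QuotientGroup.mk' (pPrimeCore p H) h)⁻¹ := by
        rw [← hπ]
        simp only [Subgroup.coe_mul, Subgroup.coe_inv, map_mul, map_inv]
      rw [hzeq] at hz
      have hzU : QuotientGroup.mk' (pPrimeCore p H) (w : H) * QuotientGroup.mk' (pPrimeCore p H) h *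
            (QuotientGroup.mk' (pPrimeCore p H) (w : H))⁻¹ *
            (QuotientGroup.mk' (pPrimeCore p H) h)⁻¹ ∈ U :=
        U.mul_mem (hUn.conj_mem _ hu _) (U.inv_mem hu)
      have hone := eq_one_of_mem_pgroup_of_coprime hUp hzU hz
      have h5 := mul_inv_eq_one.1 hone
      have h6 := mul_inv_eq_iff_eq_mul.1 h5
      exact h6.symm
  have h1 : QuotientGroup.mk' (pPrimeCore p H) (w : H) ∈ U := hcent hmem
  have h2 := eq_one_of_mem_pgroup_of_coprime hUp h1 (hord w hw)
  exact (QuotientGroup.eq_one_iff _).1 h2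

end Cfsg.Agent.Lib.helper10
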