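import Mathlib
import Cfsg.Agent.Lib.helper10.PSolv

set_option autoImplicit false

/-!
More on `p`-solvable groups: quotients, a normal `p`- or `p'`-subgroup, and `p'`-subgroups
normalizing a Sylow `p`-subgroup have `p'`-automizers.
-/

namespace Cfsg.Agent.Lib.helper10

open Cfsg

universe u

theorem pSolvable_quotient {G : Type*} [Group G] {p : ℕ} [Fact p.Prime] (hG : IsPSolvable p G)
    (M : Subgroup G) [M.Normal] : IsPSolvable p (G ⧸ M) := by
  obtain ⟨n, H, h0, hn, hmono, hnorm, hstep⟩ := hG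
  refine ⟨n, fun i => (H i).map (QuotientGroup.mk' M), ?_, ?_, ?_, ?_, ?_⟩
  · show (H 0).map _ = ⊥
    rw [h0, Subgroup.map_bot]
  · show (H (Fin.last n)).map _ = ⊤
    rw [hn]; exact Subgroup.map_top_of_surjective _ (QuotientGroup.mk'_surjective M)
  · intro i j hij; exact Subgroup.map_mono (hmono hij)
  · intro i; exact (hnorm i).map _ (QuotientGroup.mk'_surjective M)
  · intro i
    have hdvd : ((H i.castSucc).map (QuotientGroup.mk' M)).relIndex
        ((H i.succ).map (QuotientGroup.mk' M)) ∣ (H i.castSucc).relIndex (H i.succ) := by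
      rw [Subgroup.relIndex_map_map, QuotientGroup.ker_mk']
      have := hnorm i.castSucc
      have hle : H i.castSucc ≤ H i.succ := hmono (Fin.castSucc_le_succ i)
      have h1 : H i.succ ⊔ M = (H i.castSucc ⊔ M) ⊔ H i.succ := by
        apply le_antisymm
        · exact sup_le le_sup_right (le_sup_right.trans le_sup_left)
        · exact sup_le (sup_le (hle.trans le_sup_left) le_sup_right) le_sup_left
      rw [h1, Subgroup.relIndex_sup_left]
      exact Subgroup.relIndex_dvd_of_le_left _ le_sup_left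
    rcases hstep i with ⟨m, hm⟩ | hc
    · left
      rw [hm] at hdvd
      obtain ⟨j, -, hj⟩ := (Nat.dvd_prime_pow Fact.out).1 hdvd
      exact ⟨j, hj⟩
    · right; exact Nat.Coprime.coprime_dvd_left hdvd hc

theorem exists_normal_of_pSolvable {G : Type*} [Group G] [Nontrivial G] {p : ℕ}
    (hG : IsPSolvable p G) :
    ∃ M : Subgroup G, M.Normal ∧ M ≠ ⊥ ∧ (IsPGroup p M ∨ (Nat.card M).Coprime p) := by
  obtain ⟨n, H, h0, hn, hmono, hnorm, hstep⟩ := hG
  by_contra hcon
  push Not at hcon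
  have key : ∀ i : Fin (n + 1), H i = ⊥ := by
    intro i
    induction i using Fin.induction with
    | zero => exact h0
    | succ i ih =>
      by_contra hne
      have h1 := hcon (H i.succ) (hnorm _) hne
      have h2 : (H i.castSucc).relIndex (H i.succ) = Nat.card (H i.succ) := by
        rw [ih, Subgroup.relIndex_bot_left]
      rcases hstep i with ⟨m, hm⟩ | hc
      · exact h1.1 (IsPGroup.of_card (by rw [← h2, hm]))
      · exact h1.2 (by rw [← h2]; exact hc)
  have h3 := key (Fin.last n)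
  rw [hn] at h3
  exact top_ne_bot h3

theorem conj_pow_eq {G : Type*} [Group G] {t q z : G} (hz : z = t * q * t⁻¹ * q⁻¹)
    (hc : t * z = z * t) (n : ℕ) : t ^ n * q * (t ^ n)⁻¹ = z ^ n * q := by
  induction n with
  | zero => simp
  | succ n ih =>
    have hc' : Commute t z := hc
    have h1 : t ^ (n + 1) * q * (t ^ (n + 1))⁻¹ = t * (t ^ n * q * (t ^ n)⁻¹) * t⁻¹ := by
      rw [pow_succ']; group
    rw [h1, ih]
    have h2 : t * (z ^ n * q) * t⁻¹ = (t * z ^ n * t⁻¹) * (t * q * t⁻¹ * q⁻¹) * q := by group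
    rw [h2, ← hz]
    have h3 : t * z ^ n * t⁻¹ = z ^ n := by
      rw [(hc'.pow_right n).eq]; group
    rw [h3, pow_succ]

/-- In a `p`-solvable group, a `p`-element normalizing a `p'`-subgroup `Q` that normalizes a Sylow
`p`-subgroup centralizes `Q`. -/
theorem pprime_normalizing_sylow_aux {p : ℕ} [Fact p.Prime] (n : ℕ) :
    ∀ (G : Type u) [Group G] [Finite G], Nat.card G = n → IsPSolvable p G →
    ∀ (Q : Subgroup G) (P : Sylow p G), (Nat.card Q).Coprime p →
    Q ≤ Subgroup.normalizer ((P : Subgroup G) : Set G) →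
    ∀ t : G, t ∈ Subgroup.normalizer (Q : Set G) → (∃ k : ℕ, t ^ p ^ k = 1) →
    ∀ q ∈ Q, t * q = q * t := by
  induction n using Nat.strong_induction_on with
  | _ n ih =>
  intro G _ _ hcard hG Q P hQ hQP t ht htp q hq
  by_cases hnt : Nontrivial G
  swap
  · rw [not_nontrivial_iff_subsingleton] at hnt
    exact Subsingleton.elim _ _
  obtain ⟨M, hMn, hMne, hM⟩ := exists_normal_of_pSolvable hG
  have hlt : Nat.card (G ⧸ M) < n := by
    have h1 := Subgroup.card_eq_card_quotient_mul_card_subgroup M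
    have h2 : 1 < Nat.card M := by
      rw [Finite.one_lt_card_iff_nontrivial]
      exact (Subgroup.nontrivial_iff_ne_bot M).2 hMne
    have h3 : 0 < Nat.card (G ⧸ M) := Nat.card_pos
    rw [← hcard, h1]
    nlinarith
  have hGq := pSolvable_quotient hG M
  have hπ : Function.Surjective (QuotientGroup.mk' M) := QuotientGroup.mk'_surjective M
  have hIH := ih _ hlt (G ⧸ M) rfl hGq (Q.map (QuotientGroup.mk' M)) (P.mapSurjective hπ)
    (Nat.Coprime.coprime_dvd_left (Subgroup.card_map_dvd _ _) hQ)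
    (by
      apply Cfsg.Agent.Lib.helper8.le_normalizer_of_conj_mem
      rintro _ ⟨a, ha, rfl⟩ _ ⟨x, hx, rfl⟩
      rw [Sylow.coe_mapSurjective]
      refine ⟨a * x * a⁻¹, (Subgroup.mem_normalizer_iff.1 (hQP ha) x).1 hx, ?_⟩
      simp only [map_mul, map_inv])
    (QuotientGroup.mk' M t)
    (by
      have h1 : Subgroup.zpowers (QuotientGroup.mk' M t) ≤
          Subgroup.normalizer ((Q.map (QuotientGroup.mk' M) : Subgroup (G ⧸ M)) : Set (G ⧸ M)) := by
        apply Cfsg.Agent.Lib.helper8.le_normalizer_of_conj_mem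
        rintro a ha _ ⟨x, hx, rfl⟩
        obtain ⟨i, rfl⟩ := Subgroup.mem_zpowers_iff.1 ha
        have h2 : t ^ i ∈ Subgroup.normalizer (Q : Set G) := Subgroup.zpow_mem _ ht i
        refine ⟨t ^ i * x * (t ^ i)⁻¹, (Subgroup.mem_normalizer_iff.1 h2 x).1 hx, ?_⟩
        simp only [map_mul, map_inv, map_zpow]
      exact h1 (Subgroup.mem_zpowers _))
    (by
      obtain ⟨k, hk⟩ := htp
      exact ⟨k, by rw [← map_pow, hk, map_one]⟩)
    (QuotientGroup.mk' M q) (Subgroup.mem_map_of_mem _ hq)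
  have hzM : t * q * t⁻¹ * q⁻¹ ∈ M := by
    rw [← QuotientGroup.eq_one_iff, ← QuotientGroup.mk'_apply]
    simp only [map_mul, map_inv]
    rw [hIH]; group
  have hzQ : t * q * t⁻¹ * q⁻¹ ∈ Q :=
    Q.mul_mem ((Subgroup.mem_normalizer_iff.1 ht q).1 hq) (Q.inv_mem hq)
  have hzord : (orderOf (t * q * t⁻¹ * q⁻¹)).Coprime p :=
    Nat.Coprime.coprime_dvd_left (Subgroup.orderOf_dvd_natCard Q hzQ) hQ
  suffices hz : t * q * t⁻¹ * q⁻¹ = 1 by
    calc t * q = (t * q * t⁻¹ * q⁻¹) * q * t := by group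
      _ = q * t := by rw [hz, one_mul]
  rcases hM with hMp | hMc
  · exact eq_one_of_mem_pgroup_of_coprime hMp hzM hzord
  · obtain ⟨Q₀, hQ₀⟩ : ∃ Q₀ : Subgroup G, Q₀ = Q ⊓ M := ⟨_, rfl⟩
    have hQ₀P : ∀ q₀ ∈ Q₀, ∀ x ∈ (P : Subgroup G), q₀ * x = x * q₀ := by
      intro q₀ hq₀ x hx
      rw [hQ₀] at hq₀
      have h1 : q₀ * x * q₀⁻¹ * x⁻¹ ∈ (P : Subgroup G) :=
        Subgroup.mul_mem _ ((Subgroup.mem_normalizer_iff.1 (hQP hq₀.1) x).1 hx)
          (Subgroup.inv_mem _ hx)
      have h2 : q₀ * x * q₀⁻¹ * x⁻¹ ∈ M := by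
        have h3 : q₀ * x * q₀⁻¹ * x⁻¹ = q₀ * (x * q₀⁻¹ * x⁻¹) := by group
        rw [h3]; exact M.mul_mem hq₀.2 (hMn.conj_mem _ (M.inv_mem hq₀.2) x)
      have h3 : q₀ * x * q₀⁻¹ * x⁻¹ = 1 := eq_one_of_mem_pgroup_of_coprime P.2 h1
        (Nat.Coprime.coprime_dvd_left (Subgroup.orderOf_dvd_natCard M h2) hMc)
      calc q₀ * x = (q₀ * x * q₀⁻¹ * x⁻¹) * x * q₀ := by group
        _ = x * q₀ := by rw [h3, one_mul]
    have htN : t ∈ Subgroup.normalizer (Q₀ : Set G) := by
      have h1 : Subgroup.zpowers t ≤ Subgroup.normalizer (Q₀ : Set G) := by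
        apply Cfsg.Agent.Lib.helper8.le_normalizer_of_conj_mem
        intro a ha x hx
        obtain ⟨i, rfl⟩ := Subgroup.mem_zpowers_iff.1 ha
        have h2 : t ^ i ∈ Subgroup.normalizer (Q : Set G) := Subgroup.zpow_mem _ ht i
        rw [hQ₀] at hx ⊢
        exact ⟨(Subgroup.mem_normalizer_iff.1 h2 x).1 hx.1, hMn.conj_mem x hx.2 _⟩
      exact h1 (Subgroup.mem_zpowers t)
    have hPC : (P : Subgroup G) ≤ Subgroup.centralizer (Q₀ : Set G) := fun x hx =>
      Subgroup.mem_centralizer_iff.2 (fun q₀ hq₀ => hQ₀P q₀ hq₀ x hx)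
    have hidx : ¬ p ∣ (Subgroup.centralizer (Q₀ : Set G)).relIndex
        (Subgroup.normalizer (Q₀ : Set G)) := by
      intro h
      exact P.not_dvd_index ((h.trans (Subgroup.relIndex_dvd_index_of_le
        (Subgroup.centralizer_le_normalizer _))).trans (Subgroup.index_dvd_of_le hPC))
    have htC : t ∈ Subgroup.centralizer (Q₀ : Set G) := by
      have h1 := Subgroup.pow_index_mem ((Subgroup.centralizer (Q₀ : Set G)).subgroupOf
        (Subgroup.normalizer (Q₀ : Set G))) (⟨t, htN⟩ : ↥(Subgroup.normalizer (Q₀ : Set G)))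
      have h2 : t ^ ((Subgroup.centralizer (Q₀ : Set G)).relIndex
          (Subgroup.normalizer (Q₀ : Set G))) ∈ Subgroup.centralizer (Q₀ : Set G) := h1
      obtain ⟨k, hk⟩ := htp
      have hcop : Nat.Coprime ((Subgroup.centralizer (Q₀ : Set G)).relIndex
          (Subgroup.normalizer (Q₀ : Set G))) (orderOf t) :=
        Nat.Coprime.coprime_dvd_right (orderOf_dvd_of_pow_eq_one hk)
          (Nat.Coprime.pow_right k (((Nat.Prime.coprime_iff_not_dvd Fact.out).2 hidx).symm))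
      obtain ⟨j, hj⟩ := exists_pow_eq_self_of_coprime hcop
      rw [← hj]
      exact Subgroup.pow_mem _ h2 j
    obtain ⟨z, hzdef⟩ : ∃ z : G, z = t * q * t⁻¹ * q⁻¹ := ⟨_, rfl⟩
    rw [← hzdef] at hzM hzQ hzord ⊢
    have hzQ₀ : z ∈ Q₀ := by rw [hQ₀]; exact ⟨hzQ, hzM⟩
    have htz : t * z = z * t := ((Subgroup.mem_centralizer_iff.1 htC) z hzQ₀).symm
    obtain ⟨k, hk⟩ := htp
    have h1 := conj_pow_eq hzdef htz (p ^ k)
    rw [hk, one_mul, inv_one, mul_one] at h1
    have h2 : z ^ p ^ k = 1 := by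
      have : z ^ p ^ k * q = 1 * q := by rw [one_mul]; exact h1.symm
      exact mul_right_cancel this
    have h3 : orderOf z ∣ p ^ k := orderOf_dvd_of_pow_eq_one h2
    have h4 : orderOf z = 1 := Nat.Coprime.eq_one_of_dvd (Nat.Coprime.pow_right k hzord) h3
    exact orderOf_eq_one_iff.1 h4

theorem pprime_normalizing_sylow {p : ℕ} [Fact p.Prime] {G : Type u} [Group G] [Finite G]
    (hG : IsPSolvable p G) (Q : Subgroup G) (P : Sylow p G) (hQ : (Nat.card Q).Coprime p)
    (hQP : Q ≤ Subgroup.normalizer ((P : Subgroup G) : Set G)) (t : G)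
    (ht : t ∈ Subgroup.normalizer (Q : Set G)) (htp : ∃ k : ℕ, t ^ p ^ k = 1) :
    ∀ q ∈ Q, t * q = q * t :=
  pprime_normalizing_sylow_aux _ G rfl hG Q P hQ hQP t ht htp

end Cfsg.Agent.Lib.helper10
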