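import Cfsg.Agent.Lib.helper10.TCSect
import Cfsg.Agent.Lib.helper10.FChain

set_option autoImplicit false

namespace Cfsg.Agent.Lib.helper10

open Cfsg

universe u

section sfmap
variable {X Y : Type u} [Group X] [Group Y]

/-- Control of strong fusion is carried along injective homomorphisms. -/
theorem familyControlsStrongFusionIn_map [Finite Y] {p : ℕ}
    (𝓦 : Set (∀ (Q : Type u) [Group Q], Subgroup Q)) (h𝓦 : ∀ W ∈ 𝓦, IsCharPFunctor.{u} p W)
    (f : Y →* X) (hf : Function.Injective f)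
    (h : FamilyControlsStrongFusionIn p ((fun W => inducedFunctor (G := Y) W) '' 𝓦) ⊤) :
    FamilyControlsStrongFusionIn p ((fun W => inducedFunctor (G := X) W) '' 𝓦) f.range := by
  obtain ⟨T, -, hTp, hTidx, hctl⟩ := h
  refine ⟨T.map f, Subgroup.map_le_range f T, hTp.map f, ?_, ?_⟩
  · rw [MonoidHom.range_eq_map, Subgroup.relIndex_map_map_of_injective _ _ hf]; exact hTidx
  · intro A h hh hA hhA
    obtain ⟨h₀, rfl⟩ := hh
    have hA₀ : f ⁻¹' A ⊆ (T : Set Y) := by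
      intro y hy
      have h1 : f y ∈ T.map f := hA hy
      exact (Subgroup.mem_map_iff_mem hf).1 h1
    have hhA₀ : (fun a => h₀ * a * h₀⁻¹) '' (f ⁻¹' A) ⊆ (T : Set Y) := by
      rintro _ ⟨y, hy, rfl⟩
      have h1 : f h₀ * f y * (f h₀)⁻¹ ∈ T.map f := hhA ⟨f y, hy, rfl⟩
      rw [← map_inv, ← map_mul, ← map_mul] at h1
      exact (Subgroup.mem_map_iff_mem hf).1 h1
    obtain ⟨n, c, hc0, hstep, himg, hlast⟩ := hctl (f ⁻¹' A) h₀ (Subgroup.mem_top _) hA₀ hhA₀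
    refine ⟨n, fun i => f (c i), by show f (c 0) = 1; rw [hc0, map_one], ?_, ?_, ?_⟩
    · intro i
      obtain ⟨W', ⟨W, hW, rfl⟩, hz⟩ := hstep i
      refine ⟨inducedFunctor (G := X) W, ⟨W, hW, rfl⟩, ?_⟩
      have h1 : f (c i.succ * (c i.castSucc)⁻¹) ∈
          (⊤ ⊓ Subgroup.normalizer ((inducedFunctor (G := Y) W T : Subgroup Y) : Set Y)).map f :=
        Subgroup.mem_map_of_mem f hz
      rw [map_top_inf_normalizer f hf, induced_map_injective W (h𝓦 W hW) f hf T hTp] at h1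
      rw [map_mul, map_inv] at h1
      exact h1
    · rintro i _ ⟨a, ha, rfl⟩
      obtain ⟨y, hy, rfl⟩ := Subgroup.mem_map.1 (hA ha)
      have h1 : c i * y * (c i)⁻¹ ∈ T := himg i ⟨y, ha, rfl⟩
      show f (c i) * f y * (f (c i))⁻¹ ∈ T.map f
      rw [← map_inv, ← map_mul, ← map_mul]
      exact Subgroup.mem_map_of_mem f h1
    · intro a ha
      obtain ⟨y, hy, rfl⟩ := Subgroup.mem_map.1 (hA ha)
      have h1 := hlast y ha
      show f (c (Fin.last n)) * f y * (f (c (Fin.last n)))⁻¹ = f h₀ * f y * (f h₀)⁻¹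
      rw [← map_inv, ← map_mul, ← map_mul, h1, map_mul, map_mul, map_inv]

end sfmap

section sfns
variable {X : Type u} [Group X]

/-- The union of the normalizers of the `W(S)`, `W ∈ 𝓦`. -/
def sfNs (𝓦 : Set (∀ (Q : Type u) [Group Q], Subgroup Q)) (S : Subgroup X) : Set X :=
  {z | ∃ W ∈ 𝓦, z ∈ Subgroup.normalizer ((inducedFunctor (G := X) W S : Subgroup X) : Set X)}

theorem sfNs_inv (𝓦 : Set (∀ (Q : Type u) [Group Q], Subgroup Q)) (S : Subgroup X) :
    ∀ y ∈ sfNs 𝓦 S, y⁻¹ ∈ sfNs 𝓦 S := by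
  rintro y ⟨W, hW, hy⟩
  exact ⟨W, hW, Subgroup.inv_mem _ hy⟩

theorem FChain.mono_ns {Ns Ns' T A : Set X} {c : X} (hNs : Ns ⊆ Ns') (h : FChain Ns T A c) :
    FChain Ns' T A c := by
  induction h with
  | one hA => exact FChain.one hA
  | step c y hy h hA ih => exact FChain.step c y (hNs hy) ih hA

theorem ChainGood.mono_ns {Ns Ns' T A : Set X} {g : X} (hNs : Ns ⊆ Ns') (h : ChainGood Ns T A g) :
    ChainGood Ns' T A g := by
  obtain ⟨c, hc, hca⟩ := h
  exact ⟨c, hc.mono_ns hNs, hca⟩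

variable [Finite X] {p : ℕ} [Fact p.Prime]

/-- Elements of a Sylow subgroup give good conjugations. -/
theorem chainGood_of_mem_sylow (𝓦 : Set (∀ (Q : Type u) [Group Q], Subgroup Q))
    (h𝓦 : ∀ W ∈ 𝓦, IsCharPFunctor.{u} p W) (hne : 𝓦.Nonempty) (S : Sylow p X)
    (A : Set X) (hA : A ⊆ (S : Subgroup X)) (s : X) (hs : s ∈ (S : Subgroup X)) :
    ChainGood (sfNs 𝓦 (S : Subgroup X)) ((S : Subgroup X) : Set X) A s := by
  obtain ⟨W, hW⟩ := hne
  apply ChainGood.single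
  · exact ⟨W, hW, sylow_le_normalizer_functor (isConjugacyFunctor_induced W (h𝓦 W hW)) S hs⟩
  · exact hA
  · intro a ha
    exact Subgroup.mul_mem _ (Subgroup.mul_mem _ hs (hA ha)) (Subgroup.inv_mem _ hs)

/-- From control of strong fusion in a subgroup `M` containing the Sylow subgroup `S`. -/
theorem chainGood_of_control (𝓦 : Set (∀ (Q : Type u) [Group Q], Subgroup Q))
    (h𝓦 : ∀ W ∈ 𝓦, IsCharPFunctor.{u} p W) (S : Sylow p X) (M : Subgroup X)
    (hSM : (S : Subgroup X) ≤ M)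
    (hc : FamilyControlsStrongFusionIn p ((fun W => inducedFunctor (G := X) W) '' 𝓦) M)
    (A : Set X) (h : X) (hh : h ∈ M) (hA : A ⊆ (S : Subgroup X))
    (hhA : ∀ a ∈ A, h * a * h⁻¹ ∈ (S : Subgroup X)) :
    ChainGood (sfNs 𝓦 (S : Subgroup X)) ((S : Subgroup X) : Set X) A h := by
  have hSp : IsPGroup p (S : Subgroup X) := S.2
  obtain ⟨c, hc1, hc2⟩ := familyControlsStrongFusionIn_sylow (isConj_image 𝓦 h𝓦) hc hSM hSp
    (sylow_relIndex S M hSM) A h hh hA hhA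
  refine ⟨c, hc1.mono_ns ?_, hc2⟩
  rintro z ⟨W', ⟨W, hW, rfl⟩, hz⟩
  exact ⟨W, hW, hz.2⟩

/-- Conversely, good conjugations give control of strong fusion. -/
theorem control_of_chainGood (𝓦 : Set (∀ (Q : Type u) [Group Q], Subgroup Q)) (S : Sylow p X)
    (h : ∀ (A : Set X) (g : X), A ⊆ (S : Subgroup X) → (∀ a ∈ A, g * a * g⁻¹ ∈ (S : Subgroup X)) →
      ChainGood (sfNs 𝓦 (S : Subgroup X)) ((S : Subgroup X) : Set X) A g) :
    FamilyControlsStrongFusionIn p ((fun W => inducedFunctor (G := X) W) '' 𝓦) ⊤ := by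
  refine ⟨S, le_top, S.2, by rw [Subgroup.relIndex_top_right]; exact S.not_dvd_index, ?_⟩
  intro A g _ hAS hgA
  obtain ⟨c, hch, hagree⟩ := h A g hAS (fun a ha => hgA ⟨a, ha, rfl⟩)
  obtain ⟨n, c', h0, hstep, himg, hlast⟩ := hch.exists_fin
  refine ⟨n, c', h0, ?_, ?_, ?_⟩
  · intro i
    obtain ⟨W, hW, hz⟩ := hstep i
    exact ⟨inducedFunctor (G := X) W, ⟨W, hW, rfl⟩, Subgroup.mem_top _, hz⟩
  · rintro i _ ⟨a, ha, rfl⟩
    exact himg i a ha
  · intro a ha; rw [hlast]; exact hagree a ha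

end sfns

end Cfsg.Agent.Lib.helper10
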