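import Cfsg.Agent.Lib.helper10.SFBasic
import Cfsg.Agent.Lib.helper10.SmallFusion
import Cfsg.Agent.Lib.helper10.LocalGlobal2

set_option autoImplicit false

namespace Cfsg.Agent.Lib.helper10

open Cfsg

section stab
variable {X : Type*} [Group X]

/-- The subgroup of elements of `N(U)` acting trivially on `U` modulo the normal subgroup `P`. -/
def stabMod (U P : Subgroup X) [P.Normal] : Subgroup X where
  carrier := {z | z ∈ Subgroup.normalizer (U : Set X) ∧ ∀ b ∈ U, z * b * z⁻¹ * b⁻¹ ∈ P}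
  one_mem' := ⟨Subgroup.one_mem _, fun b _ => by simp⟩
  mul_mem' := by
    rintro z₁ z₂ ⟨h1, h1'⟩ ⟨h2, h2'⟩
    refine ⟨Subgroup.mul_mem _ h1 h2, fun b hb => ?_⟩
    have hb' : z₂ * b * z₂⁻¹ ∈ U := (Subgroup.mem_normalizer_iff.1 h2 b).1 hb
    have e : z₁ * z₂ * b * (z₁ * z₂)⁻¹ * b⁻¹ =
        (z₁ * (z₂ * b * z₂⁻¹) * z₁⁻¹ * (z₂ * b * z₂⁻¹)⁻¹) * (z₂ * b * z₂⁻¹ * b⁻¹) := by group
    rw [e]; exact P.mul_mem (h1' _ hb') (h2' b hb)
  inv_mem' := by
    rintro z ⟨h1, h1'⟩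
    refine ⟨Subgroup.inv_mem _ h1, fun b hb => ?_⟩
    have hb' : z⁻¹ * b * z ∈ U := by
      have := (Subgroup.mem_normalizer_iff.1 (Subgroup.inv_mem _ h1) b).1 hb
      simpa using this
    have h := h1' _ hb'
    have e : z⁻¹ * b * z⁻¹⁻¹ * b⁻¹ = (z * (z⁻¹ * b * z) * z⁻¹ * (z⁻¹ * b * z)⁻¹)⁻¹ := by group
    rw [e]; exact P.inv_mem h

theorem mem_stabMod (U P : Subgroup X) [P.Normal] (z : X) :
    z ∈ stabMod U P ↔ z ∈ Subgroup.normalizer (U : Set X) ∧ ∀ b ∈ U, z * b * z⁻¹ * b⁻¹ ∈ P :=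
  Iff.rfl

/-- In the extremal case, elements acting trivially modulo `P` act like elements of the Sylow
subgroup, provided all `p'`-elements centralize `P`. -/
theorem stab_sylow [Finite X] {p : ℕ} [Fact p.Prime] (S : Sylow p X) (P : Subgroup X) [P.Normal]
    (hPp : IsPGroup p P)
    (hcent : ∀ d : X, (orderOf d).Coprime p → d ∈ Subgroup.centralizer (P : Set X))
    (U : Subgroup X)
    (hidx : ¬ p ∣ ((S : Subgroup X) ⊓ Subgroup.normalizer (U : Set X)).relIndex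
      (Subgroup.normalizer (U : Set X)))
    (z : X) (hz : z ∈ stabMod U P) :
    ∃ s ∈ (S : Subgroup X), ∀ b ∈ U, s * b * s⁻¹ = z * b * z⁻¹ := by
  classical
  have hp : p.Prime := Fact.out
  have hSp : IsPGroup p (S : Subgroup X) := S.2
  obtain ⟨D, hDdef⟩ : ∃ D : Subgroup X, D = stabMod U P := ⟨_, rfl⟩
  have hDmem : ∀ d : X, d ∈ D ↔ d ∈ Subgroup.normalizer (U : Set X) ∧
      ∀ b ∈ U, d * b * d⁻¹ * b⁻¹ ∈ P := by
    intro d; rw [hDdef]; exact Iff.rfl
  have hDN : D ≤ Subgroup.normalizer (U : Set X) := fun d hd => ((hDmem d).1 hd).1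
  -- conjugation by the normalizer preserves `D`
  have hconj : ∀ n ∈ Subgroup.normalizer (U : Set X), ∀ d ∈ D, n * d * n⁻¹ ∈ D := by
    intro n hn d hd
    rw [hDmem]
    refine ⟨Subgroup.mul_mem _ (Subgroup.mul_mem _ hn (hDN hd)) (Subgroup.inv_mem _ hn), ?_⟩
    intro b hb
    have hb' : n⁻¹ * b * n ∈ U := by
      have := (Subgroup.mem_normalizer_iff.1 (Subgroup.inv_mem _ hn) b).1 hb
      simpa using this
    have h1 := ((hDmem d).1 hd).2 _ hb'
    have e : n * d * n⁻¹ * b * (n * d * n⁻¹)⁻¹ * b⁻¹ =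
        n * (d * (n⁻¹ * b * n) * d⁻¹ * (n⁻¹ * b * n)⁻¹) * n⁻¹ := by group
    rw [e]
    exact ‹P.Normal›.conj_mem _ h1 n
  obtain ⟨K, hKdef⟩ : ∃ K : Subgroup X, K = D ⊓ Subgroup.centralizer (U : Set X) := ⟨_, rfl⟩
  obtain ⟨S₀, hS₀def⟩ : ∃ S₀ : Subgroup X, S₀ = (S : Subgroup X) ⊓ D := ⟨_, rfl⟩
  have hKD : K ≤ D := by rw [hKdef]; exact inf_le_left
  have hS₀D : S₀ ≤ D := by rw [hS₀def]; exact inf_le_right
  have hS₀p : IsPGroup p S₀ := by rw [hS₀def]; exact hSp.to_le inf_le_left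
  -- `S₀` is a Sylow subgroup of `D`
  have hS₀idx : ¬ p ∣ S₀.relIndex D := by
    obtain ⟨S₁, hS₀S₁, hS₁D, hS₁p, hS₁idx⟩ := exists_sylow_relIndex (p := p) hS₀D hS₀p
    obtain ⟨n, hnN, hn⟩ := exists_conj_le_of_relIndex (p := p)
      (H := Subgroup.normalizer (U : Set X))
      (Q := (S : Subgroup X) ⊓ Subgroup.normalizer (U : Set X)) (hSp.to_le inf_le_left) hidx
      (hS₁D.trans hDN) hS₁p
    have hle : S₁.map (MulAut.conj n).toMonoidHom ≤ S₀ := by
      rw [map_conj_le_iff]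
      intro r hr
      rw [hS₀def]
      exact ⟨(hn r hr).1, hconj n hnN r (hS₁D hr)⟩
    have hcard : Nat.card S₁ ≤ Nat.card S₀ := by
      rw [← Subgroup.card_map_of_injective (conj_injective n)]
      exact Subgroup.card_le_of_le hle
    have heq : S₀ = S₁ := Subgroup.eq_of_le_of_card_ge hS₀S₁ hcard
    rw [heq]; exact hS₁idx
  -- `p`-th power towers land in `K`
  have hpow : ∀ d ∈ D, ∃ k : ℕ, d ^ p ^ k ∈ K := by
    intro d hd
    obtain ⟨e, r, hr, hn⟩ := Nat.exists_eq_pow_mul_and_not_dvd (orderOf_pos d).ne' p hp.ne_one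
    refine ⟨e, ?_⟩
    have hwD : d ^ p ^ e ∈ D := Subgroup.pow_mem _ hd _
    have hwr : (d ^ p ^ e) ^ r = 1 := by
      rw [← pow_mul, ← hn, pow_orderOf_eq_one]
    have hco : (orderOf (d ^ p ^ e)).Coprime p :=
      Nat.Coprime.coprime_dvd_left (orderOf_dvd_of_pow_eq_one hwr)
        ((Nat.Prime.coprime_iff_not_dvd hp).2 hr).symm
    have hwC := hcent _ hco
    have hcen := centralize_of_stable U P (d ^ p ^ e) hco hPp
      (fun b hb => ((hDmem _).1 hwD).2 b hb)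
      (fun u hu => by
        have := Subgroup.mem_centralizer_iff.1 hwC u hu
        rw [← this]; group)
    rw [hKdef]
    refine ⟨hwD, ?_⟩
    refine (Subgroup.mem_centralizer_iff).2 ?_
    intro b hb
    have h1 := hcen b hb
    calc b * d ^ p ^ e = (d ^ p ^ e * b * (d ^ p ^ e)⁻¹) * d ^ p ^ e := by rw [h1]
      _ = d ^ p ^ e * b := by group
  -- the index of `K` in `D` is a power of `p`
  have hKidx : ∃ j : ℕ, K.relIndex D = p ^ j := by
    have hKn : (K.subgroupOf D).Normal := by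
      refine ⟨fun k hk d => ?_⟩
      rw [Subgroup.mem_subgroupOf] at hk ⊢
      rw [hKdef] at hk ⊢
      refine ⟨(d * k * d⁻¹).2, ?_⟩
      refine (Subgroup.mem_centralizer_iff).2 ?_
      intro b hb
      have hdN : (d : X) ∈ Subgroup.normalizer (U : Set X) := hDN d.2
      have hb' : (d : X)⁻¹ * b * (d : X) ∈ U := by
        have := (Subgroup.mem_normalizer_iff.1 (Subgroup.inv_mem _ hdN) b).1 hb
        simpa using this
      have h1 := Subgroup.mem_centralizer_iff.1 hk.2 _ hb'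
      show b * ((d : X) * (k : X) * (d : X)⁻¹) = (d : X) * (k : X) * (d : X)⁻¹ * b
      calc b * ((d : X) * (k : X) * (d : X)⁻¹)
          = (d : X) * (((d : X)⁻¹ * b * (d : X)) * (k : X)) * (d : X)⁻¹ := by group
        _ = (d : X) * ((k : X) * ((d : X)⁻¹ * b * (d : X))) * (d : X)⁻¹ := by rw [h1]
        _ = (d : X) * (k : X) * (d : X)⁻¹ * b := by group
    have hQp : IsPGroup p (↥D ⧸ K.subgroupOf D) := by
      intro q
      obtain ⟨d, rfl⟩ := QuotientGroup.mk_surjective q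
      obtain ⟨k, hk⟩ := hpow d d.2
      refine ⟨k, ?_⟩
      rw [← QuotientGroup.mk_pow]
      exact (QuotientGroup.eq_one_iff _).2 (Subgroup.mem_subgroupOf.2 (by simpa using hk))
    obtain ⟨j, hj⟩ := IsPGroup.iff_card.1 hQp
    refine ⟨j, ?_⟩
    rw [← hj]
    exact Subgroup.index_eq_card _
  obtain ⟨j, hj⟩ := hKidx
  -- `D = S₀ K`
  have hDle : D ≤ S₀ ⊔ K := by
    rw [← Subgroup.relIndex_eq_one]
    have h1 : (S₀ ⊔ K).relIndex D ∣ S₀.relIndex D := Subgroup.relIndex_dvd_of_le_left D le_sup_left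
    have h2 : (S₀ ⊔ K).relIndex D ∣ p ^ j := by
      rw [← hj]; exact Subgroup.relIndex_dvd_of_le_left D le_sup_right
    obtain ⟨j', -, hj'⟩ := (Nat.dvd_prime_pow hp).1 h2
    rw [hj'] at h1 ⊢
    cases j' with
    | zero => rfl
    | succ j' => exact absurd ((dvd_pow_self p (Nat.succ_ne_zero j')).trans h1) hS₀idx
  have hzD : z ∈ D := by rw [hDdef]; exact hz
  obtain ⟨s, hs, k, hk, hzsk⟩ := exists_mul_of_mem_sup_of_normalizes (A := S₀) (B := K) (by
    intro a ha b hb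
    have haD : a ∈ D := hS₀D ha
    rw [hKdef] at hb ⊢
    refine ⟨D.mul_mem (D.mul_mem (D.inv_mem haD) hb.1) haD, ?_⟩
    refine (Subgroup.mem_centralizer_iff).2 ?_
    intro u hu
    have haN : a ∈ Subgroup.normalizer (U : Set X) := hDN haD
    have hu' : a * u * a⁻¹ ∈ U := (Subgroup.mem_normalizer_iff.1 haN u).1 hu
    have h1 := Subgroup.mem_centralizer_iff.1 hb.2 _ hu'
    calc u * (a⁻¹ * b * a) = a⁻¹ * ((a * u * a⁻¹) * b) * a := by group
      _ = a⁻¹ * (b * (a * u * a⁻¹)) * a := by rw [h1]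
      _ = a⁻¹ * b * a * u := by group) (hDle hzD)
  refine ⟨s, ?_, ?_⟩
  · rw [hS₀def] at hs; exact hs.1
  · intro b hb
    rw [hKdef] at hk
    have h1 := Subgroup.mem_centralizer_iff.1 hk.2 b hb
    rw [hzsk]
    calc s * b * s⁻¹ = s * (b * k) * k⁻¹ * s⁻¹ := by group
      _ = s * (k * b) * k⁻¹ * s⁻¹ := by rw [h1]
      _ = s * k * b * (s * k)⁻¹ := by group

end stab

end Cfsg.Agent.Lib.helper10
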