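import Cfsg.Agent.Lib.helper10.SFQuot
import Cfsg.Agent.Lib.helper10.SFStab
import Cfsg.Agent.Lib.helper10.TCCore
import Cfsg.Agent.Lib.helper10.Alperin
import Cfsg.Agent.S1959

set_option autoImplicit false

namespace Cfsg.Agent.Lib.helper10

open Cfsg

universe u

section sfcore
variable {X : Type u} [Group X] [Finite X] {p : ℕ} [Fact p.Prime]

/-- Lifting of chains from the quotient by `O_p`. -/
theorem lift_chain_pcore (𝓦 : Set (∀ (Q : Type u) [Group Q], Subgroup Q))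
    (h𝓦 : ∀ W ∈ 𝓦, IsCharPFunctor.{u} p W) (S : Sylow p X) (P : Subgroup X) [P.Normal]
    (hPS : P ≤ (S : Subgroup X)) (hSP : ¬ (S : Subgroup X) ≤ P)
    (hPmax : ∀ L : Subgroup X, L.Normal → IsPGroup p L → L ≤ P)
    (hsub : ∀ M : Subgroup X, M ≠ ⊤ →
      FamilyControlsStrongFusionIn p ((fun W => inducedFunctor (G := X) W) '' 𝓦) M)
    (A : Set X) (hA : A ⊆ (S : Subgroup X)) :
    ∀ cb : X ⧸ P,
      FChain {z | ∃ W' ∈ (fun W => inducedFunctor (G := X ⧸ P) W) '' 𝓦,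
          z ∈ (⊤ : Subgroup (X ⧸ P)) ⊓ Subgroup.normalizer
            ((W' ((S : Subgroup X).map (QuotientGroup.mk' P)) : Subgroup (X ⧸ P)) : Set (X ⧸ P))}
        (((S : Subgroup X).map (QuotientGroup.mk' P) : Subgroup (X ⧸ P)) : Set (X ⧸ P))
        ((QuotientGroup.mk' P) '' A) cb →
      ∃ c : X, ChainGood (sfNs 𝓦 (S : Subgroup X)) ((S : Subgroup X) : Set X) A c ∧
        ∀ a ∈ A, QuotientGroup.mk' P (c * a * c⁻¹) = cb * QuotientGroup.mk' P a * cb⁻¹ := by
  classical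
  have hSp : IsPGroup p (S : Subgroup X) := S.2
  obtain ⟨Sb, hSb⟩ := exists_sylow_map S P
  rw [← hSb]
  obtain ⟨π, hπ⟩ : ∃ π : X →* X ⧸ P, π = QuotientGroup.mk' P := ⟨_, rfl⟩
  rw [← hπ] at hSb ⊢
  have hker : π.ker = P := by rw [hπ]; exact QuotientGroup.ker_mk' P
  have hπs : Function.Surjective π := by rw [hπ]; exact QuotientGroup.mk'_surjective P
  have hSbp : IsPGroup p (Sb : Subgroup (X ⧸ P)) := Sb.2
  have hSbne : (Sb : Subgroup (X ⧸ P)) ≠ ⊥ := by
    intro h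
    apply hSP
    rw [hSb, Subgroup.map_eq_bot_iff, hker] at h
    exact h
  have hcomapS : (Sb : Subgroup (X ⧸ P)).comap π = (S : Subgroup X) := by
    rw [hSb, Subgroup.comap_map_eq, hker, sup_eq_left.mpr hPS]
  intro cb hcb
  induction hcb with
  | one hA' => exact ⟨1, ChainGood.refl hA, fun a ha => by simp⟩
  | step cb yb hyb hcb hA' ih =>
    obtain ⟨c, hc, hca⟩ := ih
    obtain ⟨W', ⟨W, hW, rfl⟩, -, hyb⟩ := hyb
    have hconjb := isConjugacyFunctor_induced (G := X ⧸ P) W (h𝓦 W hW)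
    obtain ⟨Ab, hAbdef⟩ : ∃ Ab : Subgroup (X ⧸ P),
        Ab = inducedFunctor (G := X ⧸ P) W (Sb : Subgroup (X ⧸ P)) := ⟨_, rfl⟩
    have hyb' : yb ∈ Subgroup.normalizer (Ab : Set (X ⧸ P)) := by rw [hAbdef]; exact hyb
    have hAbS : Ab ≤ (Sb : Subgroup (X ⧸ P)) := by rw [hAbdef]; exact (hconjb _ hSbp).1
    have hAbne : Ab ≠ ⊥ := by rw [hAbdef]; exact (hconjb _ hSbp).2.1 hSbne
    have hSbN : (Sb : Subgroup (X ⧸ P)) ≤ Subgroup.normalizer (Ab : Set (X ⧸ P)) := by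
      rw [hAbdef]; exact sylow_le_normalizer_functor hconjb Sb
    obtain ⟨L, hLdef⟩ : ∃ L : Subgroup X, L = Ab.comap π := ⟨_, rfl⟩
    obtain ⟨N, hNdef⟩ : ∃ N : Subgroup X, N = Subgroup.normalizer (L : Set X) := ⟨_, rfl⟩
    have hNcomap : (Subgroup.normalizer (Ab : Set (X ⧸ P))).comap π = N := by
      rw [hNdef, hLdef]
      exact Subgroup.comap_normalizer_eq_of_surjective Ab hπs
    have hSN : (S : Subgroup X) ≤ N := by
      intro s hs
      rw [← hNcomap]
      show π s ∈ Subgroup.normalizer (Ab : Set (X ⧸ P))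
      apply hSbN
      rw [hSb]; exact Subgroup.mem_map_of_mem π hs
    have hLS : L ≤ (S : Subgroup X) := by
      have h1 : L ≤ (Sb : Subgroup (X ⧸ P)).comap π := by
        rw [hLdef]; exact Subgroup.comap_mono hAbS
      rw [hcomapS] at h1
      exact h1
    have hNne : N ≠ ⊤ := by
      intro hN
      have hLn : L.Normal := by
        rw [← Subgroup.normalizer_eq_top_iff, ← hNdef]; exact hN
      have hLP : L ≤ P := hPmax L hLn (hSp.to_le hLS)
      apply hAbne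
      have h1 : Ab = L.map π := by
        rw [hLdef, Subgroup.map_comap_eq_self_of_surjective hπs]
      rw [h1, Subgroup.map_eq_bot_iff, hker]
      exact hLP
    obtain ⟨y₀, rfl⟩ := hπs yb
    have hy₀N : y₀ ∈ N := by rw [← hNcomap]; exact hyb'
    have hcAS : ∀ a ∈ A, c * a * c⁻¹ ∈ (S : Subgroup X) := by
      obtain ⟨c', hc', hca'⟩ := hc
      intro a ha
      rw [← hca' a ha]; exact hc'.image_subset a ha
    have hyc : ∀ a ∈ A, y₀ * (c * a * c⁻¹) * y₀⁻¹ ∈ (S : Subgroup X) := by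
      intro a ha
      have h1 : (π y₀ * cb) * π a * (π y₀ * cb)⁻¹ ∈ (Sb : Subgroup (X ⧸ P)) :=
        hA' (π a) ⟨a, ha, rfl⟩
      rw [← hcomapS]
      show π (y₀ * (c * a * c⁻¹) * y₀⁻¹) ∈ (Sb : Subgroup (X ⧸ P))
      have e : π (y₀ * (c * a * c⁻¹) * y₀⁻¹) = (π y₀ * cb) * π a * (π y₀ * cb)⁻¹ := by
        rw [map_mul, map_mul, map_inv, hca a ha]; group
      rw [e]; exact h1
    have hstep : ChainGood (sfNs 𝓦 (S : Subgroup X)) ((S : Subgroup X) : Set X)
        ((fun a => c * a * c⁻¹) '' A) y₀ := by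
      apply chainGood_of_control 𝓦 h𝓦 S N hSN (hsub N hNne) _ y₀ hy₀N
      · rintro _ ⟨a, ha, rfl⟩; exact hcAS a ha
      · rintro _ ⟨a, ha, rfl⟩; exact hyc a ha
    refine ⟨y₀ * c, hc.trans hstep, ?_⟩
    intro a ha
    have e : y₀ * c * a * (y₀ * c)⁻¹ = y₀ * (c * a * c⁻¹) * y₀⁻¹ := by group
    rw [e, map_mul, map_mul, map_inv, hca a ha]; group

/-- Lifting of conjugations from the quotient by `O_p`: up to elements acting trivially modulo
`P`, conjugations are good. -/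
theorem sf_pcore_lift (𝓦 : Set (∀ (Q : Type u) [Group Q], Subgroup Q))
    (h𝓦 : ∀ W ∈ 𝓦, IsCharPFunctor.{u} p W) (S : Sylow p X) (P : Subgroup X) [P.Normal]
    (hPS : P ≤ (S : Subgroup X)) (hSP : ¬ (S : Subgroup X) ≤ P)
    (hPmax : ∀ L : Subgroup X, L.Normal → IsPGroup p L → L ≤ P)
    (hsub : ∀ M : Subgroup X, M ≠ ⊤ →
      FamilyControlsStrongFusionIn p ((fun W => inducedFunctor (G := X) W) '' 𝓦) M)
    (hq : FamilyControlsStrongFusionIn p ((fun W => inducedFunctor (G := X ⧸ P) W) '' 𝓦) ⊤)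
    (A : Set X) (g : X) (hA : A ⊆ (S : Subgroup X))
    (hgA : ∀ a ∈ A, g * a * g⁻¹ ∈ (S : Subgroup X)) :
    ∃ c : X, ChainGood (sfNs 𝓦 (S : Subgroup X)) ((S : Subgroup X) : Set X) A c ∧
      ∀ a ∈ A, QuotientGroup.mk' P (c * a * c⁻¹) = QuotientGroup.mk' P (g * a * g⁻¹) := by
  classical
  obtain ⟨Sb, hSb⟩ := exists_sylow_map S P
  have hSbp : IsPGroup p (Sb : Subgroup (X ⧸ P)) := Sb.2
  obtain ⟨cb, hcb, hagree⟩ := familyControlsStrongFusionIn_sylow
    (isConj_image (X := X ⧸ P) 𝓦 h𝓦) hq (le_top : (Sb : Subgroup (X ⧸ P)) ≤ ⊤) hSbp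
    (by rw [Subgroup.relIndex_top_right]; exact Sb.not_dvd_index)
    ((QuotientGroup.mk' P) '' A) (QuotientGroup.mk' P g) (Subgroup.mem_top _)
    (by
      rintro _ ⟨a, ha, rfl⟩
      show QuotientGroup.mk' P a ∈ (Sb : Subgroup (X ⧸ P))
      rw [hSb]; exact Subgroup.mem_map_of_mem _ (hA ha))
    (by
      rintro _ ⟨a, ha, rfl⟩
      rw [hSb, ← map_inv, ← map_mul, ← map_mul]
      exact Subgroup.mem_map_of_mem _ (hgA a ha))
  rw [hSb] at hcb
  obtain ⟨c, hc, hca⟩ := lift_chain_pcore 𝓦 h𝓦 S P hPS hSP hPmax hsub A hA cb hcb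
  refine ⟨c, hc, ?_⟩
  intro a ha
  rw [hca a ha, hagree _ ⟨a, ha, rfl⟩, map_mul, map_mul, map_inv]

/-- Conjugations by elements of the normalizer of an extremal subgroup containing `P` are good. -/
theorem sf_normalizer_step (𝓦 : Set (∀ (Q : Type u) [Group Q], Subgroup Q))
    (h𝓦 : ∀ W ∈ 𝓦, IsCharPFunctor.{u} p W) (S : Sylow p X) (P : Subgroup X) [P.Normal]
    (hPp : IsPGroup p P) (hSP : ¬ (S : Subgroup X) ≤ P)
    (hPmax : ∀ L : Subgroup X, L.Normal → IsPGroup p L → L ≤ P)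
    (hsub : ∀ M : Subgroup X, M ≠ ⊤ →
      FamilyControlsStrongFusionIn p ((fun W => inducedFunctor (G := X) W) '' 𝓦) M)
    (hq : FamilyControlsStrongFusionIn p ((fun W => inducedFunctor (G := X ⧸ P) W) '' 𝓦) ⊤)
    (hcent : ∀ d : X, (orderOf d).Coprime p → d ∈ Subgroup.centralizer (P : Set X))
    (U : Subgroup X) (hPU : P ≤ U) (hUS : U ≤ (S : Subgroup X))
    (hidx : ¬ p ∣ ((S : Subgroup X) ⊓ Subgroup.normalizer (U : Set X)).relIndex
      (Subgroup.normalizer (U : Set X)))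
    (n : X) (hn : n ∈ Subgroup.normalizer (U : Set X)) :
    ChainGood (sfNs 𝓦 (S : Subgroup X)) ((S : Subgroup X) : Set X) (U : Set X) n := by
  classical
  have hSp : IsPGroup p (S : Subgroup X) := S.2
  have hPS : P ≤ (S : Subgroup X) := hPp.le_sylow_of_normal S
  have hSne : (S : Subgroup X) ≠ ⊤ := by
    intro h
    apply hSP
    apply hPmax _ _ hSp
    rw [h]; infer_instance
  have hnU : ∀ a ∈ U, n * a * n⁻¹ ∈ U := fun a ha => (Subgroup.mem_normalizer_iff.1 hn a).1 ha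
  obtain ⟨g', hg', hg'a⟩ := sf_pcore_lift 𝓦 h𝓦 S P hPS hSP hPmax hsub hq (U : Set X) n hUS
    (fun a ha => hUS (hnU a ha))
  have hg'U : ∀ a ∈ U, g' * a * g'⁻¹ ∈ U := by
    intro a ha
    have h1 := hg'a a ha
    have h2 : (n * a * n⁻¹)⁻¹ * (g' * a * g'⁻¹) ∈ P := QuotientGroup.eq.1 h1.symm
    have e : g' * a * g'⁻¹ = (n * a * n⁻¹) * ((n * a * n⁻¹)⁻¹ * (g' * a * g'⁻¹)) := by group
    rw [e]; exact U.mul_mem (hnU a ha) (hPU h2)
  have hg'N : g' ∈ Subgroup.normalizer (U : Set X) := mem_normalizer_of_conj_mem U g' hg'U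
  have hz : n * g'⁻¹ ∈ stabMod U P := by
    rw [mem_stabMod]
    refine ⟨Subgroup.mul_mem _ hn (Subgroup.inv_mem _ hg'N), ?_⟩
    intro b hb
    have hb' : g'⁻¹ * b * g' ∈ U := by
      have := (Subgroup.mem_normalizer_iff.1 (Subgroup.inv_mem _ hg'N) b).1 hb
      simpa using this
    have h1 := hg'a _ hb'
    have h2 : (g' * (g'⁻¹ * b * g') * g'⁻¹)⁻¹ * (n * (g'⁻¹ * b * g') * n⁻¹) ∈ P :=
      QuotientGroup.eq.1 h1
    have e : n * g'⁻¹ * b * (n * g'⁻¹)⁻¹ * b⁻¹ =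
        b * ((g' * (g'⁻¹ * b * g') * g'⁻¹)⁻¹ * (n * (g'⁻¹ * b * g') * n⁻¹)) * b⁻¹ := by group
    rw [e]; exact ‹P.Normal›.conj_mem _ h2 b
  obtain ⟨s, hs, hsz⟩ := stab_sylow S P hPp hcent U hidx _ hz
  have hstep : ChainGood (sfNs 𝓦 (S : Subgroup X)) ((S : Subgroup X) : Set X)
      ((fun a => g' * a * g'⁻¹) '' (U : Set X)) s := by
    apply chainGood_of_control 𝓦 h𝓦 S (S : Subgroup X) le_rfl (hsub _ hSne) _ s hs
    · rintro _ ⟨a, ha, rfl⟩; exact hUS (hg'U a ha)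
    · rintro _ ⟨a, ha, rfl⟩
      exact Subgroup.mul_mem _ (Subgroup.mul_mem _ hs (hUS (hg'U a ha))) (Subgroup.inv_mem _ hs)
  refine (hg'.trans hstep).congr ?_
  intro a ha
  have h1 := hsz _ (hg'U a ha)
  calc s * g' * a * (s * g')⁻¹ = s * (g' * a * g'⁻¹) * s⁻¹ := by group
    _ = n * g'⁻¹ * (g' * a * g'⁻¹) * (n * g'⁻¹)⁻¹ := h1
    _ = n * a * n⁻¹ := by group

/-- The central case: downward induction over the subgroups of `S` containing `P`. -/
theorem sf_core_central (𝓦 : Set (∀ (Q : Type u) [Group Q], Subgroup Q))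
    (h𝓦 : ∀ W ∈ 𝓦, IsCharPFunctor.{u} p W) (S : Sylow p X) (P : Subgroup X) [P.Normal]
    (hPp : IsPGroup p P) (hSP : ¬ (S : Subgroup X) ≤ P)
    (hPmax : ∀ L : Subgroup X, L.Normal → IsPGroup p L → L ≤ P)
    (hsub : ∀ M : Subgroup X, M ≠ ⊤ →
      FamilyControlsStrongFusionIn p ((fun W => inducedFunctor (G := X) W) '' 𝓦) M)
    (hq : FamilyControlsStrongFusionIn p ((fun W => inducedFunctor (G := X ⧸ P) W) '' 𝓦) ⊤)
    (hcent : ∀ d : X, (orderOf d).Coprime p → d ∈ Subgroup.centralizer (P : Set X)) :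
    ∀ (k : ℕ) (B : Subgroup X), P ≤ B → B ≤ (S : Subgroup X) →
      Nat.card (S : Subgroup X) ≤ Nat.card B + k →
      ∀ g : X, (∀ a ∈ B, g * a * g⁻¹ ∈ (S : Subgroup X)) →
        ChainGood (sfNs 𝓦 (S : Subgroup X)) ((S : Subgroup X) : Set X) (B : Set X) g := by
  classical
  have hSp : IsPGroup p (S : Subgroup X) := S.2
  have hPS : P ≤ (S : Subgroup X) := hPp.le_sylow_of_normal S
  have hNsinv := sfNs_inv 𝓦 (S : Subgroup X)
  -- the top case
  have hQS : ∀ u : X, (∀ a ∈ (S : Subgroup X), u * a * u⁻¹ ∈ (S : Subgroup X)) →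
      ChainGood (sfNs 𝓦 (S : Subgroup X)) ((S : Subgroup X) : Set X)
        (((S : Subgroup X) : Subgroup X) : Set X) u := by
    intro u hu
    have huN : u ∈ Subgroup.normalizer (((S : Subgroup X) : Subgroup X) : Set X) :=
      mem_normalizer_of_conj_mem _ u hu
    refine sf_normalizer_step 𝓦 h𝓦 S P hPp hSP hPmax hsub hq hcent (S : Subgroup X) hPS le_rfl
      ?_ u huN
    rw [inf_eq_left.mpr Subgroup.le_normalizer]
    exact sylow_relIndex S _ Subgroup.le_normalizer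
  -- the main step
  have step : ∀ (B : Subgroup X), P ≤ B → B ≤ (S : Subgroup X) →
      (∀ B₁ : Subgroup X, P ≤ B₁ → B₁ ≤ (S : Subgroup X) → Nat.card B₁ = Nat.card B →
        ∀ u : X, (∀ a ∈ nS (S : Subgroup X) B₁, u * a * u⁻¹ ∈ (S : Subgroup X)) →
          ChainGood (sfNs 𝓦 (S : Subgroup X)) ((S : Subgroup X) : Set X) (B₁ : Set X) u) →
      ∀ g : X, (∀ a ∈ B, g * a * g⁻¹ ∈ (S : Subgroup X)) →
        ChainGood (sfNs 𝓦 (S : Subgroup X)) ((S : Subgroup X) : Set X) (B : Set X) g := by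
    intro B hPB hBS hQ g hg
    obtain ⟨U, u, hU, hUS, hidx, hu⟩ := exists_extremal_conj' S B hBS
    obtain ⟨B', hB'def⟩ : ∃ B' : Subgroup X, B' = B.map (MulAut.conj g).toMonoidHom := ⟨_, rfl⟩
    have hB'S : B' ≤ (S : Subgroup X) := by
      rw [hB'def, map_conj_le_iff]; exact hg
    have hPB' : P ≤ B' := by
      intro x hx
      rw [hB'def, mem_map_conj]
      apply hPB
      have := ‹P.Normal›.conj_mem x hx g⁻¹
      simpa using this
    have hcard' : Nat.card B' = Nat.card B := by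
      rw [hB'def]; exact Subgroup.card_map_of_injective (conj_injective g)
    have hv0 : B'.map (MulAut.conj (u * g⁻¹)).toMonoidHom = U := by
      rw [hB'def, map_conj_mul]
      have e : u * g⁻¹ * g = u := by group
      rw [e]; exact hU
    obtain ⟨v, hvU, hvN, hv⟩ := exists_conj_normalizer_le S (A := B') (U := U) (u * g⁻¹) hv0 hidx
    have hPU : P ≤ U := by
      intro x hx
      rw [← hU, mem_map_conj]
      apply hPB
      have := ‹P.Normal›.conj_mem x hx u⁻¹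
      simpa using this
    have hgu : ChainGood (sfNs 𝓦 (S : Subgroup X)) ((S : Subgroup X) : Set X) (B : Set X) u :=
      hQ B hPB hBS rfl u (fun a ha => (hu a ha).1)
    have hgv : ChainGood (sfNs 𝓦 (S : Subgroup X)) ((S : Subgroup X) : Set X) (B' : Set X) v :=
      hQ B' hPB' hB'S hcard' v (fun a ha => (hv a ha).1)
    have hn : ChainGood (sfNs 𝓦 (S : Subgroup X)) ((S : Subgroup X) : Set X) (U : Set X)
        (v * (u * g⁻¹)⁻¹) :=
      sf_normalizer_step 𝓦 h𝓦 S P hPp hSP hPmax hsub hq hcent U hPU hUS hidx _ hvN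
    have h1 : ChainGood (sfNs 𝓦 (S : Subgroup X)) ((S : Subgroup X) : Set X) (B : Set X)
        (v * (u * g⁻¹)⁻¹ * u) := by
      refine hgu.trans (hn.mono ?_)
      rintro _ ⟨a, ha, rfl⟩
      show u * a * u⁻¹ ∈ U
      rw [← hU]; exact conj_mem_map_conj B u a ha
    have h2 : ChainGood (sfNs 𝓦 (S : Subgroup X)) ((S : Subgroup X) : Set X)
        ((fun a => (v * (u * g⁻¹)⁻¹ * u) * a * (v * (u * g⁻¹)⁻¹ * u)⁻¹) '' (B : Set X)) v⁻¹ := by
      refine (hgv.symm hNsinv).mono ?_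
      rintro _ ⟨a, ha, rfl⟩
      refine ⟨g * a * g⁻¹, ?_, by group⟩
      show g * a * g⁻¹ ∈ B'
      rw [hB'def]; exact conj_mem_map_conj B g a ha
    have h3 := h1.trans h2
    have e : v⁻¹ * (v * (u * g⁻¹)⁻¹ * u) = g := by group
    rw [e] at h3
    exact h3
  intro k
  induction k with
  | zero =>
    intro B hPB hBS hcard g hg
    have hBeq : B = (S : Subgroup X) := Subgroup.eq_of_le_of_card_ge hBS (by simpa using hcard)
    subst hBeq
    exact hQS g hg
  | succ k ih =>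
    intro B hPB hBS hcard g hg
    by_cases hBeq : B = (S : Subgroup X)
    · subst hBeq
      exact hQS g hg
    · apply step B hPB hBS ?_ g hg
      intro B₁ hPB₁ hB₁S hc u hu
      have hne : B₁ ≠ (S : Subgroup X) := by
        intro h
        apply hBeq
        apply Subgroup.eq_of_le_of_card_ge hBS
        rw [← hc, h]
      obtain ⟨x, hxS, hxN, hxB⟩ := exists_mem_normalizer_not_mem hSp hB₁S hne
      have hle : B₁ ≤ nS (S : Subgroup X) B₁ := le_inf hB₁S Subgroup.le_normalizer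
      have hlt : Nat.card B₁ < Nat.card ↥(nS (S : Subgroup X) B₁) := by
        by_contra hcon
        have := Subgroup.eq_of_le_of_card_ge hle (not_lt.1 hcon)
        apply hxB
        rw [this]; exact ⟨hxS, hxN⟩
      have h1 := ih (nS (S : Subgroup X) B₁) (hPB₁.trans hle) inf_le_left (by omega) u hu
      exact h1.mono hle

/-- The Frattini case: `S C_X(P)` is proper and `S ∩ P C_X(P)` is not normal. -/
theorem sf_core_frattini (𝓦 : Set (∀ (Q : Type u) [Group Q], Subgroup Q))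
    (h𝓦 : ∀ W ∈ 𝓦, IsCharPFunctor.{u} p W) (S : Sylow p X) (P : Subgroup X) [P.Normal]
    (hPp : IsPGroup p P)
    (hsub : ∀ M : Subgroup X, M ≠ ⊤ →
      FamilyControlsStrongFusionIn p ((fun W => inducedFunctor (G := X) W) '' 𝓦) M)
    (hH : (S : Subgroup X) ⊔ Subgroup.centralizer (P : Set X) ≠ ⊤)
    (hR : Subgroup.normalizer ((((S : Subgroup X) ⊓ (P ⊔ Subgroup.centralizer (P : Set X)) :
      Subgroup X)) : Set X) ≠ ⊤) :
    ∀ (A : Set X) (g : X), A ⊆ (S : Subgroup X) → (∀ a ∈ A, g * a * g⁻¹ ∈ (S : Subgroup X)) →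
      ChainGood (sfNs 𝓦 (S : Subgroup X)) ((S : Subgroup X) : Set X) A g := by
  classical
  intro A g hA hgA
  have hSp : IsPGroup p (S : Subgroup X) := S.2
  have hPS : P ≤ (S : Subgroup X) := hPp.le_sylow_of_normal S
  obtain ⟨C, hCdef⟩ : ∃ C : Subgroup X, C = Subgroup.centralizer (P : Set X) := ⟨_, rfl⟩
  rw [← hCdef] at hH hR
  have hCn : C.Normal := by rw [hCdef]; infer_instance
  obtain ⟨L, hLdef⟩ : ∃ L : Subgroup X, L = P ⊔ C := ⟨_, rfl⟩
  rw [← hLdef] at hR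
  have hLn : L.Normal := by rw [hLdef]; infer_instance
  obtain ⟨H, hHdef⟩ : ∃ H : Subgroup X, H = (S : Subgroup X) ⊔ C := ⟨_, rfl⟩
  rw [← hHdef] at hH
  have hSH : (S : Subgroup X) ≤ H := by rw [hHdef]; exact le_sup_left
  have hLH : L ≤ H := by
    rw [hLdef, hHdef]; exact sup_le (hPS.trans le_sup_left) le_sup_right
  obtain ⟨N, hNdef⟩ : ∃ N : Subgroup X,
      N = Subgroup.normalizer ((((S : Subgroup X) ⊓ L : Subgroup X)) : Set X) := ⟨_, rfl⟩
  rw [← hNdef] at hR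
  have hSN : (S : Subgroup X) ≤ N := by
    intro s hs
    rw [hNdef]
    apply mem_normalizer_of_conj_mem
    intro w hw
    exact ⟨Subgroup.mul_mem _ (Subgroup.mul_mem _ hs hw.1) (Subgroup.inv_mem _ hs),
      hLn.conj_mem w hw.2 s⟩
  -- Frattini
  have hfr : N ⊔ L = ⊤ := by
    obtain ⟨D, hD⟩ := sylow_inf_normal_eq_map S L
    have := Sylow.normalizer_sup_eq_top D
    rw [hD] at this
    rw [hNdef]; exact this
  have hgmem : g ∈ L ⊔ N := by rw [sup_comm, hfr]; exact Subgroup.mem_top _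
  obtain ⟨c₀, hc₀, n', hn', hgcn⟩ := Subgroup.mem_sup_of_normal_left.1 hgmem
  obtain ⟨E, hE⟩ : ∃ E : Subgroup X, E = (Subgroup.closure A).map (MulAut.conj n').toMonoidHom :=
    ⟨_, rfl⟩
  have hBS : Subgroup.closure A ≤ (S : Subgroup X) := by
    rw [Subgroup.closure_le]; exact hA
  have hEp : IsPGroup p E := by rw [hE]; exact (hSp.to_le hBS).map _
  have hEN : E ≤ N := by
    rw [hE, map_conj_le_iff]
    intro x hx
    exact N.mul_mem (N.mul_mem hn' (hSN (hBS hx))) (N.inv_mem hn')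
  have hEH : E ≤ H := by
    rw [hE, MonoidHom.map_closure, Subgroup.closure_le]
    rintro _ ⟨a, ha, rfl⟩
    show n' * a * n'⁻¹ ∈ H
    have e : n' * a * n'⁻¹ = c₀⁻¹ * (g * a * g⁻¹) * c₀ := by rw [← hgcn]; group
    rw [e]
    exact H.mul_mem (H.mul_mem (H.inv_mem (hLH hc₀)) (hSH (hgA a ha))) (hLH hc₀)
  obtain ⟨m, hmM, hm⟩ := exists_conj_le_of_relIndex (H := N ⊓ H)
    (Q := (S : Subgroup X)) hSp (sylow_relIndex S _ (le_inf hSN hSH))
    (le_inf hEN hEH) hEp
  have hmn : ∀ a ∈ A, (m * n') * a * (m * n')⁻¹ ∈ (S : Subgroup X) := by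
    intro a ha
    have he : n' * a * n'⁻¹ ∈ E := by
      rw [hE]; exact conj_mem_map_conj _ n' _ (Subgroup.subset_closure ha)
    have h1 := hm _ he
    have e : (m * n') * a * (m * n')⁻¹ = m * (n' * a * n'⁻¹) * m⁻¹ := by group
    rw [e]; exact h1
  have h1 : ChainGood (sfNs 𝓦 (S : Subgroup X)) ((S : Subgroup X) : Set X) A (m * n') :=
    chainGood_of_control 𝓦 h𝓦 S N hSN (hsub N hR) A (m * n') (N.mul_mem hmM.1 hn') hA hmn
  have h2 : ChainGood (sfNs 𝓦 (S : Subgroup X)) ((S : Subgroup X) : Set X)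
      ((fun a => (m * n') * a * (m * n')⁻¹) '' A) (c₀ * m⁻¹) := by
    apply chainGood_of_control 𝓦 h𝓦 S H hSH (hsub H hH) _ (c₀ * m⁻¹)
      (H.mul_mem (hLH hc₀) (H.inv_mem hmM.2))
    · rintro _ ⟨a, ha, rfl⟩; exact hmn a ha
    · rintro _ ⟨a, ha, rfl⟩
      have e : c₀ * m⁻¹ * ((m * n') * a * (m * n')⁻¹) * (c₀ * m⁻¹)⁻¹ = g * a * g⁻¹ := by
        rw [← hgcn]; group
      rw [e]; exact hgA a ha
  have h3 := h1.trans h2
  have e : c₀ * m⁻¹ * (m * n') = g := by rw [← hgcn]; group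
  rw [e] at h3
  exact h3

/-- If `C_X(O_p(X)) ≰ O_p(X)`, control of strong fusion in the proper sections of `X` gives
control in `X`. -/
theorem sf_core (𝓦 : Set (∀ (Q : Type u) [Group Q], Subgroup Q))
    (h𝓦 : ∀ W ∈ 𝓦, IsCharPFunctor.{u} p W) (S : Sylow p X) (P : Subgroup X) [P.Normal]
    (hPp : IsPGroup p P) (hPmax : ∀ L : Subgroup X, L.Normal → IsPGroup p L → L ≤ P)
    (hsub : ∀ M : Subgroup X, M ≠ ⊤ →
      FamilyControlsStrongFusionIn p ((fun W => inducedFunctor (G := X) W) '' 𝓦) M)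
    (hquot : ∀ (N : Subgroup X) [N.Normal], N ≠ ⊥ →
      FamilyControlsStrongFusionIn p ((fun W => inducedFunctor (G := X ⧸ N) W) '' 𝓦) ⊤)
    (hC : ¬ Subgroup.centralizer (P : Set X) ≤ P) :
    ∀ (A : Set X) (g : X), A ⊆ (S : Subgroup X) → (∀ a ∈ A, g * a * g⁻¹ ∈ (S : Subgroup X)) →
      ChainGood (sfNs 𝓦 (S : Subgroup X)) ((S : Subgroup X) : Set X) A g := by
  classical
  have hSp : IsPGroup p (S : Subgroup X) := S.2
  have hPS : P ≤ (S : Subgroup X) := hPp.le_sylow_of_normal S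
  by_cases hD : ∃ D : Subgroup X, D.Normal ∧ D ≠ ⊥ ∧ (Nat.card D).Coprime p
  · obtain ⟨D, hDn, hDne, hDc⟩ := hD
    exact sf_pprime_quotient_step 𝓦 h𝓦 S D hDc (hquot D hDne)
  have hno : ∀ D : Subgroup X, D.Normal → (Nat.card D).Coprime p → D = ⊥ := by
    intro D hDn hDc
    by_contra hne
    exact hD ⟨D, hDn, hne, hDc⟩
  have hRP : ¬ ((S : Subgroup X) ⊓ (P ⊔ Subgroup.centralizer (P : Set X)) ≤ P) :=
    fun h => hC (centralizer_le_of_no_pprime S P hPp hno h)
  by_cases hP : P = ⊥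
  · intro A g hA hgA
    have hc : FamilyControlsStrongFusionIn p ((fun W => inducedFunctor (G := X) W) '' 𝓦) ⊤ := by
      apply Cfsg.Agent.S1959.result S _ (isConj_image 𝓦 h𝓦)
      intro T hTS hTne _
      apply hsub
      intro hN
      apply hTne
      have hTn : T.Normal := by rw [← Subgroup.normalizer_eq_top_iff]; exact hN
      have := hPmax T hTn (hSp.to_le hTS)
      rw [hP] at this
      exact le_bot_iff.1 this
    exact chainGood_of_control 𝓦 h𝓦 S ⊤ le_top hc A g (Subgroup.mem_top _) hA hgA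
  by_cases hH : (S : Subgroup X) ⊔ Subgroup.centralizer (P : Set X) = ⊤
  · have hSP : ¬ (S : Subgroup X) ≤ P := fun h => hRP (inf_le_left.trans h)
    have hcent : ∀ d : X, (orderOf d).Coprime p → d ∈ Subgroup.centralizer (P : Set X) := by
      intro d hd
      have hmem : d ∈ (S : Subgroup X) ⊔ Subgroup.centralizer (P : Set X) := by
        rw [hH]; exact Subgroup.mem_top _
      obtain ⟨s, hs, c, hc, hsc⟩ := Subgroup.mem_sup_of_normal_right.1 hmem
      obtain ⟨j, hj⟩ := hSp ⟨s, hs⟩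
      have hj' : s ^ p ^ j = 1 := by
        have := congrArg Subtype.val hj
        simpa using this
      have h1 : orderOf (QuotientGroup.mk' (Subgroup.centralizer (P : Set X)) d) ∣ orderOf d :=
        orderOf_map_dvd _ d
      have h2 : orderOf (QuotientGroup.mk' (Subgroup.centralizer (P : Set X)) d) ∣ p ^ j := by
        have e : QuotientGroup.mk' (Subgroup.centralizer (P : Set X)) d =
            QuotientGroup.mk' (Subgroup.centralizer (P : Set X)) s := by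
          have hc1 : QuotientGroup.mk' (Subgroup.centralizer (P : Set X)) c = 1 :=
            (QuotientGroup.eq_one_iff c).2 hc
          rw [← hsc, map_mul, hc1, mul_one]
        rw [e]
        apply orderOf_dvd_of_pow_eq_one
        rw [← map_pow, hj', map_one]
      have h3 : orderOf (QuotientGroup.mk' (Subgroup.centralizer (P : Set X)) d) = 1 :=
        Nat.eq_one_of_dvd_coprimes (Nat.Coprime.pow_right j hd) h1 h2
      exact (QuotientGroup.eq_one_iff d).1 (orderOf_eq_one_iff.1 h3)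
    intro A g hA hgA
    obtain ⟨B, hBdef⟩ : ∃ B : Subgroup X, B = Subgroup.closure A ⊔ P := ⟨_, rfl⟩
    have hBS : B ≤ (S : Subgroup X) := by
      rw [hBdef]; exact sup_le ((Subgroup.closure_le _).2 hA) hPS
    have hgB : ∀ a ∈ B, g * a * g⁻¹ ∈ (S : Subgroup X) := by
      rw [← map_conj_le_iff, hBdef, Subgroup.map_sup, MonoidHom.map_closure]
      apply sup_le
      · rw [Subgroup.closure_le]; rintro _ ⟨a, ha, rfl⟩; exact hgA a ha
      · rw [map_conj_le_iff]; intro x hx; exact hPS (‹P.Normal›.conj_mem x hx g)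
    have h1 := sf_core_central 𝓦 h𝓦 S P hPp hSP hPmax hsub (hquot P hP) hcent
      (Nat.card (S : Subgroup X)) B (by rw [hBdef]; exact le_sup_right) hBS (by omega) g hgB
    exact h1.mono (by
      intro a ha
      show a ∈ B
      rw [hBdef]; exact Subgroup.mem_sup_left (Subgroup.subset_closure ha))
  · exact sf_core_frattini 𝓦 h𝓦 S P hPp hsub hH (by
      intro hN
      apply hRP
      apply hPmax _ _ (hSp.to_le inf_le_left)
      rw [← Subgroup.normalizer_eq_top_iff]; exact hN)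

end sfcore

section sfsect
variable {G : Type u} [Group G] [Finite G] {p : ℕ} [Fact p.Prime]

/-- Control of strong fusion in all proper subgroups of a section, from control in smaller
sections. -/
theorem sf_hsub_of_sections (𝓦 : Set (∀ (Q : Type u) [Group Q], Subgroup Q))
    (h𝓦 : ∀ W ∈ 𝓦, IsCharPFunctor.{u} p W) (K R : Subgroup G) [hR : (R.subgroupOf K).Normal]
    (ih : ∀ (K₁ R₁ : Subgroup G) [hR₁ : (R₁.subgroupOf K₁).Normal],
      Nat.card (↥K₁ ⧸ R₁.subgroupOf K₁) < Nat.card (↥K ⧸ R.subgroupOf K) →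
      FamilyControlsStrongFusionIn p
        ((fun W => inducedFunctor (G := ↥K₁ ⧸ R₁.subgroupOf K₁) W) '' 𝓦) ⊤) :
    ∀ M : Subgroup (↥K ⧸ R.subgroupOf K), M ≠ ⊤ →
      FamilyControlsStrongFusionIn p
        ((fun W => inducedFunctor (G := ↥K ⧸ R.subgroupOf K) W) '' 𝓦) M := by
  intro M hM
  obtain ⟨K₁, R₁, hR₁, ⟨e⟩⟩ := section_subgroup K (QuotientGroup.mk' (R.subgroupOf K))
    (QuotientGroup.mk'_surjective _) M
  have hcard : Nat.card (↥K₁ ⧸ R₁.subgroupOf K₁) < Nat.card (↥K ⧸ R.subgroupOf K) := by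
    rw [Nat.card_congr e.toEquiv]; exact card_lt_of_ne_top hM
  have h1 := ih K₁ R₁ hcard
  have h2 := familyControlsStrongFusionIn_map 𝓦 h𝓦 (M.subtype.comp e.toMonoidHom)
    (M.subtype_injective.comp e.injective) h1
  have hr : (M.subtype.comp e.toMonoidHom).range = M := by
    rw [MonoidHom.range_comp, MonoidHom.range_eq_top.mpr e.surjective,
      ← MonoidHom.range_eq_map, Subgroup.range_subtype]
  rw [hr] at h2
  exact h2

/-- Control of strong fusion in all proper quotients of a section, from control in smaller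
sections. -/
theorem sf_hquot_of_sections (𝓦 : Set (∀ (Q : Type u) [Group Q], Subgroup Q))
    (h𝓦 : ∀ W ∈ 𝓦, IsCharPFunctor.{u} p W) (K R : Subgroup G) [hR : (R.subgroupOf K).Normal]
    (ih : ∀ (K₁ R₁ : Subgroup G) [hR₁ : (R₁.subgroupOf K₁).Normal],
      Nat.card (↥K₁ ⧸ R₁.subgroupOf K₁) < Nat.card (↥K ⧸ R.subgroupOf K) →
      FamilyControlsStrongFusionIn p
        ((fun W => inducedFunctor (G := ↥K₁ ⧸ R₁.subgroupOf K₁) W) '' 𝓦) ⊤) :
    ∀ (N : Subgroup (↥K ⧸ R.subgroupOf K)) [N.Normal], N ≠ ⊥ →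
      FamilyControlsStrongFusionIn p
        ((fun W => inducedFunctor (G := (↥K ⧸ R.subgroupOf K) ⧸ N) W) '' 𝓦) ⊤ := by
  intro N _ hN
  obtain ⟨R₂, hR₂, ⟨e⟩⟩ := section_quotient K (QuotientGroup.mk' (R.subgroupOf K))
    (QuotientGroup.mk'_surjective _) N
  have hcard : Nat.card (↥K ⧸ R₂.subgroupOf K) < Nat.card (↥K ⧸ R.subgroupOf K) := by
    rw [Nat.card_congr e.toEquiv]; exact card_quotient_lt N hN
  have h1 := ih K R₂ hcard
  have h2 := familyControlsStrongFusionIn_map 𝓦 h𝓦 e.toMonoidHom e.injective h1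
  rw [MonoidHom.range_eq_top.mpr e.surjective] at h2
  exact h2

/-- Control of strong fusion in all sections, from control in the constrained sections. -/
theorem strong_fusion_sections (𝓦 : Set (∀ (Q : Type u) [Group Q], Subgroup Q))
    (h𝓦 : ∀ W ∈ 𝓦, IsCharPFunctor.{u} p W)
    (hcon : ∀ (K R : Subgroup G) [hR : (R.subgroupOf K).Normal],
      Subgroup.centralizer ((pCore p (↥K ⧸ R.subgroupOf K) : Subgroup (↥K ⧸ R.subgroupOf K)) :
        Set (↥K ⧸ R.subgroupOf K)) ≤ pCore p (↥K ⧸ R.subgroupOf K) →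
      FamilyControlsStrongFusionIn p
        ((fun W => inducedFunctor (G := ↥K ⧸ R.subgroupOf K) W) '' 𝓦) ⊤) :
    ∀ (n : ℕ) (K R : Subgroup G) [hR : (R.subgroupOf K).Normal],
      Nat.card (↥K ⧸ R.subgroupOf K) = n →
      FamilyControlsStrongFusionIn p
        ((fun W => inducedFunctor (G := ↥K ⧸ R.subgroupOf K) W) '' 𝓦) ⊤ := by
  intro n
  induction n using Nat.strong_induction_on with
  | _ n ih =>
  intro K R hR hn
  have ih' : ∀ (K₁ R₁ : Subgroup G) [hR₁ : (R₁.subgroupOf K₁).Normal],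
      Nat.card (↥K₁ ⧸ R₁.subgroupOf K₁) < Nat.card (↥K ⧸ R.subgroupOf K) →
      FamilyControlsStrongFusionIn p
        ((fun W => inducedFunctor (G := ↥K₁ ⧸ R₁.subgroupOf K₁) W) '' 𝓦) ⊤ := by
    intro K₁ R₁ hR₁ hlt
    exact ih _ (hn ▸ hlt) K₁ R₁ rfl
  have hsub := sf_hsub_of_sections 𝓦 h𝓦 K R ih'
  have hquot := sf_hquot_of_sections 𝓦 h𝓦 K R ih'
  obtain ⟨S⟩ : Nonempty (Sylow p (↥K ⧸ R.subgroupOf K)) := inferInstance
  have hPn := Cfsg.Agent.Lib.helper14.pCore_normal' p (↥K ⧸ R.subgroupOf K)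
  have hPp := Cfsg.Agent.Lib.helper14.isPGroup_pCore p (↥K ⧸ R.subgroupOf K)
  have hPmax : ∀ L : Subgroup (↥K ⧸ R.subgroupOf K), L.Normal → IsPGroup p L →
      L ≤ pCore p (↥K ⧸ R.subgroupOf K) :=
    fun L hL hLp => Cfsg.Agent.Lib.helper14.le_pCore hL hLp
  by_cases hC : Subgroup.centralizer ((pCore p (↥K ⧸ R.subgroupOf K) :
      Subgroup (↥K ⧸ R.subgroupOf K)) : Set (↥K ⧸ R.subgroupOf K)) ≤
      pCore p (↥K ⧸ R.subgroupOf K)
  · exact hcon K R hC
  · exact control_of_chainGood 𝓦 S (sf_core 𝓦 h𝓦 S _ hPp hPmax hsub hquot hC)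

/-- The section `⊤ / ⊥` is the group itself. -/
theorem sf_control_of_top_bot (𝓦 : Set (∀ (Q : Type u) [Group Q], Subgroup Q))
    (h𝓦 : ∀ W ∈ 𝓦, IsCharPFunctor.{u} p W)
    (h : ∀ (K R : Subgroup G) [hR : (R.subgroupOf K).Normal],
      FamilyControlsStrongFusionIn p
        ((fun W => inducedFunctor (G := ↥K ⧸ R.subgroupOf K) W) '' 𝓦) ⊤) :
    FamilyControlsStrongFusionIn p ((fun W => inducedFunctor (G := G) W) '' 𝓦) ⊤ := by
  obtain ⟨R, hR, ⟨e⟩⟩ := exists_section_of_surjective (⊤ : Subgroup G)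
    (Subgroup.topEquiv : ↥(⊤ : Subgroup G) ≃* G).toMonoidHom
    (Subgroup.topEquiv : ↥(⊤ : Subgroup G) ≃* G).surjective
  have h1 := h ⊤ R
  have h2 := familyControlsStrongFusionIn_map 𝓦 h𝓦 e.toMonoidHom e.injective h1
  rw [MonoidHom.range_eq_top.mpr e.surjective] at h2
  exact h2

end sfsect

end Cfsg.Agent.Lib.helper10
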