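import Cfsg.Agent.Lib.helper10.SFBasic

set_option autoImplicit false

namespace Cfsg.Agent.Lib.helper10

open Cfsg

universe u

section sfquot
variable {X : Type u} [Group X] [Finite X] {p : ℕ} [Fact p.Prime]

/-- Lifting of chains from the quotient by a normal `p'`-subgroup. -/
theorem lift_chain_pprime (𝓦 : Set (∀ (Q : Type u) [Group Q], Subgroup Q))
    (h𝓦 : ∀ W ∈ 𝓦, IsCharPFunctor.{u} p W) (S : Sylow p X) (D : Subgroup X) [D.Normal]
    (hD : (Nat.card D).Coprime p) (A : Set X) (hA : A ⊆ (S : Subgroup X)) :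
    ∀ cb : X ⧸ D,
      FChain {z | ∃ W' ∈ (fun W => inducedFunctor (G := X ⧸ D) W) '' 𝓦,
          z ∈ (⊤ : Subgroup (X ⧸ D)) ⊓ Subgroup.normalizer
            ((W' ((S : Subgroup X).map (QuotientGroup.mk' D)) : Subgroup (X ⧸ D)) : Set (X ⧸ D))}
        (((S : Subgroup X).map (QuotientGroup.mk' D) : Subgroup (X ⧸ D)) : Set (X ⧸ D))
        ((QuotientGroup.mk' D) '' A) cb →
      ∃ c : X, FChain (sfNs 𝓦 (S : Subgroup X)) ((S : Subgroup X) : Set X) A c ∧
        ∀ a ∈ A, QuotientGroup.mk' D (c * a * c⁻¹) = cb * QuotientGroup.mk' D a * cb⁻¹ := by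
  classical
  have hSp : IsPGroup p (S : Subgroup X) := S.2
  have hSD : (S : Subgroup X) ⊓ D = ⊥ := by
    apply Subgroup.inf_eq_bot_of_coprime
    obtain ⟨n, hn⟩ := (IsPGroup.iff_card.mp hSp)
    rw [hn]
    exact Nat.Coprime.pow_left n hD.symm
  intro cb hcb
  induction hcb with
  | one hA' => exact ⟨1, FChain.one hA, fun a ha => by simp⟩
  | step cb yb hyb hcb hA' ih =>
    obtain ⟨c, hc, hca⟩ := ih
    obtain ⟨W', ⟨W, hW, rfl⟩, -, hyb⟩ := hyb
    have hWmap : inducedFunctor W ((S : Subgroup X).map (QuotientGroup.mk' D)) =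
        (inducedFunctor W (S : Subgroup X)).map (QuotientGroup.mk' D) :=
      induced_map_of_inf_ker W (h𝓦 W hW) (S : Subgroup X) hSp (QuotientGroup.mk' D)
        (by rw [QuotientGroup.ker_mk']; exact hSD)
    have hyb' : yb ∈ Subgroup.normalizer
        (((inducedFunctor W (S : Subgroup X)).map (QuotientGroup.mk' D) : Subgroup (X ⧸ D)) :
          Set (X ⧸ D)) := by
      rw [← hWmap]; exact hyb
    have hVp : IsPGroup p (inducedFunctor W (S : Subgroup X)) :=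
      hSp.to_le ((isConjugacyFunctor_induced W (h𝓦 W hW) _ hSp).1)
    obtain ⟨y₀, hy₀, rfl⟩ := normalizer_map_le_of_coprime D hD _ hVp hyb'
    obtain ⟨N, hN⟩ : ∃ N : Subgroup X, N = Subgroup.normalizer
        ((inducedFunctor W (S : Subgroup X) : Subgroup X) : Set X) := ⟨_, rfl⟩
    rw [← hN] at hy₀
    have hSN : (S : Subgroup X) ≤ N := by
      rw [hN]
      exact sylow_le_normalizer_functor (isConjugacyFunctor_induced W (h𝓦 W hW)) S
    obtain ⟨E, hE⟩ : ∃ E : Subgroup X, E = (Subgroup.closure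
        ((fun a => c * a * c⁻¹) '' A)).map (MulAut.conj y₀).toMonoidHom := ⟨_, rfl⟩
    have hBS : Subgroup.closure ((fun a => c * a * c⁻¹) '' A) ≤ (S : Subgroup X) := by
      rw [Subgroup.closure_le]; rintro _ ⟨a, ha, rfl⟩; exact hc.image_subset a ha
    have hEp : IsPGroup p E := by rw [hE]; exact (hSp.to_le hBS).map _
    have hEN : E ≤ N := by
      rw [hE, map_conj_le_iff]
      intro x hx
      exact N.mul_mem (N.mul_mem hy₀ (hSN (hBS hx))) (N.inv_mem hy₀)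
    have hESD : E ≤ (S : Subgroup X) ⊔ D := by
      rw [hE, MonoidHom.map_closure, Subgroup.closure_le]
      rintro _ ⟨_, ⟨a, ha, rfl⟩, rfl⟩
      have h1 := hA' (QuotientGroup.mk' D a) ⟨a, ha, rfl⟩
      have h2 : QuotientGroup.mk' D (y₀ * (c * a * c⁻¹) * y₀⁻¹) ∈
          (S : Subgroup X).map (QuotientGroup.mk' D) := by
        have e : QuotientGroup.mk' D (y₀ * (c * a * c⁻¹) * y₀⁻¹) =
            (QuotientGroup.mk' D y₀ * cb) * QuotientGroup.mk' D a *
              (QuotientGroup.mk' D y₀ * cb)⁻¹ := by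
          rw [map_mul, map_mul, map_inv, hca a ha]; group
        rw [e]; exact h1
      obtain ⟨s, hs, hse⟩ := h2
      have h3 : s⁻¹ * (y₀ * (c * a * c⁻¹) * y₀⁻¹) ∈ D := QuotientGroup.eq.1 hse
      have e : (MulAut.conj y₀).toMonoidHom (c * a * c⁻¹) =
          s * (s⁻¹ * (y₀ * (c * a * c⁻¹) * y₀⁻¹)) := by
        show y₀ * (c * a * c⁻¹) * y₀⁻¹ = _
        group
      show (MulAut.conj y₀).toMonoidHom (c * a * c⁻¹) ∈ (S : Subgroup X) ⊔ D
      rw [e]
      exact Subgroup.mul_mem _ (Subgroup.mem_sup_left hs) (Subgroup.mem_sup_right h3)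
    obtain ⟨m, hmM, hm⟩ := exists_conj_le_of_relIndex (H := N ⊓ ((S : Subgroup X) ⊔ D))
      (Q := (S : Subgroup X)) hSp (sylow_relIndex S _ (le_inf hSN le_sup_left))
      (le_inf hEN hESD) hEp
    obtain ⟨s, hs, d, hd, hmsd⟩ := Subgroup.mem_sup_of_normal_right.1 hmM.2
    have hd1 : QuotientGroup.mk' D d = 1 := (QuotientGroup.eq_one_iff d).2 hd
    refine ⟨(d * y₀) * c, FChain.step c (d * y₀) ?_ hc ?_, ?_⟩
    · refine ⟨W, hW, ?_⟩
      rw [← hN]
      have hdN : d ∈ N := by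
        have e : d = s⁻¹ * m := by rw [← hmsd]; group
        rw [e]; exact N.mul_mem (N.inv_mem (hSN hs)) hmM.1
      exact N.mul_mem hdN hy₀
    · intro a ha
      have he : y₀ * (c * a * c⁻¹) * y₀⁻¹ ∈ E := by
        rw [hE]; exact conj_mem_map_conj _ y₀ _ (Subgroup.subset_closure ⟨a, ha, rfl⟩)
      have h1 := hm _ he
      have e2 : d * y₀ * c * a * (d * y₀ * c)⁻¹ =
          s⁻¹ * (m * (y₀ * (c * a * c⁻¹) * y₀⁻¹) * m⁻¹) * s := by
        rw [← hmsd]; group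
      rw [e2]
      exact Subgroup.mul_mem _ (Subgroup.mul_mem _ (Subgroup.inv_mem _ hs) h1) hs
    · intro a ha
      have e3 : d * y₀ * c * a * (d * y₀ * c)⁻¹ = d * (y₀ * (c * a * c⁻¹) * y₀⁻¹) * d⁻¹ := by
        group
      rw [e3, map_mul, map_mul, map_inv, hd1, map_mul, map_mul, map_inv, hca a ha]
      group

/-- Step for a normal `p'`-subgroup: control of strong fusion in the quotient lifts. -/
theorem sf_pprime_quotient_step (𝓦 : Set (∀ (Q : Type u) [Group Q], Subgroup Q))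
    (h𝓦 : ∀ W ∈ 𝓦, IsCharPFunctor.{u} p W) (S : Sylow p X) (D : Subgroup X) [D.Normal]
    (hD : (Nat.card D).Coprime p)
    (hq : FamilyControlsStrongFusionIn p ((fun W => inducedFunctor (G := X ⧸ D) W) '' 𝓦) ⊤) :
    ∀ (A : Set X) (g : X), A ⊆ (S : Subgroup X) → (∀ a ∈ A, g * a * g⁻¹ ∈ (S : Subgroup X)) →
      ChainGood (sfNs 𝓦 (S : Subgroup X)) ((S : Subgroup X) : Set X) A g := by
  classical
  intro A g hA hgA
  have hSp : IsPGroup p (S : Subgroup X) := S.2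
  have hSD : (S : Subgroup X) ⊓ D = ⊥ := by
    apply Subgroup.inf_eq_bot_of_coprime
    obtain ⟨n, hn⟩ := (IsPGroup.iff_card.mp hSp)
    rw [hn]
    exact Nat.Coprime.pow_left n hD.symm
  obtain ⟨Sb, hSb⟩ := exists_sylow_map S D
  have hSbp : IsPGroup p (Sb : Subgroup (X ⧸ D)) := Sb.2
  obtain ⟨cb, hcb, hagree⟩ := familyControlsStrongFusionIn_sylow
    (isConj_image (X := X ⧸ D) 𝓦 h𝓦) hq (le_top : (Sb : Subgroup (X ⧸ D)) ≤ ⊤) hSbp
    (by rw [Subgroup.relIndex_top_right]; exact Sb.not_dvd_index)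
    ((QuotientGroup.mk' D) '' A) (QuotientGroup.mk' D g) (Subgroup.mem_top _)
    (by
      rintro _ ⟨a, ha, rfl⟩
      show QuotientGroup.mk' D a ∈ (Sb : Subgroup (X ⧸ D))
      rw [hSb]; exact Subgroup.mem_map_of_mem _ (hA ha))
    (by
      rintro _ ⟨a, ha, rfl⟩
      rw [hSb, ← map_inv, ← map_mul, ← map_mul]
      exact Subgroup.mem_map_of_mem _ (hgA a ha))
  rw [hSb] at hcb
  obtain ⟨c, hc, hca⟩ := lift_chain_pprime 𝓦 h𝓦 S D hD A hA cb hcb
  refine ⟨c, hc, ?_⟩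
  intro a ha
  have h1 : QuotientGroup.mk' D (c * a * c⁻¹) = QuotientGroup.mk' D (g * a * g⁻¹) := by
    rw [hca a ha, hagree _ ⟨a, ha, rfl⟩, map_mul, map_mul, map_inv]
  have h2 : (c * a * c⁻¹)⁻¹ * (g * a * g⁻¹) ∈ D := QuotientGroup.eq.1 h1
  have h3 : (c * a * c⁻¹)⁻¹ * (g * a * g⁻¹) ∈ (S : Subgroup X) :=
    Subgroup.mul_mem _ (Subgroup.inv_mem _ (hc.image_subset a ha)) (hgA a ha)
  have h4 : (c * a * c⁻¹)⁻¹ * (g * a * g⁻¹) ∈ (S : Subgroup X) ⊓ D := ⟨h3, h2⟩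
  rw [hSD, Subgroup.mem_bot] at h4
  exact inv_mul_eq_one.1 h4

end sfquot

end Cfsg.Agent.Lib.helper10
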