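import Mathlib
import Cfsg.Agent.Lib.helper10.OrthType
import Cfsg.Agent.Lib.helper13.PSpBasic

/-!
# Elements of order `r * p` in symplectic groups: non-existence
-/

set_option autoImplicit false

namespace Cfsg.Agent.Lib.helper10.SpRP

open Polynomial Matrix UniqueFactorizationMonoid
open Cfsg.Agent.Lib.helper18.SpRz Cfsg.Agent.Lib.helper18.RCF
open Cfsg.Agent.Lib.helper10.OrthCount Cfsg.Agent.Lib.helper10.OrthType

universe u
variable {F : Type u} [Field F]

theorem aeval_commute {A : Type*} [Ring A] [Algebra F A] (a b : A) (h : Commute a b) (P : F[X]) :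
    Commute (aeval a P) b := by
  induction P using Polynomial.induction_on' with
  | add p q hp hq => rw [map_add]; exact hp.add_left hq
  | monomial n c =>
    rw [aeval_monomial]
    exact (Algebra.commute_algebraMap_left c b).mul_left (h.pow_left n)

/-- counting the fixed points of a matrix of prime order `l` on an invariant subspace -/
theorem card_fix_modEq [Fintype F] {κ : Type} [Fintype κ] [DecidableEq κ] (A : Matrix κ κ F)
    (l : ℕ) [Fact l.Prime] (hA : A ^ l = 1) (W : Submodule F (κ → F))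
    (hW : ∀ w ∈ W, A *ᵥ w ∈ W) :
    Fintype.card F ^ Module.finrank F W ≡ Nat.card {w : W // A *ᵥ w.1 = w.1} [MOD l] := by
  classical
  let f : Function.End W := fun w => ⟨A *ᵥ w.1, hW w.1 w.2⟩
  have hpow : ∀ (j : ℕ) (w : W), ((f ^ j) w).1 = (A ^ j) *ᵥ w.1 := by
    intro j
    induction j with
    | zero =>
      intro w
      rw [pow_zero, pow_zero, Matrix.one_mulVec]
      rfl
    | succ j ih =>
      intro w
      rw [pow_succ]
      show ((f ^ j) (f w)).1 = _
      rw [ih, pow_succ, ← Matrix.mulVec_mulVec]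
  have hfl : f ^ l ^ 1 = 1 := by
    rw [pow_one]
    funext w
    apply Subtype.ext
    rw [hpow, hA, Matrix.one_mulVec]
    rfl
  have h1 := Equiv.Perm.card_fixedPoints_modEq (p := l) (n := 1) hfl
  rw [← Nat.card_eq_fintype_card, ← Nat.card_eq_fintype_card] at h1
  have h2 : Nat.card W = Fintype.card F ^ Module.finrank F W :=
    Nat.card_eq_fintype_card.trans Module.card_eq_pow_finrank
  have h3 : Nat.card (Function.fixedPoints f) = Nat.card {w : W // A *ᵥ w.1 = w.1} := by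
    apply Nat.card_congr
    exact Equiv.subtypeEquivRight (fun w => by
      show f w = w ↔ _
      rw [Subtype.ext_iff])
  rw [← h2, ← h3]
  exact h1

theorem dvd_finrank_of_free [Fintype F] {q : ℕ} (hF : Fintype.card F = q) {κ : Type} [Fintype κ]
    [DecidableEq κ] (A : Matrix κ κ F) (r : ℕ) [Fact r.Prime] (hA : A ^ r = 1)
    (hfix : ∀ v : κ → F, A *ᵥ v = v → v = 0) (W : Submodule F (κ → F))
    (hW : ∀ w ∈ W, A *ᵥ w ∈ W) :
    orderOf (q : ZMod r) ∣ Module.finrank F W := by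
  have h1 := card_fix_modEq A r hA W hW
  have h2 : Nat.card {w : W // A *ᵥ w.1 = w.1} = 1 := by
    have : Unique {w : W // A *ᵥ w.1 = w.1} :=
      ⟨⟨⟨0, by simp⟩⟩, fun w => Subtype.ext (Subtype.ext (hfix _ w.2))⟩
    exact Nat.card_unique
  rw [h2, hF] at h1
  apply orderOf_dvd_of_pow_eq_one
  have h3 := (ZMod.natCast_eq_natCast_iff _ _ _).2 h1
  push_cast at h3
  exact h3

theorem exists_fixed_ne_zero [Fintype F] (p : ℕ) [Fact p.Prime] [CharP F p] {κ : Type} [Fintype κ]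
    [DecidableEq κ] (A : Matrix κ κ F) (hA : A ^ p = 1) (W : Submodule F (κ → F))
    (hW : ∀ w ∈ W, A *ᵥ w ∈ W) (hW0 : W ≠ ⊥) :
    ∃ v ∈ W, v ≠ 0 ∧ A *ᵥ v = v := by
  by_contra hcon
  push Not at hcon
  have h1 := card_fix_modEq A p hA W hW
  have h2 : Nat.card {w : W // A *ᵥ w.1 = w.1} = 1 := by
    have : Unique {w : W // A *ᵥ w.1 = w.1} :=
      ⟨⟨⟨0, by simp⟩⟩, fun w => Subtype.ext (Subtype.ext (by
        by_contra h0
        exact hcon w.1.1 w.1.2 h0 w.2))⟩
    exact Nat.card_unique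
  rw [h2] at h1
  have hd : Module.finrank F W ≠ 0 := by
    intro h0
    exact hW0 (Submodule.finrank_eq_zero.1 h0)
  have hp : p ∣ Fintype.card F := by
    obtain ⟨n, hn1, hn2⟩ := FiniteField.card F p
    rw [hn2]
    exact dvd_pow_self p n.ne_zero
  have h3 : p ∣ Fintype.card F ^ Module.finrank F W := dvd_pow hp hd
  unfold Nat.ModEq at h1
  rw [Nat.mod_eq_zero_of_dvd h3, Nat.mod_eq_of_lt (Fact.out : p.Prime).one_lt] at h1
  exact zero_ne_one h1

theorem ker_ne_bot {κ : Type} [Fintype κ] [DecidableEq κ] (A : Matrix κ κ F) (P₁ P₂ : F[X])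
    (hc : A.charpoly = P₁ * P₂) (hirr : Irreducible P₁) (hnd : ¬ P₁ ∣ P₂) :
    LinearMap.ker (aeval (Matrix.toLin' A) P₁) ≠ ⊥ := by
  intro hbot
  have hCH : aeval (Matrix.toLin' A) (P₁ * P₂) = 0 := by
    have h := LinearMap.aeval_self_charpoly (Matrix.toLin' A)
    rw [Matrix.charpoly_toLin', hc] at h
    exact h
  rw [map_mul] at hCH
  have h2 : aeval (Matrix.toLin' A) P₂ = 0 := by
    apply LinearMap.ext
    intro v
    have h3 : (aeval (Matrix.toLin' A) P₁) ((aeval (Matrix.toLin' A) P₂) v) = 0 := by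
      have h4 := congrArg (fun T : Module.End F (κ → F) => T v) hCH
      exact h4
    have h5 : (aeval (Matrix.toLin' A) P₂) v ∈ LinearMap.ker (aeval (Matrix.toLin' A) P₁) := h3
    rw [hbot] at h5
    exact (Submodule.mem_bot F).1 h5
  exact hnd (factor_dvd_of_aeval (Matrix.toLin' A) P₂ h2 P₁ hirr
    (by rw [Matrix.charpoly_toLin', hc]; exact dvd_mul_right _ _))

theorem ker_inf_bot {V : Type*} [AddCommGroup V] [Module F V] (T : Module.End F V) (P₁ P₂ : F[X])
    (hcop : IsCoprime P₁ P₂) :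
    LinearMap.ker (aeval T P₁) ⊓ LinearMap.ker (aeval T P₂) = ⊥ := by
  obtain ⟨a, b, hab⟩ := hcop
  rw [eq_bot_iff]
  intro v hv
  rw [Submodule.mem_inf, LinearMap.mem_ker, LinearMap.mem_ker] at hv
  have h := congrArg (fun Q => (aeval T Q) v) hab
  simp only [map_add, map_mul, map_one, LinearMap.add_apply, Module.End.mul_apply, hv.1, hv.2,
    map_zero, add_zero, Module.End.one_apply] at h
  exact (Submodule.mem_bot F).2 h.symm

theorem ker_invariant {κ : Type} [Fintype κ] [DecidableEq κ] (A B : Matrix κ κ F)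
    (hAB : A * B = B * A) (P : F[X]) (w : κ → F)
    (hw : w ∈ LinearMap.ker (aeval (Matrix.toLin' A) P)) :
    B *ᵥ w ∈ LinearMap.ker (aeval (Matrix.toLin' A) P) := by
  have hcomm : Commute (Matrix.toLin' A) (Matrix.toLin' B) := by
    show Matrix.toLin' A ∘ₗ Matrix.toLin' B = Matrix.toLin' B ∘ₗ Matrix.toLin' A
    rw [← Matrix.toLin'_mul, ← Matrix.toLin'_mul, hAB]
  have h1 := (aeval_commute (Matrix.toLin' A) (Matrix.toLin' B) hcomm P).eq
  rw [LinearMap.mem_ker] at hw ⊢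
  have h2 := congrArg (fun T : Module.End F (κ → F) => T w) h1
  simp only [Module.End.mul_apply, hw, map_zero, Matrix.toLin'_apply] at h2
  exact h2

section nf
variable [DecidableEq F]

theorem eq_one_of_nf {κ : Type} [Fintype κ] [DecidableEq κ] (A : Matrix κ κ F) (r : ℕ)
    (hrF : (r : F) ≠ 0) (hA : A ^ r = 1)
    (hall : ∀ h ∈ normalizedFactors A.charpoly, h = X - 1) : A = 1 := by
  have hx0d : (X - 1 : F[X]).natDegree = 1 := by simpa using natDegree_X_sub_C (1 : F)
  have hM : normalizedFactors A.charpoly =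
      Multiset.replicate (Multiset.card (normalizedFactors A.charpoly)) (X - 1) :=
    Multiset.eq_replicate_card.2 hall
  have hcnt : Multiset.card (normalizedFactors A.charpoly) = Fintype.card κ := by
    have h1 := nf_deg A
    rw [hM, Multiset.map_replicate, Multiset.sum_replicate, hx0d, smul_eq_mul, mul_one] at h1
    exact h1
  have hc : A.charpoly = (1 : Matrix κ κ F).charpoly := by
    rw [Matrix.charpoly_one, ← nf_prod A, hM, Multiset.prod_replicate, hcnt]
  obtain ⟨c, hc'⟩ := Cfsg.Agent.Lib.helper4.SympSS.mat_isConj_of_charpoly A 1 r hrF hA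
    (one_pow r) hc
  have hc'' : (c : Matrix κ κ F) * A = 1 * c := hc'
  calc A = ((c⁻¹ : (Matrix κ κ F)ˣ) : Matrix _ _ F) * ((c : Matrix κ κ F) * A) := by
        rw [← Matrix.mul_assoc, Units.inv_mul, Matrix.one_mul]
    _ = 1 := by rw [hc'', Matrix.one_mul, Units.inv_mul]

end nf

/-- no commuting pair (element of order `r`, nontrivial `p`-element) in `Sp_{2n}(q)` when the
`r`-part needs the whole space -/
theorem no_rp [Fintype F] {p q : ℕ} [Fact p.Prime] [CharP F p] (hF : Fintype.card F = q)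
    (n r k : ℕ) (hr : r.Prime) (hr2 : r ≠ 2) (hrp : r ≠ p) (hk : k = orderOf (q : ZMod r))
    (ηk : ℕ) (hηk : (Odd k ∧ ηk = k) ∨ (Even k ∧ 2 * ηk = k)) (hn : n - 1 < ηk) (hn1 : 1 ≤ n)
    (ys yu : Matrix.symplecticGroup (Fin n) F) (hys : ys ^ r = 1) (hys1 : ys ≠ 1)
    (hyu : yu ^ p = 1) (hyu1 : yu ≠ 1) (hcomm : ys * yu = yu * ys) : False := by
  classical
  have : Fact r.Prime := ⟨hr⟩
  have hQ0 : (q : ZMod r) ≠ 0 := by
    intro h0
    rw [ZMod.natCast_eq_zero_iff] at h0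
    obtain ⟨f, hf1, hf2⟩ := FiniteField.card F p
    rw [← hF, hf2] at h0
    exact hrp ((Nat.prime_dvd_prime_iff_eq hr Fact.out).1 (hr.dvd_of_dvd_pow h0))
  have hkdvd : k ∣ r - 1 := by
    rw [hk]
    exact orderOf_dvd_of_pow_eq_one (ZMod.pow_card_sub_one_eq_one hQ0)
  obtain ⟨t, ht⟩ : ∃ t, t * k = r - 1 := ⟨(r - 1) / k, Nat.div_mul_cancel hkdvd⟩
  obtain ⟨S, σ, hSc, hxS, hipos, hS1, hS2, hσinv, hσx, hσSS, hat1, hat2, hoddfp, hevfix, hσst⟩ :=
    sigma_setup hF r k t hr hr2 hrp hk ht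
  have hrF : (r : F) ≠ 0 := cast_ne_zero_of_coprime p r ((Nat.coprime_primes hr Fact.out).2 hrp)
  have hSr : ys.1 ^ r = 1 := by
    have h := congrArg Subtype.val hys
    simpa using h
  have hSne : ys.1 ≠ 1 := fun h => hys1 (Subtype.ext h)
  have hUp : yu.1 ^ p = 1 := by
    have h := congrArg Subtype.val hyu
    simpa using h
  have hUne : yu.1 ≠ 1 := fun h => hyu1 (Subtype.ext h)
  have hSU : ys.1 * yu.1 = yu.1 * ys.1 := congrArg Subtype.val hcomm
  have hSi : ys.1 * (ys⁻¹).1 = 1 := by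
    have h : (ys * ys⁻¹).1 = 1 := by rw [mul_inv_cancel]; rfl
    exact h
  have hfac : ∀ h ∈ normalizedFactors ys.1.charpoly, h = X - 1 ∨ h ∈ S := by
    intro h hh
    have hirr := irreducible_of_normalized_factor h hh
    refine hS2 h (nf_monic _ h hh) hirr ?_
    have haev : aeval (Matrix.toLin' ys.1) (X ^ r - 1 : F[X]) = 0 := by
      rw [map_sub, map_pow, aeval_X, map_one, ← Matrix.toLin'_pow, hSr, Matrix.toLin'_one]
      exact sub_self _
    exact factor_dvd_of_aeval (Matrix.toLin' ys.1) _ haev h hirr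
      (by rw [Matrix.charpoly_toLin']; exact dvd_of_mem_normalizedFactors hh)
  have hσnf : (normalizedFactors ys.1.charpoly).map σ = normalizedFactors ys.1.charpoly := by
    have h1 := nf_st ys.1 (ys⁻¹).1 hSi (Cfsg.Agent.Lib.helper4.SpPalin.sp_charpoly_inv ys)
    conv_rhs => rw [← h1]
    exact Multiset.map_congr rfl (fun h hh => hσst h (hfac h hh))
  have hds := deg_sum k S (fun P hP => (hS1 P hP).2.2.1) _ hfac
  rw [nf_deg, Fintype.card_sum, Fintype.card_fin] at hds
  have hkk0 : Multiset.card ((normalizedFactors ys.1.charpoly).filter (fun h => h ≠ X - 1)) ≠ 0 := by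
    intro h0
    rw [Multiset.card_eq_zero, Multiset.filter_eq_nil] at h0
    exact hSne (eq_one_of_nf ys.1 r hrF hSr (fun h hh => not_not.1 (h0 h hh)))
  obtain ⟨kk, hkk⟩ : ∃ kk, kk =
      Multiset.card ((normalizedFactors ys.1.charpoly).filter (fun h => h ≠ X - 1)) := ⟨_, rfl⟩
  rw [← hkk] at hds hkk0
  -- the possible shapes
  have hshape : Multiset.count (X - 1) (normalizedFactors ys.1.charpoly) = 0 ∧
      ((k = 2 * n ∧ kk = 1) ∨ (k = n ∧ Odd k ∧ kk = 2)) := by
    rcases hηk with ⟨hodd, hη⟩ | ⟨hev, hη⟩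
    · obtain ⟨T, hTS, hT1, hTc⟩ := exists_transversal S σ hσinv hσSS (hoddfp hodd)
      have h2 := card_filter_two (X - 1 : F[X]) S T σ hσinv hxS hTS hT1 hσSS _ hfac hσnf
      rw [← hkk] at h2
      obtain ⟨c, hc⟩ : ∃ c, c =
          Multiset.card ((normalizedFactors ys.1.charpoly).filter (fun h => h ∈ T)) := ⟨_, rfl⟩
      rw [← hc] at h2
      have hkn : n ≤ k := by omega
      have hc1 : 1 ≤ c := by omega
      have h5 : k * kk = 2 * (k * c) := by rw [h2]; ring
      have hc' : c = 1 := by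
        by_contra hcne
        have h6 : 2 ≤ c := by omega
        have h7 := Nat.mul_le_mul hkn h6
        omega
      rw [hc', mul_one] at h5
      refine ⟨by omega, Or.inr ⟨by omega, hodd, by omega⟩⟩
    · have hkn : 2 * n ≤ k := by omega
      have hkk1 : 1 ≤ kk := by omega
      have hkk' : kk = 1 := by
        by_contra hne
        have h6 : 2 ≤ kk := by omega
        have h7 := Nat.mul_le_mul_left k h6
        omega
      rw [hkk', mul_one] at hds
      exact ⟨by omega, Or.inl ⟨by omega, hkk'⟩⟩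
  obtain ⟨hcnt, hcases⟩ := hshape
  have hfilt : (normalizedFactors ys.1.charpoly).filter (fun h => h ≠ X - 1) =
      normalizedFactors ys.1.charpoly := by
    rw [Multiset.filter_eq_self]
    intro h hh h0
    rw [h0] at hh
    exact (Multiset.count_eq_zero.1 hcnt) hh
  have hev1 : ys.1.charpoly.eval 1 ≠ 0 := by
    rw [← nf_prod ys.1, ← hfilt]
    exact filter_eval_one S hxS (fun P hP => ⟨(hS1 P hP).1, (hS1 P hP).2.1⟩) _ hfac
  have hfixS : ∀ v : Fin n ⊕ Fin n → F, ys.1 *ᵥ v = v → v = 0 := fun v hv => no_fix ys.1 hev1 v hv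
  -- the fixed space of the `p`-element
  obtain ⟨Uf, hUf⟩ : ∃ Uf : Submodule F (Fin n ⊕ Fin n → F),
      ∀ v, v ∈ Uf ↔ yu.1 *ᵥ v = v := by
    refine ⟨LinearMap.ker (Matrix.toLin' (yu.1 - 1)), fun v => ?_⟩
    rw [LinearMap.mem_ker, Matrix.toLin'_apply, Matrix.sub_mulVec, Matrix.one_mulVec, sub_eq_zero]
  have hfr : Module.finrank F (Fin n ⊕ Fin n → F) = n + n := by
    rw [Module.finrank_fintype_fun_eq_card, Fintype.card_sum, Fintype.card_fin]
  have hUftop : Module.finrank F Uf < n + n := by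
    by_contra hge
    have hle := Submodule.finrank_le Uf
    rw [hfr] at hle
    have htop : Uf = ⊤ := Submodule.eq_top_of_finrank_eq (by rw [hfr]; omega)
    apply hUne
    apply Matrix.toLin'.injective
    apply LinearMap.ext
    intro v
    have hv : v ∈ Uf := by rw [htop]; trivial
    rw [Matrix.toLin'_apply, (hUf v).1 hv, Matrix.toLin'_one]
    rfl
  have step : ∀ W : Submodule F (Fin n ⊕ Fin n → F), (∀ w ∈ W, ys.1 *ᵥ w ∈ W) →
      (∀ w ∈ W, yu.1 *ᵥ w ∈ W) → W ≠ ⊥ → k ≤ Module.finrank F ↥(W ⊓ Uf) := by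
    intro W hWS hWU hW0
    obtain ⟨v, hvW, hv0, hvfix⟩ := exists_fixed_ne_zero p yu.1 hUp W hWU hW0
    have hinv : ∀ w ∈ W ⊓ Uf, ys.1 *ᵥ w ∈ W ⊓ Uf := by
      intro w hw
      rw [Submodule.mem_inf] at hw ⊢
      refine ⟨hWS w hw.1, ?_⟩
      rw [hUf, Matrix.mulVec_mulVec, ← hSU, ← Matrix.mulVec_mulVec, (hUf w).1 hw.2]
    have hdvd := dvd_finrank_of_free hF ys.1 r hSr hfixS (W ⊓ Uf) hinv
    rw [← hk] at hdvd
    have hpos : 0 < Module.finrank F ↥(W ⊓ Uf) := by
      rw [Module.finrank_pos_iff_exists_ne_zero]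
      exact ⟨⟨v, Submodule.mem_inf.2 ⟨hvW, (hUf v).2 hvfix⟩⟩,
        fun h => hv0 (congrArg Subtype.val h)⟩
    exact Nat.le_of_dvd hpos hdvd
  rcases hcases with ⟨hk2n, _⟩ | ⟨hkn, hodd, hkk2⟩
  · have h1 := step ⊤ (fun w _ => trivial) (fun w _ => trivial) (by
      intro h0
      have h2 : Module.finrank F (⊤ : Submodule F (Fin n ⊕ Fin n → F)) = 0 := by
        rw [h0]; exact finrank_bot F _
      rw [finrank_top, hfr] at h2
      omega)
    rw [top_inf_eq] at h1
    omega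
  · -- two distinct factors
    rw [hkk, hfilt] at hkk2
    obtain ⟨P₁, P₂, hP⟩ := Multiset.card_eq_two.1 hkk2
    have hP₁mem : P₁ ∈ normalizedFactors ys.1.charpoly := by rw [hP]; simp
    have hP₂mem : P₂ ∈ normalizedFactors ys.1.charpoly := by rw [hP]; simp
    have hnotx : ∀ h ∈ normalizedFactors ys.1.charpoly, h ∈ S := by
      intro h hh
      rcases hfac h hh with rfl | hS
      · exact absurd hh (Multiset.count_eq_zero.1 hcnt)
      · exact hS
    have hP₁S := hnotx P₁ hP₁mem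
    have hP₂S := hnotx P₂ hP₂mem
    have hne : P₁ ≠ P₂ := by
      have h1 : σ P₁ ∈ normalizedFactors ys.1.charpoly := by
        rw [← hσnf]; exact Multiset.mem_map_of_mem σ hP₁mem
      rw [hP] at h1
      have h2 : σ P₁ = P₁ ∨ σ P₁ = P₂ := by simpa using h1
      rcases h2 with h2 | h2
      · exact absurd h2 (hoddfp hodd P₁ hP₁S)
      · intro h3
        rw [← h3] at h2
        exact hoddfp hodd P₁ hP₁S h2
    have hc : ys.1.charpoly = P₁ * P₂ := by
      rw [← nf_prod ys.1, hP]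
      simp
    have hnd12 : ¬ P₁ ∣ P₂ := fun hd => hne (eq_of_monic_of_associated (hS1 P₁ hP₁S).1
      (hS1 P₂ hP₂S).1 ((hS1 P₁ hP₁S).2.1.associated_of_dvd (hS1 P₂ hP₂S).2.1 hd))
    have hnd21 : ¬ P₂ ∣ P₁ := fun hd => hne (eq_of_monic_of_associated (hS1 P₂ hP₂S).1
      (hS1 P₁ hP₁S).1 ((hS1 P₂ hP₂S).2.1.associated_of_dvd (hS1 P₁ hP₁S).2.1 hd)).symm
    have hcop : IsCoprime P₁ P₂ := ((hS1 P₁ hP₁S).2.1.coprime_iff_not_dvd).2 hnd12
    have hW1 := ker_ne_bot ys.1 P₁ P₂ hc (hS1 P₁ hP₁S).2.1 hnd12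
    have hW2 := ker_ne_bot ys.1 P₂ P₁ (by rw [hc, mul_comm]) (hS1 P₂ hP₂S).2.1 hnd21
    have h1 := step _ (fun w hw => ker_invariant ys.1 ys.1 rfl P₁ w hw)
      (fun w hw => ker_invariant ys.1 yu.1 hSU P₁ w hw) hW1
    have h2 := step _ (fun w hw => ker_invariant ys.1 ys.1 rfl P₂ w hw)
      (fun w hw => ker_invariant ys.1 yu.1 hSU P₂ w hw) hW2
    have hinf : (LinearMap.ker (aeval (Matrix.toLin' ys.1) P₁) ⊓ Uf) ⊓
        (LinearMap.ker (aeval (Matrix.toLin' ys.1) P₂) ⊓ Uf) = ⊥ := by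
      rw [eq_bot_iff, ← ker_inf_bot (Matrix.toLin' ys.1) P₁ P₂ hcop]
      exact inf_le_inf inf_le_left inf_le_left
    have h3 := Submodule.finrank_sup_add_finrank_inf_eq
      (LinearMap.ker (aeval (Matrix.toLin' ys.1) P₁) ⊓ Uf)
      (LinearMap.ker (aeval (Matrix.toLin' ys.1) P₂) ⊓ Uf)
    rw [hinf, finrank_bot, add_zero] at h3
    have h4 : Module.finrank F ↥((LinearMap.ker (aeval (Matrix.toLin' ys.1) P₁) ⊓ Uf) ⊔
        (LinearMap.ker (aeval (Matrix.toLin' ys.1) P₂) ⊓ Uf)) ≤ Module.finrank F Uf :=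
      Submodule.finrank_mono (sup_le inf_le_right inf_le_right)
    omega

end Cfsg.Agent.Lib.helper10.SpRP
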