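import Mathlib
import Cfsg.Agent.Lib.helper10.SpRP

/-!
# Elements of order `r * p` in symplectic groups: existence
-/

set_option autoImplicit false

namespace Cfsg.Agent.Lib.helper10.SpRP

open Polynomial Matrix UniqueFactorizationMonoid
open Cfsg.Agent.Lib.helper18.SpRz Cfsg.Agent.Lib.helper18.RCF
open Cfsg.Agent.Lib.helper10.OrthCount Cfsg.Agent.Lib.helper10.OrthType
open Cfsg.Agent.Lib.helper4.AltEquiv Cfsg.Agent.Lib.helper4.SympConjCorner Cfsg.Agent.Lib.helper4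

universe u
variable {F : Type u} [Field F]

/-- an isometry of a nondegenerate alternating form is conjugate to a symplectic matrix -/
theorem to_sp_conj [Fintype F] (n : ℕ) {ι : Type} [Fintype ι] [DecidableEq ι]
    (g gi Ω Ωi : Matrix ι ι F)
    (hc : Fintype.card ι = 2 * n) (hg : g * gi = 1) (hΩ : gᵀ * Ω * g = Ω)
    (ha : ∀ x : ι → F, x ⬝ᵥ Ω *ᵥ x = 0) (hi : Ω * Ωi = 1) :
    ∃ (s : Matrix.symplecticGroup (Fin n) F) (P : Matrix (Fin n ⊕ Fin n) ι F)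
      (Pi : Matrix ι (Fin n ⊕ Fin n) F), P * Pi = 1 ∧ Pi * P = 1 ∧ s.1 = P * g * Pi := by
  have hn₁ : ∀ x : ι → F, x ≠ 0 → ∃ y, x ⬝ᵥ Ω *ᵥ y ≠ 0 := by
    intro x hx
    obtain ⟨i, hi'⟩ := Function.ne_iff.mp hx
    refine ⟨Ωi *ᵥ Pi.single i 1, ?_⟩
    rw [Matrix.mulVec_mulVec, hi, Matrix.one_mulVec, dotProduct_single_one]
    exact hi'
  have hn₂ : ∀ x : Fin n ⊕ Fin n → F, x ≠ 0 → ∃ y, x ⬝ᵥ Matrix.J (Fin n) F *ᵥ y ≠ 0 := by
    intro x hx
    obtain ⟨i, hi'⟩ := Function.ne_iff.mp hx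
    refine ⟨(-Matrix.J (Fin n) F) *ᵥ Pi.single i 1, ?_⟩
    rw [Matrix.mulVec_mulVec, Matrix.mul_neg, Matrix.J_squared, neg_neg, Matrix.one_mulVec,
      dotProduct_single_one]
    exact hi'
  have hf₁ : Module.finrank F (ι → F) = 2 * n := by
    rw [Module.finrank_fintype_fun_eq_card, hc]
  have hf₂ : Module.finrank F (Fin n ⊕ Fin n → F) = 2 * n := by
    rw [Module.finrank_fintype_fun_eq_card, Fintype.card_sum, Fintype.card_fin, two_mul]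
  obtain ⟨c, hcform⟩ := alt_equiv (2 * n) (ι → F) (Fin n ⊕ Fin n → F)
    (Matrix.toLinearMap₂' F Ω) (Matrix.toLinearMap₂' F (Matrix.J (Fin n) F)) hf₁ hf₂
    (fun x => by rw [Matrix.toLinearMap₂'_apply']; exact ha x)
    (fun x => by rw [Matrix.toLinearMap₂'_apply']; exact SympConj.J_alt n F x)
    (fun x hx => by
      obtain ⟨y, hy⟩ := hn₁ x hx
      exact ⟨y, by rw [Matrix.toLinearMap₂'_apply']; exact hy⟩)
    (fun x hx => by
      obtain ⟨y, hy⟩ := hn₂ x hx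
      exact ⟨y, by rw [Matrix.toLinearMap₂'_apply']; exact hy⟩)
  have hcform' : ∀ x y : ι → F, (c x) ⬝ᵥ Matrix.J (Fin n) F *ᵥ (c y) = x ⬝ᵥ Ω *ᵥ y := by
    intro x y
    have := hcform x y
    rwa [Matrix.toLinearMap₂'_apply', Matrix.toLinearMap₂'_apply'] at this
  have hcinj : Function.Injective c := by
    rw [injective_iff_map_eq_zero]
    intro x hx
    by_contra hx0
    obtain ⟨y, hy⟩ := hn₁ x hx0
    apply hy
    rw [← hcform', hx, zero_dotProduct]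
  obtain ⟨ce, hce⟩ : ∃ ce : (ι → F) ≃ₗ[F] (Fin n ⊕ Fin n → F), ∀ x, ce x = c x :=
    ⟨LinearMap.linearEquivOfInjective c hcinj (hf₁.trans hf₂.symm),
      fun x => LinearMap.linearEquivOfInjective_apply hcinj (hf₁.trans hf₂.symm) x⟩
  obtain ⟨P, hP⟩ : ∃ P : Matrix (Fin n ⊕ Fin n) ι F, P = LinearMap.toMatrix' c := ⟨_, rfl⟩
  obtain ⟨Pi, hPi⟩ : ∃ Pi : Matrix ι (Fin n ⊕ Fin n) F,
      Pi = LinearMap.toMatrix' ce.symm.toLinearMap := ⟨_, rfl⟩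
  have hPx : ∀ x, P *ᵥ x = c x := by
    intro x
    rw [hP, ← Matrix.toLin'_apply, Matrix.toLin'_toMatrix']
  have hPPi : P * Pi = 1 := by
    rw [hP, hPi, ← LinearMap.toMatrix'_comp, ← LinearMap.toMatrix'_id]
    congr 1
    apply LinearMap.ext
    intro x
    simp only [LinearMap.comp_apply, LinearEquiv.coe_coe, LinearMap.id_apply]
    rw [← hce, LinearEquiv.apply_symm_apply]
  have hPiP : Pi * P = 1 := by
    rw [hP, hPi, ← LinearMap.toMatrix'_comp, ← LinearMap.toMatrix'_id]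
    congr 1
    apply LinearMap.ext
    intro x
    simp only [LinearMap.comp_apply, LinearEquiv.coe_coe, LinearMap.id_apply]
    rw [← hce, LinearEquiv.symm_apply_apply]
  have hPJ : Pᵀ * Matrix.J (Fin n) F * P = Ω := by
    apply mat_eq_of_form
    intro x y
    have h1 : (Pᵀ * Matrix.J (Fin n) F * P) *ᵥ y = Pᵀ *ᵥ (Matrix.J (Fin n) F *ᵥ (P *ᵥ y)) := by
      rw [Matrix.mulVec_mulVec, Matrix.mulVec_mulVec]
    rw [h1, Matrix.dotProduct_mulVec, Matrix.vecMul_transpose, hPx, hPx, hcform']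
  have hsp : (P * g * Pi)ᵀ * Matrix.J (Fin n) F * (P * g * Pi) = Matrix.J (Fin n) F := by
    calc (P * g * Pi)ᵀ * Matrix.J (Fin n) F * (P * g * Pi)
        = Piᵀ * (gᵀ * (Pᵀ * Matrix.J (Fin n) F * P) * g) * Pi := by
          rw [Matrix.transpose_mul, Matrix.transpose_mul]; simp only [Matrix.mul_assoc]
      _ = Piᵀ * (Pᵀ * Matrix.J (Fin n) F * P) * Pi := by rw [hPJ, hΩ]
      _ = (P * Pi)ᵀ * Matrix.J (Fin n) F * (P * Pi) := by
          rw [Matrix.transpose_mul]; simp only [Matrix.mul_assoc]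
      _ = Matrix.J (Fin n) F := by
          rw [hPPi, Matrix.transpose_one, Matrix.one_mul, Matrix.mul_one]
  exact ⟨⟨P * g * Pi, SymplecticGroup.mem_iff'.mpr hsp⟩, P, Pi, hPPi, hPiP, rfl⟩

theorem exists_rp [Fintype F] {p q : ℕ} [Fact p.Prime] [CharP F p] (hF : Fintype.card F = q)
    (n r k : ℕ) (hr : r.Prime) (hr2 : r ≠ 2) (hrp : r ≠ p) (hk : k = orderOf (q : ZMod r))
    (ηk : ℕ) (hηk : (Odd k ∧ ηk = k) ∨ (Even k ∧ 2 * ηk = k)) (hn : ηk ≤ n - 1) (hn1 : 1 ≤ n) :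
    ∃ (s : Matrix.symplecticGroup (Fin n) F) (v : Fin n ⊕ Fin n → F), v ≠ 0 ∧ s.1 *ᵥ v = v ∧
      s.1 ^ (r * p) = 1 ∧ s.1 ^ p ≠ 1 ∧ s.1 ^ r ≠ 1 := by
  classical
  have : Fact r.Prime := ⟨hr⟩
  have hQ0 : (q : ZMod r) ≠ 0 := by
    intro h0
    rw [ZMod.natCast_eq_zero_iff] at h0
    obtain ⟨f, hf1, hf2⟩ := FiniteField.card F p
    rw [← hF, hf2] at h0
    exact hrp ((Nat.prime_dvd_prime_iff_eq hr Fact.out).1 (hr.dvd_of_dvd_pow h0))
  have hkdvd : k ∣ r - 1 := by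
    rw [hk]
    exact orderOf_dvd_of_pow_eq_one (ZMod.pow_card_sub_one_eq_one hQ0)
  obtain ⟨t, ht⟩ : ∃ t, t * k = r - 1 := ⟨(r - 1) / k, Nat.div_mul_cancel hkdvd⟩
  obtain ⟨S, σ, hSc, hxS, hipos, hS1, hS2, hσinv, hσx, hσSS, hat1, hat2, hoddfp, hevfix, hσst⟩ :=
    sigma_setup hF r k t hr hr2 hrp hk ht
  have hrF : (r : F) ≠ 0 := cast_ne_zero_of_coprime p r ((Nat.coprime_primes hr Fact.out).2 hrp)
  have hx0m : (X - 1 : F[X]).Monic := by simpa using monic_X_sub_C (1 : F)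
  have hx0i : Irreducible (X - 1 : F[X]) := by simpa using irreducible_X_sub_C (1 : F)
  have ht0 : t ≠ 0 := by
    rintro rfl
    rw [zero_mul] at ht
    have := hr.two_le
    omega
  obtain ⟨P₀, hP₀⟩ : ∃ P₀, P₀ ∈ S := by
    have h0 : 0 < S.card := by rw [hSc]; omega
    exact Finset.card_pos.1 h0
  obtain ⟨χ₁, hz, hχd, hχdvd⟩ : ∃ χ₁ : F[X], Rz r χ₁ ∧ χ₁.natDegree = 2 * ηk ∧ P₀ ∣ χ₁ := by
    by_cases hfix : σ P₀ = P₀
    · obtain ⟨hz, hev⟩ := hat1 P₀ hP₀ hfix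
      refine ⟨P₀, hz, ?_, dvd_rfl⟩
      rw [(hS1 P₀ hP₀).2.2.1]
      rcases hηk with ⟨hodd, _⟩ | ⟨_, hη⟩
      · exact absurd hev (Nat.not_even_iff_odd.2 hodd)
      · exact hη.symm
    · have hodd : Odd k := by
        by_contra hno
        exact hfix (hevfix hno P₀ hP₀)
      refine ⟨P₀ * σ P₀, hat2 P₀ hP₀ hfix, ?_, dvd_mul_right _ _⟩
      rw [Polynomial.natDegree_mul (hS1 P₀ hP₀).1.ne_zero (hS1 _ (hσSS P₀ hP₀)).1.ne_zero,
        (hS1 P₀ hP₀).2.2.1, (hS1 _ (hσSS P₀ hP₀)).2.2.1]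
      rcases hηk with ⟨_, hη⟩ | ⟨hev, _⟩
      · rw [hη]; ring
      · exact absurd hev (Nat.not_even_iff_odd.2 hodd)
  obtain ⟨ι₁, _, _, g₁, gi₁, Ω₁, Ωi₁, hc₁, hg₁, hk₁, hΩ₁, ha₁, hi₁, hχ₁⟩ := hz
  have hg₁p : g₁ ^ p ≠ 1 := by
    intro h
    have h1 : orderOf g₁ ∣ r := orderOf_dvd_of_pow_eq_one hk₁
    have h2 : orderOf g₁ ∣ p := orderOf_dvd_of_pow_eq_one h
    have h3 : orderOf g₁ ∣ Nat.gcd r p := Nat.dvd_gcd h1 h2
    have hcop : Nat.gcd r p = 1 := (Nat.coprime_primes hr Fact.out).2 hrp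
    rw [hcop] at h3
    have h4 : g₁ = 1 := orderOf_eq_one_iff.1 (Nat.dvd_one.1 h3)
    rw [h4, Matrix.charpoly_one] at hχ₁
    rw [← hχ₁] at hχdvd
    have h5 : P₀ ∣ X - 1 := (hS1 P₀ hP₀).2.1.prime.dvd_of_dvd_pow hχdvd
    have h6 := eq_of_monic_of_associated (hS1 P₀ hP₀).1 hx0m
      ((hS1 P₀ hP₀).2.1.associated_of_dvd hx0i h5)
    exact hxS (h6 ▸ hP₀)
  obtain ⟨e, he⟩ : ∃ e, e = n - ηk := ⟨_, rfl⟩
  have he1 : 0 < e := by omega
  obtain ⟨u, hu⟩ : ∃ u : Matrix (Fin e ⊕ Fin e) (Fin e ⊕ Fin e) F,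
      u = Matrix.fromBlocks 1 1 0 1 := ⟨_, rfl⟩
  have hupow : ∀ j : ℕ, u ^ j =
      Matrix.fromBlocks 1 ((j : F) • (1 : Matrix (Fin e) (Fin e) F)) 0 1 := by
    intro j
    induction j with
    | zero => rw [pow_zero, Nat.cast_zero, zero_smul, Matrix.fromBlocks_one]
    | succ j ih =>
      rw [pow_succ, ih, hu, Matrix.fromBlocks_multiply]
      simp [add_smul, add_comm]
  have hup : u ^ p = 1 := by
    rw [hupow, CharP.cast_eq_zero F p, zero_smul, Matrix.fromBlocks_one]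
  have hur : u ^ r ≠ 1 := by
    intro h
    rw [hupow, ← Matrix.fromBlocks_one (l := Fin e) (m := Fin e) (α := F)] at h
    have h3 := congrArg Matrix.toBlocks₁₂ h
    rw [Matrix.toBlocks_fromBlocks₁₂, Matrix.toBlocks_fromBlocks₁₂] at h3
    have h4 := congrFun (congrFun h3 ⟨0, he1⟩) ⟨0, he1⟩
    simp at h4
    exact hrF h4
  have hui : u * Matrix.fromBlocks 1 (-1) 0 1 = 1 := by
    rw [hu, Matrix.fromBlocks_multiply]
    simp [Matrix.fromBlocks_one]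
  have huJ : uᵀ * Matrix.J (Fin e) F * u = Matrix.J (Fin e) F := by
    rw [hu, Matrix.J, Matrix.fromBlocks_transpose, Matrix.fromBlocks_multiply,
      Matrix.fromBlocks_multiply]
    simp
  have hJJ : Matrix.J (Fin e) F * (-Matrix.J (Fin e) F) = 1 := by
    rw [Matrix.mul_neg, Matrix.J_squared, neg_neg]
  obtain ⟨w₂, hw₂⟩ : ∃ w₂ : Fin e ⊕ Fin e → F, w₂ = Sum.elim (fun _ => (1 : F)) 0 := ⟨_, rfl⟩
  have huw : u *ᵥ w₂ = w₂ := by
    rw [hu, hw₂, Matrix.fromBlocks_mulVec]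
    simp
  obtain ⟨g, hgdef⟩ : ∃ g : Matrix (ι₁ ⊕ (Fin e ⊕ Fin e)) (ι₁ ⊕ (Fin e ⊕ Fin e)) F,
      g = Matrix.fromBlocks g₁ 0 0 u := ⟨_, rfl⟩
  have hcard : Fintype.card (ι₁ ⊕ (Fin e ⊕ Fin e)) = 2 * n := by
    rw [Fintype.card_sum, hc₁, hχd, Fintype.card_sum, Fintype.card_fin]
    omega
  obtain ⟨s, P, Pi, hPPi, hPiP, hs⟩ := to_sp_conj n g
    (Matrix.fromBlocks gi₁ 0 0 (Matrix.fromBlocks 1 (-1) 0 1))
    (Matrix.fromBlocks Ω₁ 0 0 (Matrix.J (Fin e) F))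
    (Matrix.fromBlocks Ωi₁ 0 0 (-Matrix.J (Fin e) F)) hcard
    (by rw [hgdef, Matrix.fromBlocks_multiply]; simp [hg₁, hui])
    (by
      rw [hgdef, Matrix.fromBlocks_transpose, Matrix.fromBlocks_multiply,
        Matrix.fromBlocks_multiply]
      simp [hΩ₁, huJ])
    (by
      intro x
      have e1 := ha₁ (x ∘ Sum.inl)
      have e2 := SympConj.J_alt e F (x ∘ Sum.inr)
      simp only [dotProduct, Matrix.mulVec, Fintype.sum_sum_type, Matrix.fromBlocks_apply₁₁,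
        Matrix.fromBlocks_apply₁₂, Matrix.fromBlocks_apply₂₁, Matrix.fromBlocks_apply₂₂,
        Matrix.zero_apply, zero_mul, Finset.sum_const_zero, add_zero, zero_add,
        Function.comp_apply] at e1 e2 ⊢
      rw [e1, e2, add_zero])
    (by rw [Matrix.fromBlocks_multiply]; simp [hi₁, hJJ])
  have hpow : ∀ j : ℕ, s.1 ^ j = P * g ^ j * Pi := by
    intro j
    induction j with
    | zero => rw [pow_zero, pow_zero, Matrix.mul_one, hPPi]
    | succ j ih =>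
      rw [pow_succ, ih, pow_succ, hs]
      calc P * g ^ j * Pi * (P * g * Pi) = P * g ^ j * (Pi * P) * g * Pi := by
            simp only [Matrix.mul_assoc]
        _ = P * (g ^ j * g) * Pi := by rw [hPiP, Matrix.mul_one]; simp only [Matrix.mul_assoc]
  have hgpow : ∀ j : ℕ, g ^ j = Matrix.fromBlocks (g₁ ^ j) 0 0 (u ^ j) := by
    intro j
    rw [hgdef, Matrix.fromBlocks_diagonal_pow]
  have hconj1 : ∀ M : Matrix (ι₁ ⊕ (Fin e ⊕ Fin e)) (ι₁ ⊕ (Fin e ⊕ Fin e)) F,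
      P * M * Pi = 1 → M = 1 := by
    intro M h
    have h1 : Pi * (P * M * Pi) * P = M := by
      calc Pi * (P * M * Pi) * P = (Pi * P) * M * (Pi * P) := by simp only [Matrix.mul_assoc]
        _ = M := by rw [hPiP, Matrix.one_mul, Matrix.mul_one]
    rw [← h1, h, Matrix.mul_one, hPiP]
  obtain ⟨w, hw⟩ : ∃ w : ι₁ ⊕ (Fin e ⊕ Fin e) → F, w = Sum.elim (0 : ι₁ → F) w₂ := ⟨_, rfl⟩
  have hgw : g *ᵥ w = w := by
    rw [hgdef, hw, Matrix.fromBlocks_mulVec]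
    simp [huw]
  refine ⟨s, P *ᵥ w, ?_, ?_, ?_, ?_, ?_⟩
  · intro h
    have h1 : Pi *ᵥ (P *ᵥ w) = w := by rw [Matrix.mulVec_mulVec, hPiP, Matrix.one_mulVec]
    rw [h, Matrix.mulVec_zero] at h1
    have h2 := congrFun h1 (Sum.inr (Sum.inl ⟨0, he1⟩))
    rw [hw, hw₂] at h2
    simp at h2
  · rw [hs, Matrix.mulVec_mulVec, Matrix.mul_assoc (P * g) Pi P, hPiP, Matrix.mul_one,
      ← Matrix.mulVec_mulVec, hgw]
  · have hup_rp : u ^ (r * p) = 1 := by rw [mul_comm, pow_mul, hup, one_pow]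
    rw [hpow, hgpow, pow_mul, hk₁, one_pow, hup_rp, Matrix.fromBlocks_one, Matrix.mul_one, hPPi]
  · intro h
    rw [hpow] at h
    have h2 := hconj1 _ h
    rw [hgpow, ← Matrix.fromBlocks_one (l := ι₁) (m := Fin e ⊕ Fin e) (α := F)] at h2
    have h3 := congrArg Matrix.toBlocks₁₁ h2
    rw [Matrix.toBlocks_fromBlocks₁₁, Matrix.toBlocks_fromBlocks₁₁] at h3
    exact hg₁p h3
  · intro h
    rw [hpow] at h
    have h2 := hconj1 _ h
    rw [hgpow, ← Matrix.fromBlocks_one (l := ι₁) (m := Fin e ⊕ Fin e) (α := F)] at h2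
    have h3 := congrArg Matrix.toBlocks₂₂ h2
    rw [Matrix.toBlocks_fromBlocks₂₂, Matrix.toBlocks_fromBlocks₂₂] at h3
    exact hur h3

end Cfsg.Agent.Lib.helper10.SpRP
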