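import Mathlib
import Cfsg.Agent.Lib.helper10.SpRP2
import Cfsg.Agent.S2468
import Cfsg.Agent.Lib.helper18.UniForm

/-!
# Elements of order `r * s` in symplectic groups: non-existence
-/

set_option autoImplicit false

namespace Cfsg.Agent.Lib.helper10.SpRS

open Polynomial Matrix UniqueFactorizationMonoid
open Cfsg.Agent.Lib.helper18.SpRz Cfsg.Agent.Lib.helper18.RCF
open Cfsg.Agent.Lib.helper10.OrthCount Cfsg.Agent.Lib.helper10.OrthType
open Cfsg.Agent.Lib.helper10.SpRP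
open Cfsg.Agent.S2468 (fx mem_fx fix_modEq dvd_sub_of_pow_eq)

universe u
variable {F : Type u} [Field F]

/-- the norm element `1 + a + ... + a^(r-1)` -/
def nm {κ : Type} [Fintype κ] [DecidableEq κ] (a : Matrix κ κ F) (r : ℕ) : Matrix κ κ F :=
  ∑ i ∈ Finset.range r, a ^ i

section nmlemmas
variable {κ : Type} [Fintype κ] [DecidableEq κ]

theorem mul_nm (a : Matrix κ κ F) (r : ℕ) (ha : a ^ r = 1) : a * nm a r = nm a r := by
  unfold nm
  rw [Finset.mul_sum]
  have h0 : ∀ i ∈ Finset.range r, a * a ^ i = a ^ (i + 1) := fun i _ => (pow_succ' a i).symm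
  rw [Finset.sum_congr rfl h0]
  have h1 := Finset.sum_range_succ (fun i => a ^ i) r
  have h2 := Finset.sum_range_succ' (fun i => a ^ i) r
  rw [h1] at h2
  simp only [ha, pow_zero] at h2
  exact (add_right_cancel h2).symm

theorem nm_comm (a c : Matrix κ κ F) (r : ℕ) (h : a * c = c * a) : nm a r * c = c * nm a r := by
  unfold nm
  rw [Finset.sum_mul, Finset.mul_sum]
  apply Finset.sum_congr rfl
  intro i _
  have hc : Commute a c := h
  exact (hc.pow_left i).eq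

theorem nm_fixed (a : Matrix κ κ F) (r : ℕ) (v : κ → F) (hv : a *ᵥ v = v) :
    nm a r *ᵥ v = (r : F) • v := by
  unfold nm
  rw [Matrix.sum_mulVec]
  have h0 : ∀ i ∈ Finset.range r, a ^ i *ᵥ v = v := by
    intro i _
    have := eig_pow a 1 v (by rw [one_smul]; exact hv) i
    rw [one_pow, one_smul] at this
    exact this
  rw [Finset.sum_congr rfl h0, Finset.sum_const, Finset.card_range, Nat.cast_smul_eq_nsmul]

theorem nm_mem_fx (a : Matrix κ κ F) (r : ℕ) (ha : a ^ r = 1) (v : κ → F) :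
    nm a r *ᵥ v ∈ fx a := by
  rw [mem_fx, Matrix.mulVec_mulVec, mul_nm a r ha]

end nmlemmas

/-- isometries of the standard symplectic form -/
theorem sp_iso {n : ℕ} (A : Matrix (Fin n ⊕ Fin n) (Fin n ⊕ Fin n) F)
    (hA : A ∈ Matrix.symplecticGroup (Fin n) F) (u v : Fin n ⊕ Fin n → F) :
    (A *ᵥ u) ⬝ᵥ J (Fin n) F *ᵥ (A *ᵥ v) = u ⬝ᵥ J (Fin n) F *ᵥ v := by
  have h := SymplecticGroup.mem_iff'.1 hA
  rw [← Matrix.vecMul_transpose, ← Matrix.dotProduct_mulVec, Matrix.mulVec_mulVec,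
    Matrix.mulVec_mulVec, h]

theorem iso_pow {n : ℕ} (a : Matrix (Fin n ⊕ Fin n) (Fin n ⊕ Fin n) F)
    (hiso : ∀ u v, (a *ᵥ u) ⬝ᵥ J (Fin n) F *ᵥ (a *ᵥ v) = u ⬝ᵥ J (Fin n) F *ᵥ v) (i : ℕ)
    (u v : Fin n ⊕ Fin n → F) :
    (a ^ i *ᵥ u) ⬝ᵥ J (Fin n) F *ᵥ (a ^ i *ᵥ v) = u ⬝ᵥ J (Fin n) F *ᵥ v := by
  induction i with
  | zero => rw [pow_zero, Matrix.one_mulVec, Matrix.one_mulVec]
  | succ i ih =>
    rw [pow_succ', ← Matrix.mulVec_mulVec, ← Matrix.mulVec_mulVec, hiso, ih]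

theorem form_nm {n : ℕ} (a : Matrix (Fin n ⊕ Fin n) (Fin n ⊕ Fin n) F)
    (hiso : ∀ u v, (a *ᵥ u) ⬝ᵥ J (Fin n) F *ᵥ (a *ᵥ v) = u ⬝ᵥ J (Fin n) F *ᵥ v) (r : ℕ)
    (u : Fin n ⊕ Fin n → F) (hu : a *ᵥ u = u) (v : Fin n ⊕ Fin n → F) :
    u ⬝ᵥ J (Fin n) F *ᵥ (nm a r *ᵥ v) = (r : F) * (u ⬝ᵥ J (Fin n) F *ᵥ v) := by
  unfold nm
  rw [Matrix.sum_mulVec, Matrix.mulVec_sum, dotProduct_sum]
  have h0 : ∀ i ∈ Finset.range r, u ⬝ᵥ J (Fin n) F *ᵥ (a ^ i *ᵥ v) = u ⬝ᵥ J (Fin n) F *ᵥ v := by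
    intro i _
    have h1 := iso_pow a hiso i u v
    have h2 := eig_pow a 1 u (by rw [one_smul]; exact hu) i
    rw [one_pow, one_smul] at h2
    rw [h2] at h1
    exact h1
  rw [Finset.sum_congr rfl h0, Finset.sum_const, Finset.card_range, nsmul_eq_mul]

theorem J_nondeg {n : ℕ} (z : Fin n ⊕ Fin n → F) (hz : ∀ y, z ⬝ᵥ J (Fin n) F *ᵥ y = 0) : z = 0 := by
  funext i
  have h := hz ((-J (Fin n) F) *ᵥ Pi.single i 1)
  rw [Matrix.mulVec_mulVec, Matrix.mul_neg, Matrix.J_squared, neg_neg, Matrix.one_mulVec,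
    dotProduct_single_one] at h
  exact h

theorem J_skew {n : ℕ} (u v : Fin n ⊕ Fin n → F) :
    u ⬝ᵥ J (Fin n) F *ᵥ v = - (v ⬝ᵥ J (Fin n) F *ᵥ u) := by
  rw [Matrix.dotProduct_mulVec, ← Matrix.mulVec_transpose, Matrix.J_transpose, Matrix.neg_mulVec,
    neg_dotProduct, dotProduct_comm]

/-- a subspace onto which there is a form-compatible projection has even dimension -/
theorem even_of_proj (n : ℕ) (U : Submodule F (Fin n ⊕ Fin n → F))
    (E : Matrix (Fin n ⊕ Fin n) (Fin n ⊕ Fin n) F) (c : F) (hc : c ≠ 0)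
    (hE : ∀ v, E *ᵥ v ∈ U)
    (hβ : ∀ u ∈ U, ∀ v, u ⬝ᵥ J (Fin n) F *ᵥ (E *ᵥ v) = c * (u ⬝ᵥ J (Fin n) F *ᵥ v)) :
    Even (Module.finrank F U) := by
  let B : U →ₗ[F] U →ₗ[F] F := (Matrix.toLinearMap₂' F (J (Fin n) F)).domRestrict₁₂ U U
  have hB : ∀ u u' : U, B u u' = u.1 ⬝ᵥ J (Fin n) F *ᵥ u'.1 := by
    intro u u'
    show (Matrix.toLinearMap₂' F (J (Fin n) F)) u.1 u'.1 = _
    rw [Matrix.toLinearMap₂'_apply']
  have halt : ∀ u : U, B u u = 0 := fun u => by
    rw [hB]; exact Cfsg.Agent.Lib.helper4.SympConj.J_alt n F u.1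
  have hinj : Function.Injective B := by
    rw [injective_iff_map_eq_zero]
    intro u hu
    apply Subtype.ext
    apply J_nondeg
    intro y
    have h1 := hβ u.1 u.2 y
    have h0 : B u ⟨E *ᵥ y, hE y⟩ = 0 := by rw [hu]; rfl
    rw [hB] at h0
    rw [h0] at h1
    rcases mul_eq_zero.1 h1.symm with h | h
    · exact absurd h hc
    · exact h
  have h1 := Cfsg.Agent.Lib.helper18.UniForm.alt_even (F := F) _ B halt rfl
  rwa [LinearMap.finrank_range_of_inj hinj] at h1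

theorem free_dvd [Fintype F] {κ : Type} [Fintype κ] [DecidableEq κ] (r : ℕ) [Fact r.Prime]
    (a : Matrix κ κ F) (ha : a ^ r = 1) (U : Submodule F (κ → F))
    (hU : ∀ w ∈ U, a *ᵥ w ∈ U) (hfree : U ⊓ fx a = ⊥) :
    orderOf ((Fintype.card F : ℕ) : ZMod r) ∣ Module.finrank F U := by
  have h1 := fix_modEq r a ha U hU
  rw [hfree, finrank_bot, pow_zero] at h1
  apply orderOf_dvd_of_pow_eq_one
  have h3 := (ZMod.natCast_eq_natCast_iff _ _ _).2 h1
  push_cast at h3
  exact h3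

theorem ker_ne_bot' {κ : Type} [Fintype κ] [DecidableEq κ] (A : Matrix κ κ F) (P : F[X])
    (hirr : Irreducible P) (hP : P ∣ A.charpoly) :
    LinearMap.ker (aeval (Matrix.toLin' A) P) ≠ ⊥ := by
  intro hbot
  have hinj : Function.Injective (aeval (Matrix.toLin' A) P) := LinearMap.ker_eq_bot.1 hbot
  have hμ : P ∣ minpoly F (Matrix.toLin' A) :=
    factor_dvd_of_aeval (Matrix.toLin' A) _ (minpoly.aeval F _) P hirr
      (by rw [Matrix.charpoly_toLin']; exact hP)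
  obtain ⟨R, hR⟩ := hμ
  have h0 : aeval (Matrix.toLin' A) (P * R) = 0 := by rw [← hR]; exact minpoly.aeval F _
  rw [map_mul] at h0
  have h2 : aeval (Matrix.toLin' A) R = 0 := by
    apply LinearMap.ext
    intro v
    apply hinj
    have h4 := congrArg (fun T : Module.End F (κ → F) => T v) h0
    simp only [Module.End.mul_apply] at h4
    rw [h4]
    simp
  have h3 : minpoly F (Matrix.toLin' A) ∣ R := minpoly.dvd F _ h2
  have hμ0 : minpoly F (Matrix.toLin' A) ≠ 0 :=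
    minpoly.ne_zero (Algebra.IsIntegral.isIntegral _)
  have hR0 : R ≠ 0 := by
    rintro rfl
    rw [mul_zero] at hR
    exact hμ0 hR
  have h5 := Polynomial.natDegree_le_of_dvd h3 hR0
  rw [hR, Polynomial.natDegree_mul hirr.ne_zero hR0] at h5
  have h6 : 0 < P.natDegree := hirr.natDegree_pos
  omega


theorem frob_aeval [Fintype F] {p : ℕ} [Fact p.Prime] [CharP F p] {κ : Type} [Fintype κ]
    [DecidableEq κ] [Nonempty κ] (M : Matrix κ κ F) (e : ℕ) (R : F[X]) :
    (aeval M R) ^ (Fintype.card F ^ e) = aeval (M ^ (Fintype.card F ^ e)) R := by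
  obtain ⟨f, hf1, hf2⟩ := FiniteField.card F p
  have hQ : Fintype.card F ^ e = p ^ ((f : ℕ) * e) := by rw [hf2, pow_mul]
  induction R using Polynomial.induction_on' with
  | add R₁ R₂ h₁ h₂ =>
    rw [map_add, map_add, ← h₁, ← h₂, hQ]
    apply add_pow_char_pow_of_commute
    show aeval M R₁ * aeval M R₂ = aeval M R₂ * aeval M R₁
    rw [← map_mul, ← map_mul, mul_comm]
  | monomial i c =>
    rw [aeval_monomial, aeval_monomial,
      (Algebra.commute_algebraMap_left c (M ^ i)).mul_pow, ← map_pow, FiniteField.pow_card_pow,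
      ← pow_mul, ← pow_mul, mul_comm]

theorem adj_pow {n : ℕ} (b bi : Matrix (Fin n ⊕ Fin n) (Fin n ⊕ Fin n) F)
    (hiso : ∀ u v, (b *ᵥ u) ⬝ᵥ J (Fin n) F *ᵥ (b *ᵥ v) = u ⬝ᵥ J (Fin n) F *ᵥ v)
    (hbi : b * bi = 1) (i : ℕ) (u v : Fin n ⊕ Fin n → F) :
    (b ^ i *ᵥ u) ⬝ᵥ J (Fin n) F *ᵥ v = u ⬝ᵥ J (Fin n) F *ᵥ (bi ^ i *ᵥ v) := by
  induction i generalizing v with
  | zero => rw [pow_zero, pow_zero, Matrix.one_mulVec, Matrix.one_mulVec]
  | succ i ih =>
    have h1 : v = b *ᵥ (bi *ᵥ v) := by rw [Matrix.mulVec_mulVec, hbi, Matrix.one_mulVec]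
    rw [pow_succ' b, ← Matrix.mulVec_mulVec]
    conv_lhs => rw [h1]
    rw [hiso, ih, pow_succ bi, ← Matrix.mulVec_mulVec]

theorem adj_aeval {n : ℕ} (b bi : Matrix (Fin n ⊕ Fin n) (Fin n ⊕ Fin n) F)
    (hiso : ∀ u v, (b *ᵥ u) ⬝ᵥ J (Fin n) F *ᵥ (b *ᵥ v) = u ⬝ᵥ J (Fin n) F *ᵥ v)
    (hbi : b * bi = 1) (R : F[X]) (u v : Fin n ⊕ Fin n → F) :
    (aeval b R *ᵥ u) ⬝ᵥ J (Fin n) F *ᵥ v = u ⬝ᵥ J (Fin n) F *ᵥ (aeval bi R *ᵥ v) := by
  induction R using Polynomial.induction_on' with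
  | add R₁ R₂ h₁ h₂ =>
    rw [map_add, map_add, Matrix.add_mulVec, Matrix.add_mulVec, add_dotProduct,
      Matrix.mulVec_add, dotProduct_add, h₁, h₂]
  | monomial i c =>
    simp only [aeval_monomial, Algebra.algebraMap_eq_smul_one, Matrix.smul_mul, Matrix.one_mul]
    rw [Matrix.smul_mulVec, Matrix.smul_mulVec, smul_dotProduct, Matrix.mulVec_smul,
      dotProduct_smul, adj_pow b bi hiso hbi]

theorem eta_dvd (k ηk : ℕ) (hηk : (Odd k ∧ ηk = k) ∨ (Even k ∧ 2 * ηk = k)) (m : ℕ) (hk : k ∣ m)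
    (hm : Even m) : 2 * ηk ∣ m := by
  rcases hηk with ⟨hodd, rfl⟩ | ⟨_, h⟩
  · exact Nat.Coprime.mul_dvd_of_dvd_of_dvd (Nat.coprime_two_left.2 hodd) hm.two_dvd hk
  · rw [h]; exact hk

theorem even_sub_of (a b : ℕ) (ha : Even a) (hb : Even b) : Even (a - b) := by
  obtain ⟨i, hi⟩ := ha
  obtain ⟨j, hj⟩ := hb
  exact ⟨i - j, by omega⟩

theorem ord_dvd [Fintype F] {p : ℕ} [Fact p.Prime] [CharP F p] (r : ℕ) (hr : r.Prime)
    (hrp : r ≠ p) :
    orderOf ((Fintype.card F : ℕ) : ZMod r) ∣ r - 1 ∧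
      0 < orderOf ((Fintype.card F : ℕ) : ZMod r) := by
  have : Fact r.Prime := ⟨hr⟩
  have hQ0 : ((Fintype.card F : ℕ) : ZMod r) ≠ 0 := by
    intro h0
    rw [ZMod.natCast_eq_zero_iff] at h0
    obtain ⟨f, hf1, hf2⟩ := FiniteField.card F p
    rw [hf2] at h0
    exact hrp ((Nat.prime_dvd_prime_iff_eq hr Fact.out).1 (hr.dvd_of_dvd_pow h0))
  have hd : orderOf ((Fintype.card F : ℕ) : ZMod r) ∣ r - 1 :=
    orderOf_dvd_of_pow_eq_one (ZMod.pow_card_sub_one_eq_one hQ0)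
  refine ⟨hd, ?_⟩
  rcases Nat.eq_zero_or_pos (orderOf ((Fintype.card F : ℕ) : ZMod r)) with h | h
  · rw [h] at hd
    have := Nat.eq_zero_of_zero_dvd hd
    have := hr.two_le
    omega
  · exact h

/-- no commuting pair of elements of distinct odd prime orders `r`, `s` in `Sp_{2n}(q)` in the
non-adjacent case -/
theorem no_rs [Fintype F] {p q : ℕ} [Fact p.Prime] [CharP F p] (hF : Fintype.card F = q)
    (n r s k l : ℕ) (hr : r.Prime) (hs : s.Prime) (hr2 : r ≠ 2) (hs2 : s ≠ 2) (hrp : r ≠ p)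
    (hsp : s ≠ p) (hk : k = orderOf (q : ZMod r)) (hl : l = orderOf (q : ZMod s))
    (ηk ηl : ℕ) (hηk : (Odd k ∧ ηk = k) ∨ (Even k ∧ 2 * ηk = k))
    (hηl : (Odd l ∧ ηl = l) ∨ (Even l ∧ 2 * ηl = l)) (hkl : ηk ≤ ηl)
    (hn : n < ηk + ηl) (hno : ¬ ∃ t : ℕ, Odd t ∧ l = k * t)
    (x y : Matrix.symplecticGroup (Fin n) F) (hxr : x ^ r = 1) (hx1 : x ≠ 1)
    (hys : y ^ s = 1) (hy1 : y ≠ 1) (hcomm : x * y = y * x) : False := by
  classical
  subst hF
  have : Fact r.Prime := ⟨hr⟩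
  have : Fact s.Prime := ⟨hs⟩
  have hrF : (r : F) ≠ 0 := cast_ne_zero_of_coprime p r ((Nat.coprime_primes hr Fact.out).2 hrp)
  have hsF : (s : F) ≠ 0 := cast_ne_zero_of_coprime p s ((Nat.coprime_primes hs Fact.out).2 hsp)
  obtain ⟨hkdvd, hk0⟩ := ord_dvd (F := F) (p := p) r hr hrp
  obtain ⟨hldvd, hl0⟩ := ord_dvd (F := F) (p := p) s hs hsp
  rw [← hk] at hkdvd hk0
  rw [← hl] at hldvd hl0
  obtain ⟨a, ha⟩ : ∃ a : Matrix (Fin n ⊕ Fin n) (Fin n ⊕ Fin n) F, a = x.1 := ⟨_, rfl⟩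
  obtain ⟨b, hb⟩ : ∃ b : Matrix (Fin n ⊕ Fin n) (Fin n ⊕ Fin n) F, b = y.1 := ⟨_, rfl⟩
  have har : a ^ r = 1 := by
    rw [ha]
    have h := congrArg Subtype.val hxr
    simpa using h
  have hbs : b ^ s = 1 := by
    rw [hb]
    have h := congrArg Subtype.val hys
    simpa using h
  have ha1 : a ≠ 1 := fun h => hx1 (Subtype.ext (by rw [← ha]; exact h))
  have hb1 : b ≠ 1 := fun h => hy1 (Subtype.ext (by rw [← hb]; exact h))
  have hab : a * b = b * a := by rw [ha, hb]; exact congrArg Subtype.val hcomm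
  have hisoa : ∀ u v, (a *ᵥ u) ⬝ᵥ J (Fin n) F *ᵥ (a *ᵥ v) = u ⬝ᵥ J (Fin n) F *ᵥ v := by
    rw [ha]; exact sp_iso x.1 x.2
  have hisob : ∀ u v, (b *ᵥ u) ⬝ᵥ J (Fin n) F *ᵥ (b *ᵥ v) = u ⬝ᵥ J (Fin n) F *ᵥ v := by
    rw [hb]; exact sp_iso y.1 y.2
  have hfr : Module.finrank F (Fin n ⊕ Fin n → F) = n + n := by
    rw [Module.finrank_fintype_fun_eq_card, Fintype.card_sum, Fintype.card_fin]
  have htop : ∀ c : Matrix (Fin n ⊕ Fin n) (Fin n ⊕ Fin n) F, c ≠ 1 →
      Module.finrank F ↥(fx c) < n + n := by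
    intro c hc
    have hne : fx c ≠ ⊤ := by
      intro htop
      apply hc
      apply Matrix.toLin'.injective
      apply LinearMap.ext
      intro v
      have hv : v ∈ fx c := by rw [htop]; exact Submodule.mem_top
      rw [Matrix.toLin'_apply, (mem_fx c v).1 hv, Matrix.toLin'_one]
      rfl
    have := Submodule.finrank_lt hne
    rwa [hfr] at this
  have hinv : ∀ c d : Matrix (Fin n ⊕ Fin n) (Fin n ⊕ Fin n) F, c * d = d * c →
      ∀ w ∈ fx c, d *ᵥ w ∈ fx c := by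
    intro c d hcd w hw
    rw [mem_fx] at hw ⊢
    rw [Matrix.mulVec_mulVec, hcd, ← Matrix.mulVec_mulVec, hw]
  have htopfin : Module.finrank F ↥(⊤ : Submodule F (Fin n ⊕ Fin n → F)) = n + n := by
    rw [finrank_top, hfr]
  have c1 := fix_modEq r a har ⊤ (fun w _ => Submodule.mem_top)
  have c2 := fix_modEq s b hbs ⊤ (fun w _ => Submodule.mem_top)
  have c3 := fix_modEq s b hbs (fx a) (hinv a b hab)
  have c4 := fix_modEq r a har (fx b) (hinv b a hab.symm)
  rw [top_inf_eq, htopfin] at c1 c2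
  rw [inf_comm] at c4
  obtain ⟨da, hda⟩ : ∃ da : ℕ, da = Module.finrank F ↥(fx a) := ⟨_, rfl⟩
  obtain ⟨db, hdb⟩ : ∃ db : ℕ, db = Module.finrank F ↥(fx b) := ⟨_, rfl⟩
  obtain ⟨dc, hdc⟩ : ∃ dc : ℕ, dc = Module.finrank F ↥(fx a ⊓ fx b) := ⟨_, rfl⟩
  rw [← hda] at c1 c3
  rw [← hdb] at c2 c4
  rw [← hdc] at c3 c4
  have hda_lt : da < n + n := by rw [hda]; exact htop a ha1
  have hdb_lt : db < n + n := by rw [hdb]; exact htop b hb1
  have hdca : dc ≤ da := by
    rw [hda, hdc]; exact Submodule.finrank_mono inf_le_left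
  have hdcb : dc ≤ db := by
    rw [hdb, hdc]; exact Submodule.finrank_mono inf_le_right
  have e1 := dvd_sub_of_pow_eq r _ k hk hk0 (n + n) da hda_lt.le
    (by have := (ZMod.natCast_eq_natCast_iff _ _ _).2 c1; push_cast at this; exact this)
  have e2 := dvd_sub_of_pow_eq s _ l hl hl0 (n + n) db hdb_lt.le
    (by have := (ZMod.natCast_eq_natCast_iff _ _ _).2 c2; push_cast at this; exact this)
  have e3 := dvd_sub_of_pow_eq s _ l hl hl0 da dc hdca
    (by have := (ZMod.natCast_eq_natCast_iff _ _ _).2 c3; push_cast at this; exact this)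
  have e4 := dvd_sub_of_pow_eq r _ k hk hk0 db dc hdcb
    (by have := (ZMod.natCast_eq_natCast_iff _ _ _).2 c4; push_cast at this; exact this)
  -- evenness of the dimensions
  have hev_a : Even da := by
    rw [hda]
    exact even_of_proj n (fx a) (nm a r) (r : F) hrF (nm_mem_fx a r har)
      (fun u hu v => form_nm a hisoa r u ((mem_fx a u).1 hu) v)
  have hev_b : Even db := by
    rw [hdb]
    exact even_of_proj n (fx b) (nm b s) (s : F) hsF (nm_mem_fx b s hbs)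
      (fun u hu v => form_nm b hisob s u ((mem_fx b u).1 hu) v)
  have hev_c : Even dc := by
    rw [hdc]
    refine even_of_proj n (fx a ⊓ fx b) (nm a r * nm b s) ((r : F) * (s : F))
      (mul_ne_zero hrF hsF) ?_ ?_
    · intro v
      rw [Submodule.mem_inf, mem_fx, mem_fx]
      constructor
      · rw [Matrix.mulVec_mulVec, ← Matrix.mul_assoc, mul_nm a r har]
      · rw [Matrix.mulVec_mulVec, ← Matrix.mul_assoc, ← nm_comm a b r hab, Matrix.mul_assoc,
          mul_nm b s hbs]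
    · intro u hu v
      rw [Submodule.mem_inf, mem_fx, mem_fx] at hu
      rw [← Matrix.mulVec_mulVec, form_nm a hisoa r u hu.1, form_nm b hisob s u hu.2, mul_assoc]
  have hev_nn : Even (n + n) := ⟨n, rfl⟩
  have hle_a : 2 * ηk ≤ n + n - da :=
    Nat.le_of_dvd (by omega) (eta_dvd k ηk hηk _ e1 (even_sub_of _ _ hev_nn hev_a))
  have hle_b : 2 * ηl ≤ n + n - db :=
    Nat.le_of_dvd (by omega) (eta_dvd l ηl hηl _ e2 (even_sub_of _ _ hev_nn hev_b))
  have f3 : da = dc := by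
    by_contra hne
    have hlt : dc < da := lt_of_le_of_ne hdca (Ne.symm hne)
    have h := Nat.le_of_dvd (by omega) (eta_dvd l ηl hηl _ e3 (even_sub_of _ _ hev_a hev_c))
    omega
  have f4 : db = dc := by
    by_contra hne
    have hlt : dc < db := lt_of_le_of_ne hdcb (Ne.symm hne)
    have h := Nat.le_of_dvd (by omega) (eta_dvd k ηk hηk _ e4 (even_sub_of _ _ hev_b hev_c))
    omega
  have hfa : fx a ⊓ fx b = fx a :=
    Submodule.eq_of_le_of_finrank_eq inf_le_left (by rw [← hdc, ← hda, f3])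
  have hfb : fx a ⊓ fx b = fx b :=
    Submodule.eq_of_le_of_finrank_eq inf_le_right (by rw [← hdc, ← hdb, f4])
  have hfab : fx a = fx b := hfa.symm.trans hfb
  obtain ⟨D, hD⟩ : ∃ D, D = n + n - da := ⟨_, rfl⟩
  have hD0 : 0 < D := by omega
  have hkD : k ∣ D := by rw [hD]; exact e1
  have hlD : l ∣ D := by rw [hD, f3, ← f4]; exact e2
  have hDlt : D < 2 * ηk + 2 * ηl := by omega
  have hx0i : Irreducible (X - 1 : F[X]) := by simpa using irreducible_X_sub_C (1 : F)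
  have hx0m : (X - 1 : F[X]).Monic := by simpa using monic_X_sub_C (1 : F)
  rcases hηl with ⟨hlodd, hηl'⟩ | ⟨hlev, hηl'⟩
  · -- `l` odd: two distinct factors
    obtain ⟨t, ht⟩ : ∃ t, t * l = s - 1 := ⟨(s - 1) / l, Nat.div_mul_cancel hldvd⟩
    obtain ⟨S, σ, hSc, hxS, hipos, hS1, hS2, hσinv, hσx, hσSS, hat1, hat2, hoddfp, hevfix, hσst⟩ :=
      sigma_setup rfl s l t hs hs2 hsp hl ht
    have hbi : b * (y⁻¹).1 = 1 := by
      rw [hb]
      have h : (y * y⁻¹).1 = 1 := by rw [mul_inv_cancel]; rfl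
      exact h
    have hfac : ∀ h ∈ normalizedFactors b.charpoly, h = X - 1 ∨ h ∈ S := by
      intro h hh
      have hirr := irreducible_of_normalized_factor h hh
      refine hS2 h (nf_monic _ h hh) hirr ?_
      have haev : aeval (Matrix.toLin' b) (X ^ s - 1 : F[X]) = 0 := by
        rw [map_sub, map_pow, aeval_X, map_one, ← Matrix.toLin'_pow, hbs, Matrix.toLin'_one]
        exact sub_self _
      exact factor_dvd_of_aeval (Matrix.toLin' b) _ haev h hirr
        (by rw [Matrix.charpoly_toLin']; exact dvd_of_mem_normalizedFactors hh)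
    have hσnf : (normalizedFactors b.charpoly).map σ = normalizedFactors b.charpoly := by
      have h1 := nf_st b (y⁻¹).1 hbi
        (by rw [hb]; exact Cfsg.Agent.Lib.helper4.SpPalin.sp_charpoly_inv y)
      conv_rhs => rw [← h1]
      exact Multiset.map_congr rfl (fun h hh => hσst h (hfac h hh))
    obtain ⟨P, hPmem, hPne⟩ : ∃ P ∈ normalizedFactors b.charpoly, P ≠ X - 1 := by
      by_contra hcon
      push Not at hcon
      exact hb1 (eq_one_of_nf b s hsF hbs hcon)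
    have hPS : P ∈ S := (hfac P hPmem).resolve_left hPne
    have hσP : σ P ∈ normalizedFactors b.charpoly := by
      rw [← hσnf]; exact Multiset.mem_map_of_mem σ hPmem
    have hσPS := hσSS P hPS
    have hσne : σ P ≠ P := hoddfp hlodd P hPS
    have hfxb : fx b = LinearMap.ker (aeval (Matrix.toLin' b) (X - 1 : F[X])) := by
      unfold fx
      congr 1
      simp
    have hcopx : ∀ P₁ ∈ S, IsCoprime P₁ (X - 1 : F[X]) := by
      intro P₁ hP₁
      refine ((hS1 P₁ hP₁).2.1.coprime_iff_not_dvd).2 (fun hd => ?_)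
      have h6 := eq_of_monic_of_associated (hS1 P₁ hP₁).1 hx0m
        ((hS1 P₁ hP₁).2.1.associated_of_dvd hx0i hd)
      exact hxS (h6 ▸ hP₁)
    have key : ∀ P₁ ∈ S, P₁ ∈ normalizedFactors b.charpoly →
        Nat.lcm k l ≤ Module.finrank F ↥(LinearMap.ker (aeval (Matrix.toLin' b) P₁)) := by
      intro P₁ hP₁ hmem
      have hK0 := ker_ne_bot' b P₁ (hS1 P₁ hP₁).2.1 (dvd_of_mem_normalizedFactors hmem)
      have hKb : LinearMap.ker (aeval (Matrix.toLin' b) P₁) ⊓ fx b = ⊥ := by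
        rw [hfxb]; exact ker_inf_bot (Matrix.toLin' b) P₁ (X - 1) (hcopx P₁ hP₁)
      have hKa : LinearMap.ker (aeval (Matrix.toLin' b) P₁) ⊓ fx a = ⊥ := by
        rw [hfab]; exact hKb
      have d1 := free_dvd r a har _ (fun w hw => ker_invariant b a hab.symm P₁ w hw) hKa
      have d2 := free_dvd s b hbs _ (fun w hw => ker_invariant b b rfl P₁ w hw) hKb
      rw [← hk] at d1
      rw [← hl] at d2
      have hpos : 0 < Module.finrank F ↥(LinearMap.ker (aeval (Matrix.toLin' b) P₁)) := by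
        by_contra h0
        exact hK0 (Submodule.finrank_eq_zero.1 (by omega))
      exact Nat.le_of_dvd hpos (Nat.lcm_dvd d1 d2)
    have k1 := key P hPS hPmem
    have k2 := key (σ P) hσPS hσP
    have hcop12 : IsCoprime P (σ P) := ((hS1 P hPS).2.1.coprime_iff_not_dvd).2 (fun hd =>
      hσne (eq_of_monic_of_associated (hS1 _ hσPS).1 (hS1 P hPS).1
        ((hS1 P hPS).2.1.associated_of_dvd (hS1 _ hσPS).2.1 hd).symm))
    have hinf := ker_inf_bot (Matrix.toLin' b) P (σ P) hcop12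
    have hsup : (LinearMap.ker (aeval (Matrix.toLin' b) P) ⊔
        LinearMap.ker (aeval (Matrix.toLin' b) (σ P))) ⊓ fx b = ⊥ := by
      have hle : LinearMap.ker (aeval (Matrix.toLin' b) P) ⊔
          LinearMap.ker (aeval (Matrix.toLin' b) (σ P)) ≤
          LinearMap.ker (aeval (Matrix.toLin' b) (P * σ P)) := by
        apply sup_le
        · intro v hv
          rw [LinearMap.mem_ker] at hv ⊢
          rw [mul_comm, map_mul, Module.End.mul_apply, hv, map_zero]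
        · intro v hv
          rw [LinearMap.mem_ker] at hv ⊢
          rw [map_mul, Module.End.mul_apply, hv, map_zero]
      rw [hfxb, eq_bot_iff, ← ker_inf_bot (Matrix.toLin' b) (P * σ P) (X - 1)
        (IsCoprime.mul_left (hcopx P hPS) (hcopx _ hσPS))]
      exact inf_le_inf_right _ hle
    have h3 := Submodule.finrank_sup_add_finrank_inf_eq
      (LinearMap.ker (aeval (Matrix.toLin' b) P)) (LinearMap.ker (aeval (Matrix.toLin' b) (σ P)))
    have h4 := Submodule.finrank_sup_add_finrank_inf_eq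
      (LinearMap.ker (aeval (Matrix.toLin' b) P) ⊔ LinearMap.ker (aeval (Matrix.toLin' b) (σ P)))
      (fx b)
    rw [hinf, finrank_bot, add_zero] at h3
    rw [hsup, finrank_bot, add_zero, ← hdb] at h4
    have h5 := Submodule.finrank_le ((LinearMap.ker (aeval (Matrix.toLin' b) P) ⊔
      LinearMap.ker (aeval (Matrix.toLin' b) (σ P))) ⊔ fx b)
    rw [hfr] at h5
    obtain ⟨c, hc⟩ := Nat.dvd_lcm_right k l
    have hLpos := Nat.lcm_pos hk0 hl0
    have hc1 : c = 1 := by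
      by_contra hne
      have hc0 : c ≠ 0 := by
        rintro rfl
        rw [mul_zero] at hc
        omega
      have : l * 2 ≤ l * c := Nat.mul_le_mul_left l (by omega)
      omega
    rw [hc1, mul_one] at hc
    have hkl' : k ∣ l := by
      have := Nat.dvd_lcm_left k l
      rwa [hc] at this
    obtain ⟨t', ht'⟩ := hkl'
    exact hno ⟨t', (Nat.odd_mul.1 (ht' ▸ hlodd)).2, ht'⟩
  · -- `l` even
    have hDl : D = l := by
      obtain ⟨c, hc⟩ := hlD
      have hc1 : c = 1 := by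
        by_contra hne
        have hc0 : c ≠ 0 := by
          rintro rfl
          rw [mul_zero] at hc
          omega
        have : l * 2 ≤ l * c := Nat.mul_le_mul_left l (by omega)
        omega
      rw [hc, hc1, mul_one]
    obtain ⟨t', ht'⟩ : k ∣ l := by rw [← hDl]; exact hkD
    have htev : Even t' := by
      by_contra hodd
      exact hno ⟨t', Nat.not_even_iff_odd.1 hodd, ht'⟩
    obtain ⟨t₂, ht₂⟩ := htev
    have hηl2 : ηl = k * t₂ := by
      have h : 2 * ηl = 2 * (k * t₂) := by rw [hηl', ht', ht₂]; ring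
      omega
    have hn0 : 0 < n := by omega
    have : Nonempty (Fin n ⊕ Fin n) := ⟨Sum.inl ⟨0, hn0⟩⟩
    obtain ⟨Q, hQ⟩ : ∃ Q, Q = Fintype.card F ^ ηl := ⟨_, rfl⟩
    have hQ1 : 1 ≤ Q := by rw [hQ]; exact Nat.one_le_pow _ _ Fintype.card_pos
    have hrQ : ((Fintype.card F : ℕ) : ZMod r) ^ ηl = 1 := by
      rw [hηl2, pow_mul, hk, pow_orderOf_eq_one, one_pow]
    have hsQ : ((Fintype.card F : ℕ) : ZMod s) ^ ηl = -1 := by
      have h1 : (((Fintype.card F : ℕ) : ZMod s) ^ ηl) * (((Fintype.card F : ℕ) : ZMod s) ^ ηl)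
          = 1 := by
        rw [← pow_add, ← two_mul, hηl', hl, pow_orderOf_eq_one]
      rcases mul_self_eq_one_iff.1 h1 with h | h
      · exfalso
        have hlt : ηl < orderOf ((Fintype.card F : ℕ) : ZMod s) := by rw [← hl]; omega
        exact pow_ne_one_of_lt_orderOf (by omega) hlt h
      · exact h
    have haQ : a ^ Q = a := by
      have h1 : ((Q : ℕ) : ZMod r) = ((1 : ℕ) : ZMod r) := by
        rw [hQ]; push_cast; exact hrQ
      have h2 : Q ≡ 1 [MOD r] := (ZMod.natCast_eq_natCast_iff _ _ _).1 h1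
      obtain ⟨j, hj⟩ := (Nat.modEq_iff_dvd' hQ1).1 h2.symm
      have hQe : Q = 1 + r * j := by omega
      rw [hQe, pow_add, pow_one, pow_mul, har, one_pow, mul_one]
    have hbQ : b * b ^ Q = 1 := by
      have h1 : ((Q + 1 : ℕ) : ZMod s) = 0 := by
        rw [hQ]; push_cast; rw [hsQ]; ring
      obtain ⟨j, hj⟩ := (ZMod.natCast_eq_zero_iff _ _).1 h1
      rw [← pow_succ', hj, pow_mul, hbs, one_pow]
    obtain ⟨W, hW⟩ : ∃ W : Submodule F (Fin n ⊕ Fin n → F), ∀ v, v ∈ W ↔ nm a r *ᵥ v = 0 :=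
      ⟨LinearMap.ker (Matrix.toLin' (nm a r)), fun v => by
        rw [LinearMap.mem_ker, Matrix.toLin'_apply]⟩
    have hWa : W ⊓ fx a = ⊥ := by
      rw [eq_bot_iff]
      intro v hv
      rw [Submodule.mem_inf, hW, mem_fx] at hv
      have h1 := nm_fixed a r v hv.2
      rw [hv.1] at h1
      rcases smul_eq_zero.1 h1.symm with h | h
      · exact absurd h hrF
      · exact (Submodule.mem_bot F).2 h
    have hWsup : W ⊔ fx a = ⊤ := by
      rw [eq_top_iff]
      intro v _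
      have hdec : v = (v - (r : F)⁻¹ • (nm a r *ᵥ v)) + (r : F)⁻¹ • (nm a r *ᵥ v) := by abel
      rw [hdec]
      apply Submodule.add_mem_sup
      · rw [hW, Matrix.mulVec_sub, Matrix.mulVec_smul,
          nm_fixed a r _ ((mem_fx a _).1 (nm_mem_fx a r har v)), smul_smul,
          inv_mul_cancel₀ hrF, one_smul, sub_self]
      · exact Submodule.smul_mem _ _ (nm_mem_fx a r har v)
    have hWdim : Module.finrank F W = D := by
      have h := Submodule.finrank_sup_add_finrank_inf_eq W (fx a)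
      rw [hWsup, hWa, finrank_top, hfr, finrank_bot, add_zero, ← hda] at h
      omega
    have hWinv : ∀ c : Matrix (Fin n ⊕ Fin n) (Fin n ⊕ Fin n) F, a * c = c * a →
        ∀ w ∈ W, c *ᵥ w ∈ W := by
      intro c hc w hw
      rw [hW] at hw ⊢
      rw [Matrix.mulVec_mulVec, nm_comm a c r hc, ← Matrix.mulVec_mulVec, hw, Matrix.mulVec_zero]
    have hWb : W ⊓ fx b = ⊥ := by rw [← hfab]; exact hWa
    have hirrW : ∀ Z : Submodule F (Fin n ⊕ Fin n → F), Z ≤ W → (∀ z ∈ Z, b *ᵥ z ∈ Z) →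
        Z ≠ ⊥ → Z = W := by
      intro Z hZW hZb hZ0
      have hfree : Z ⊓ fx b = ⊥ := by
        rw [eq_bot_iff, ← hWb]; exact inf_le_inf_right _ hZW
      have hdvd := free_dvd s b hbs Z hZb hfree
      rw [← hl] at hdvd
      have hpos : 0 < Module.finrank F Z := by
        by_contra h0
        exact hZ0 (Submodule.finrank_eq_zero.1 (by omega))
      have hle := Nat.le_of_dvd hpos hdvd
      exact Submodule.eq_of_le_of_finrank_eq hZW (by
        have := Submodule.finrank_mono hZW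
        omega)
    obtain ⟨w₀, hw₀W, hw₀⟩ : ∃ w₀ ∈ W, w₀ ≠ 0 := by
      have hWne : W ≠ ⊥ := by
        intro h
        rw [h, finrank_bot] at hWdim
        omega
      exact Submodule.exists_mem_ne_zero_of_ne_bot hWne
    let φ : F[X] →ₗ[F] (Fin n ⊕ Fin n → F) :=
      (LinearMap.applyₗ w₀) ∘ₗ
        ((Matrix.toLin' : Matrix (Fin n ⊕ Fin n) (Fin n ⊕ Fin n) F ≃ₗ[F] _).toLinearMap) ∘ₗ
        (aeval b).toLinearMap
    have hφ : ∀ f, φ f = (aeval b f) *ᵥ w₀ := fun f => rfl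
    have hbcomm : ∀ R : F[X], a * aeval b R = aeval b R * a := fun R =>
      ((aeval_commute b a (show Commute b a from hab.symm) R).eq).symm
    have hZ := hirrW (LinearMap.range φ) (by
        rintro _ ⟨R, rfl⟩
        rw [hφ]
        exact hWinv _ (hbcomm R) w₀ hw₀W)
      (by
        rintro _ ⟨R, rfl⟩
        refine ⟨X * R, ?_⟩
        rw [hφ, hφ, map_mul, aeval_X, Matrix.mulVec_mulVec])
      (by
        intro h0
        have h1 : w₀ ∈ LinearMap.range φ := ⟨1, by rw [hφ, map_one, Matrix.one_mulVec]⟩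
        rw [h0] at h1
        exact hw₀ ((Submodule.mem_bot F).1 h1))
    obtain ⟨R, hR⟩ : ∃ R : F[X], aeval b R *ᵥ w₀ = a *ᵥ w₀ := by
      have h1 : a *ᵥ w₀ ∈ LinearMap.range φ := by rw [hZ]; exact hWinv a rfl w₀ hw₀W
      obtain ⟨R, hR⟩ := h1
      exact ⟨R, by rw [← hφ]; exact hR⟩
    obtain ⟨c, hc⟩ : ∃ c, c = a - aeval b R := ⟨_, rfl⟩
    have hcb : c * b = b * c := by
      rw [hc, Matrix.sub_mul, Matrix.mul_sub, hab]
      congr 1
      exact (aeval_commute b b (Commute.refl b) R).eq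
    have hZ' := hirrW (W ⊓ LinearMap.ker (Matrix.toLin' c)) inf_le_left (by
        intro z hz
        rw [Submodule.mem_inf, LinearMap.mem_ker, Matrix.toLin'_apply] at hz ⊢
        refine ⟨hWinv b hab z hz.1, ?_⟩
        rw [Matrix.mulVec_mulVec, hcb, ← Matrix.mulVec_mulVec, hz.2, Matrix.mulVec_zero])
      (by
        intro h0
        have h1 : w₀ ∈ W ⊓ LinearMap.ker (Matrix.toLin' c) := by
          rw [Submodule.mem_inf, LinearMap.mem_ker, Matrix.toLin'_apply]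
          refine ⟨hw₀W, ?_⟩
          rw [hc, Matrix.sub_mulVec, hR, sub_self]
        rw [h0] at h1
        exact hw₀ ((Submodule.mem_bot F).1 h1))
    have hRW : ∀ w ∈ W, a *ᵥ w = aeval b R *ᵥ w := by
      intro w hw
      rw [← hZ', Submodule.mem_inf, LinearMap.mem_ker, Matrix.toLin'_apply, hc,
        Matrix.sub_mulVec] at hw
      exact sub_eq_zero.1 hw.2
    have hpowW : ∀ (j : ℕ) (w : Fin n ⊕ Fin n → F), w ∈ W →
        a ^ j *ᵥ w = (aeval b R) ^ j *ᵥ w := by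
      intro j
      induction j with
      | zero => intro w _; rw [pow_zero, pow_zero]
      | succ j ih =>
        intro w hw
        rw [pow_succ, pow_succ, ← Matrix.mulVec_mulVec, ← Matrix.mulVec_mulVec, hRW w hw]
        exact ih _ (hWinv _ (hbcomm R) w hw)
    have hfrob := frob_aeval (p := p) b ηl R
    rw [← hQ] at hfrob
    obtain ⟨bi, hbi⟩ : ∃ bi, bi = b ^ Q := ⟨_, rfl⟩
    have hbbi : b * bi = 1 := by rw [hbi]; exact hbQ
    have hRW' : ∀ w ∈ W, a *ᵥ w = aeval bi R *ᵥ w := by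
      intro w hw
      have h1 := hpowW Q w hw
      rw [haQ, hfrob, ← hbi] at h1
      exact h1
    obtain ⟨ai, hai⟩ : ∃ ai, ai = a ^ (r - 1) := ⟨_, rfl⟩
    have haai : a * ai = 1 := by rw [hai, ← pow_succ', Nat.sub_add_cancel hr.pos, har]
    have hkey : ∀ v ∈ W, a *ᵥ v = ai *ᵥ v := by
      intro v hv
      have hz : a *ᵥ v - ai *ᵥ v ∈ W := Submodule.sub_mem _ (hWinv a rfl v hv)
        (hWinv ai (by rw [hai]; exact (Commute.pow_right (Commute.refl a) _).eq) v hv)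
      have hzero : ∀ y, y ⬝ᵥ J (Fin n) F *ᵥ (a *ᵥ v - ai *ᵥ v) = 0 := by
        intro y
        have hy : y ∈ W ⊔ fx a := by rw [hWsup]; exact Submodule.mem_top
        obtain ⟨u, hu, c', hc', rfl⟩ := Submodule.mem_sup.1 hy
        rw [add_dotProduct]
        have h1 : u ⬝ᵥ J (Fin n) F *ᵥ (a *ᵥ v - ai *ᵥ v) = 0 := by
          rw [Matrix.mulVec_sub, dotProduct_sub, sub_eq_zero]
          have e1 : (a *ᵥ u) ⬝ᵥ J (Fin n) F *ᵥ v = u ⬝ᵥ J (Fin n) F *ᵥ (a *ᵥ v) := by
            rw [hRW u hu, adj_aeval b bi hisob hbbi R u v, ← hRW' v hv]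
          have e2 : (a *ᵥ u) ⬝ᵥ J (Fin n) F *ᵥ v = u ⬝ᵥ J (Fin n) F *ᵥ (ai *ᵥ v) := by
            have h' : a *ᵥ (ai *ᵥ v) = v := by
              rw [Matrix.mulVec_mulVec, haai, Matrix.one_mulVec]
            have := hisoa u (ai *ᵥ v)
            rw [h'] at this
            exact this
          rw [← e1, e2]
        have h2 : c' ⬝ᵥ J (Fin n) F *ᵥ (a *ᵥ v - ai *ᵥ v) = 0 := by
          have h3 := form_nm a hisoa r c' ((mem_fx a c').1 hc') (a *ᵥ v - ai *ᵥ v)
          rw [(hW _).1 hz, Matrix.mulVec_zero, dotProduct_zero] at h3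
          rcases mul_eq_zero.1 h3.symm with h | h
          · exact absurd h hrF
          · exact h
        rw [h1, h2, add_zero]
      have hz0 : a *ᵥ v - ai *ᵥ v = 0 :=
        J_nondeg _ (fun y => by rw [J_skew, hzero y, neg_zero])
      exact sub_eq_zero.1 hz0
    have hfix : a *ᵥ w₀ = w₀ := by
      have h2 : (a * a) *ᵥ w₀ = w₀ := by
        rw [← Matrix.mulVec_mulVec, hkey w₀ hw₀W, Matrix.mulVec_mulVec, haai, Matrix.one_mulVec]
      obtain ⟨m, hm⟩ := hr.odd_of_ne_two hr2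
      have h3 := eig_pow (a * a) 1 w₀ (by rw [one_smul]; exact h2) (m + 1)
      rw [one_pow, one_smul] at h3
      have h4 : a = (a * a) ^ (m + 1) := by
        rw [← pow_two, ← pow_mul, show 2 * (m + 1) = r + 1 by omega, pow_succ, har,
          Matrix.one_mul]
      calc a *ᵥ w₀ = (a * a) ^ (m + 1) *ᵥ w₀ := by rw [← h4]
        _ = w₀ := h3
    have hmem : w₀ ∈ W ⊓ fx a := Submodule.mem_inf.2 ⟨hw₀W, (mem_fx a w₀).2 hfix⟩
    rw [hWa] at hmem
    exact hw₀ ((Submodule.mem_bot F).1 hmem)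

end Cfsg.Agent.Lib.helper10.SpRS
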