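import Mathlib
import Cfsg.Agent.Lib.helper10.SpRS

/-!
# Elements of order `r * s` in symplectic groups: existence
-/

set_option autoImplicit false

namespace Cfsg.Agent.Lib.helper10.SpRS

open Polynomial Matrix UniqueFactorizationMonoid
open Cfsg.Agent.Lib.helper18.SpRz Cfsg.Agent.Lib.helper18.RCF
open Cfsg.Agent.Lib.helper10.OrthCount Cfsg.Agent.Lib.helper10.OrthType
open Cfsg.Agent.Lib.helper10.SpRP
open Cfsg.Agent.Lib.helper4.AltEquiv Cfsg.Agent.Lib.helper4.SympConjCorner Cfsg.Agent.Lib.helper4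
open Cfsg.Agent.S2468 (fx mem_fx fix_modEq dvd_sub_of_pow_eq)

universe u
variable {F : Type u} [Field F]

/-- there is an isometry of order exactly `N` of a nondegenerate alternating form in
dimension `d` -/
def IsoN (F : Type u) [Field F] (N d : ℕ) : Prop :=
  ∃ (ι : Type) (_ : Fintype ι) (_ : DecidableEq ι) (g gi Ω Ωi : Matrix ι ι F),
    Fintype.card ι = d ∧ g * gi = 1 ∧ gᵀ * Ω * g = Ω ∧ (∀ x : ι → F, x ⬝ᵥ Ω *ᵥ x = 0) ∧
    Ω * Ωi = 1 ∧ ∀ j : ℕ, g ^ j = 1 ↔ N ∣ j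

theorem iso_sum (N₁ N₂ d₁ d₂ : ℕ) (h₁ : IsoN F N₁ d₁) (h₂ : IsoN F N₂ d₂) :
    IsoN F (Nat.lcm N₁ N₂) (d₁ + d₂) := by
  obtain ⟨ι₁, _, _, g₁, gi₁, Ω₁, Ωi₁, hc₁, hg₁, hΩ₁, ha₁, hi₁, ho₁⟩ := h₁
  obtain ⟨ι₂, _, _, g₂, gi₂, Ω₂, Ωi₂, hc₂, hg₂, hΩ₂, ha₂, hi₂, ho₂⟩ := h₂
  refine ⟨ι₁ ⊕ ι₂, inferInstance, inferInstance, Matrix.fromBlocks g₁ 0 0 g₂,
    Matrix.fromBlocks gi₁ 0 0 gi₂, Matrix.fromBlocks Ω₁ 0 0 Ω₂, Matrix.fromBlocks Ωi₁ 0 0 Ωi₂,
    ?_, ?_, ?_, ?_, ?_, ?_⟩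
  · rw [Fintype.card_sum, hc₁, hc₂]
  · rw [Matrix.fromBlocks_multiply]; simp [hg₁, hg₂]
  · rw [Matrix.fromBlocks_transpose, Matrix.fromBlocks_multiply, Matrix.fromBlocks_multiply]
    simp [hΩ₁, hΩ₂]
  · intro x
    have e1 := ha₁ (x ∘ Sum.inl)
    have e2 := ha₂ (x ∘ Sum.inr)
    simp only [dotProduct, Matrix.mulVec, Fintype.sum_sum_type, Matrix.fromBlocks_apply₁₁,
      Matrix.fromBlocks_apply₁₂, Matrix.fromBlocks_apply₂₁, Matrix.fromBlocks_apply₂₂,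
      Matrix.zero_apply, zero_mul, Finset.sum_const_zero, add_zero, zero_add,
      Function.comp_apply] at e1 e2 ⊢
    rw [e1, e2, add_zero]
  · rw [Matrix.fromBlocks_multiply]; simp [hi₁, hi₂]
  · intro j
    rw [Matrix.fromBlocks_diagonal_pow, ← Matrix.fromBlocks_one (l := ι₁) (m := ι₂) (α := F),
      Matrix.fromBlocks_inj, ho₁, ho₂]
    constructor
    · rintro ⟨h1, -, -, h2⟩
      exact Nat.lcm_dvd h1 h2
    · intro h
      exact ⟨(Nat.dvd_lcm_left _ _).trans h, rfl, rfl, (Nat.dvd_lcm_right _ _).trans h⟩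

theorem iso_one (e : ℕ) : IsoN F 1 (2 * e) := by
  refine ⟨Fin e ⊕ Fin e, inferInstance, inferInstance, 1, 1, Matrix.J (Fin e) F,
    -Matrix.J (Fin e) F, ?_, ?_, ?_, SympConj.J_alt e F, ?_, ?_⟩
  · rw [Fintype.card_sum, Fintype.card_fin]; ring
  · simp
  · simp
  · rw [Matrix.mul_neg, Matrix.J_squared, neg_neg]
  · intro j; simp

theorem iso_to_sp [Fintype F] (N n : ℕ) (h : IsoN F N (2 * n)) :
    ∃ s : Matrix.symplecticGroup (Fin n) F, ∀ j : ℕ, s.1 ^ j = 1 ↔ N ∣ j := by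
  obtain ⟨ι, _, _, g, gi, Ω, Ωi, hc, hg, hΩ, ha, hi, ho⟩ := h
  obtain ⟨s, P, Pi, hPPi, hPiP, hs⟩ := to_sp_conj n g gi Ω Ωi hc hg hΩ ha hi
  have hpow : ∀ j : ℕ, s.1 ^ j = P * g ^ j * Pi := by
    intro j
    induction j with
    | zero => rw [pow_zero, pow_zero, Matrix.mul_one, hPPi]
    | succ j ih =>
      rw [pow_succ, ih, pow_succ, hs]
      calc P * g ^ j * Pi * (P * g * Pi) = P * g ^ j * (Pi * P) * g * Pi := by
            simp only [Matrix.mul_assoc]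
        _ = P * (g ^ j * g) * Pi := by rw [hPiP, Matrix.mul_one]; simp only [Matrix.mul_assoc]
  refine ⟨s, fun j => ?_⟩
  rw [hpow, ← ho]
  constructor
  · intro h
    have h1 : Pi * (P * g ^ j * Pi) * P = g ^ j := by
      calc Pi * (P * g ^ j * Pi) * P = (Pi * P) * g ^ j * (Pi * P) := by
            simp only [Matrix.mul_assoc]
        _ = g ^ j := by rw [hPiP, Matrix.one_mul, Matrix.mul_one]
    rw [← h1, h, Matrix.mul_one, hPiP]
  · intro h
    rw [h, Matrix.mul_one, hPPi]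

theorem iso_prime [Fintype F] {p q : ℕ} [Fact p.Prime] [CharP F p] (hF : Fintype.card F = q)
    (r k : ℕ) (hr : r.Prime) (hr2 : r ≠ 2) (hrp : r ≠ p) (hk : k = orderOf (q : ZMod r))
    (ηk : ℕ) (hηk : (Odd k ∧ ηk = k) ∨ (Even k ∧ 2 * ηk = k)) : IsoN F r (2 * ηk) := by
  classical
  subst hF
  have : Fact r.Prime := ⟨hr⟩
  obtain ⟨hkdvd, hk0⟩ := ord_dvd (F := F) (p := p) r hr hrp
  rw [← hk] at hkdvd hk0
  obtain ⟨t, ht⟩ : ∃ t, t * k = r - 1 := ⟨(r - 1) / k, Nat.div_mul_cancel hkdvd⟩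
  obtain ⟨S, σ, hSc, hxS, hipos, hS1, hS2, hσinv, hσx, hσSS, hat1, hat2, hoddfp, hevfix, hσst⟩ :=
    sigma_setup rfl r k t hr hr2 hrp hk ht
  have hx0m : (X - 1 : F[X]).Monic := by simpa using monic_X_sub_C (1 : F)
  have hx0i : Irreducible (X - 1 : F[X]) := by simpa using irreducible_X_sub_C (1 : F)
  have ht0 : t ≠ 0 := by
    rintro rfl
    rw [zero_mul] at ht
    have := hr.two_le
    omega
  obtain ⟨P₀, hP₀⟩ : ∃ P₀, P₀ ∈ S := by
    have h0 : 0 < S.card := by rw [hSc]; omega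
    exact Finset.card_pos.1 h0
  obtain ⟨χ₁, hz, hχd, hχdvd⟩ : ∃ χ₁ : F[X], Rz r χ₁ ∧ χ₁.natDegree = 2 * ηk ∧ P₀ ∣ χ₁ := by
    by_cases hfix : σ P₀ = P₀
    · obtain ⟨hz, hev⟩ := hat1 P₀ hP₀ hfix
      refine ⟨P₀, hz, ?_, dvd_rfl⟩
      rw [(hS1 P₀ hP₀).2.2.1]
      rcases hηk with ⟨hodd, _⟩ | ⟨_, hη⟩
      · exact absurd hev (Nat.not_even_iff_odd.2 hodd)
      · exact hη.symm
    · have hodd : Odd k := by
        by_contra hno
        exact hfix (hevfix hno P₀ hP₀)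
      refine ⟨P₀ * σ P₀, hat2 P₀ hP₀ hfix, ?_, dvd_mul_right _ _⟩
      rw [Polynomial.natDegree_mul (hS1 P₀ hP₀).1.ne_zero (hS1 _ (hσSS P₀ hP₀)).1.ne_zero,
        (hS1 P₀ hP₀).2.2.1, (hS1 _ (hσSS P₀ hP₀)).2.2.1]
      rcases hηk with ⟨_, hη⟩ | ⟨hev, _⟩
      · rw [hη]; ring
      · exact absurd hev (Nat.not_even_iff_odd.2 hodd)
  obtain ⟨ι₁, _, _, g₁, gi₁, Ω₁, Ωi₁, hc₁, hg₁, hk₁, hΩ₁, ha₁, hi₁, hχ₁⟩ := hz
  have hg₁ne : g₁ ≠ 1 := by
    intro h4
    rw [h4, Matrix.charpoly_one] at hχ₁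
    rw [← hχ₁] at hχdvd
    have h5 : P₀ ∣ X - 1 := (hS1 P₀ hP₀).2.1.prime.dvd_of_dvd_pow hχdvd
    have h6 := eq_of_monic_of_associated (hS1 P₀ hP₀).1 hx0m
      ((hS1 P₀ hP₀).2.1.associated_of_dvd hx0i h5)
    exact hxS (h6 ▸ hP₀)
  have ho : orderOf g₁ = r := orderOf_eq_prime hk₁ hg₁ne
  exact ⟨ι₁, inferInstance, inferInstance, g₁, gi₁, Ω₁, Ωi₁, hc₁.trans hχd, hg₁, hΩ₁, ha₁, hi₁,
    fun j => by rw [← orderOf_dvd_iff_pow_eq_one, ho]⟩

theorem iso_rs [Fintype F] {p q : ℕ} [Fact p.Prime] [CharP F p] (hF : Fintype.card F = q)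
    (r s k l : ℕ) (hr : r.Prime) (hs : s.Prime) (hr2 : r ≠ 2) (hs2 : s ≠ 2) (hrp : r ≠ p)
    (hsp : s ≠ p) (hrs : r ≠ s)
    (hk : k = orderOf (q : ZMod r)) (hl : l = orderOf (q : ZMod s))
    (ηl : ℕ) (hηl : (Odd l ∧ ηl = l) ∨ (Even l ∧ 2 * ηl = l))
    (t : ℕ) (ht : Odd t) (hlt : l = k * t) : ∃ m, m ≤ ηl ∧ IsoN F (r * s) (2 * m) := by
  classical
  subst hF
  have : Fact r.Prime := ⟨hr⟩
  have : Fact s.Prime := ⟨hs⟩
  have hrF : (r : F) ≠ 0 := cast_ne_zero_of_coprime p r ((Nat.coprime_primes hr Fact.out).2 hrp)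
  have hsF : (s : F) ≠ 0 := cast_ne_zero_of_coprime p s ((Nat.coprime_primes hs Fact.out).2 hsp)
  obtain ⟨hkdvd, hk0⟩ := ord_dvd (F := F) (p := p) r hr hrp
  obtain ⟨hldvd, hl0⟩ := ord_dvd (F := F) (p := p) s hs hsp
  rw [← hk] at hkdvd hk0
  rw [← hl] at hldvd hl0
  obtain ⟨t', ht'⟩ : ∃ t', t' * l = s - 1 := ⟨(s - 1) / l, Nat.div_mul_cancel hldvd⟩
  obtain ⟨S, σ, hSc, hxS, hipos, hS1, hS2, hσinv, hσx, hσSS, hat1, hat2, hoddfp, hevfix, hσst⟩ :=
    sigma_setup rfl s l t' hs hs2 hsp hl ht'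
  have hx0m : (X - 1 : F[X]).Monic := by simpa using monic_X_sub_C (1 : F)
  have hx0i : Irreducible (X - 1 : F[X]) := by simpa using irreducible_X_sub_C (1 : F)
  have ht0 : t' ≠ 0 := by
    rintro rfl
    rw [zero_mul] at ht'
    have := hs.two_le
    omega
  obtain ⟨P₀, hP₀⟩ : ∃ P₀, P₀ ∈ S := by
    have h0 : 0 < S.card := by rw [hSc]; omega
    exact Finset.card_pos.1 h0
  obtain ⟨hP₀m, hP₀i, hP₀d, hP₀dvd⟩ := hS1 P₀ hP₀
  have : Fact (Irreducible P₀) := ⟨hP₀i⟩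
  have hfin : Module.Finite F (AdjoinRoot P₀) := (AdjoinRoot.powerBasis hP₀m.ne_zero).finite
  have hfinK : Finite (AdjoinRoot P₀) := Module.finite_of_finite F
  have hrank : Module.finrank F (AdjoinRoot P₀) = l := by
    rw [(AdjoinRoot.powerBasis hP₀m.ne_zero).finrank, AdjoinRoot.powerBasis_dim, hP₀d]
  have hcardK : Nat.card (AdjoinRoot P₀) = Fintype.card F ^ l := by
    have := Fintype.ofFinite (AdjoinRoot P₀)
    rw [Nat.card_eq_fintype_card, Module.card_eq_pow_finrank (K := F), hrank]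
  have hq0 : 0 < Fintype.card F := Fintype.card_pos
  have hrdvd : r ∣ Nat.card (AdjoinRoot P₀)ˣ := by
    rw [Nat.card_units, hcardK]
    have h1 : ((Fintype.card F ^ l : ℕ) : ZMod r) = ((1 : ℕ) : ZMod r) := by
      push_cast; rw [hlt, pow_mul, hk, pow_orderOf_eq_one, one_pow]
    have h2 : Fintype.card F ^ l ≡ 1 [MOD r] := (ZMod.natCast_eq_natCast_iff _ _ _).1 h1
    exact (Nat.modEq_iff_dvd' (Nat.one_le_pow _ _ hq0)).1 h2.symm
  obtain ⟨ρ, hρ⟩ := exists_prime_orderOf_dvd_card' r hrdvd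
  obtain ⟨β, hβ⟩ : ∃ β : AdjoinRoot P₀, β = AdjoinRoot.root P₀ := ⟨_, rfl⟩
  have hβs : β ^ s = 1 := by
    have h1 : aeval (AdjoinRoot.root P₀) (X ^ s - 1 : F[X]) = 0 := by
      rw [AdjoinRoot.aeval_eq, AdjoinRoot.mk_eq_zero]; exact hP₀dvd
    rw [map_sub, map_pow, aeval_X, map_one, sub_eq_zero] at h1
    rw [hβ]; exact h1
  have hβ1 : β ≠ 1 := by
    intro h
    have h1 : aeval (AdjoinRoot.root P₀) (X - 1 : F[X]) = 0 := by
      rw [map_sub, aeval_X, map_one, ← hβ, h, sub_self]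
    rw [AdjoinRoot.aeval_eq, AdjoinRoot.mk_eq_zero] at h1
    have h6 := eq_of_monic_of_associated hP₀m hx0m (hP₀i.associated_of_dvd hx0i h1)
    exact hxS (h6 ▸ hP₀)
  have hoβ : orderOf β = s := orderOf_eq_prime hβs hβ1
  have hoρ : orderOf (ρ : AdjoinRoot P₀) = r := by rw [orderOf_units]; exact hρ
  obtain ⟨α, hα⟩ : ∃ α : AdjoinRoot P₀, α = (ρ : AdjoinRoot P₀) * β := ⟨_, rfl⟩
  have hoα : orderOf α = r * s := by
    rw [hα, (Commute.all _ _).orderOf_mul_eq_mul_orderOf_of_coprime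
      (by rw [hoρ, hoβ]; exact (Nat.coprime_primes hr hs).2 hrs), hoρ, hoβ]
  have hint : IsIntegral F α := IsIntegral.of_finite F α
  obtain ⟨Pα, hPα⟩ : ∃ Pα, Pα = minpoly F α := ⟨_, rfl⟩
  have hPirr : Irreducible Pα := by rw [hPα]; exact minpoly.irreducible hint
  have hPmon : Pα.Monic := by rw [hPα]; exact minpoly.monic hint
  have hPdvd : Pα ∣ (X ^ (r * s) - 1 : F[X]) := by
    rw [hPα]
    apply minpoly.dvd
    rw [map_sub, map_pow, aeval_X, map_one, ← hoα, pow_orderOf_eq_one, sub_self]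
  have hPnd : ∀ m : ℕ, Pα ∣ (X ^ m - 1 : F[X]) → r * s ∣ m := by
    intro m hm
    obtain ⟨c, hc⟩ := hm
    have h1 : aeval α (X ^ m - 1 : F[X]) = 0 := by
      rw [hc, map_mul, hPα, minpoly.aeval, zero_mul]
    rw [map_sub, map_pow, aeval_X, map_one, sub_eq_zero] at h1
    rw [← hoα]
    exact orderOf_dvd_of_pow_eq_one h1
  have hdle : Pα.natDegree ≤ l := by
    rw [hPα, ← hrank]
    exact minpoly.natDegree_le α
  obtain ⟨d, hd⟩ : ∃ d, d = Pα.natDegree := ⟨_, rfl⟩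
  obtain ⟨A, hA, hAc⟩ := exists_mat_of_multiset (n := d) ({Pα} : Multiset F[X]) (r * s)
    (by intro h hh; rw [Multiset.mem_singleton] at hh; rw [hh]; exact ⟨hPmon, hPdvd⟩)
    (by rw [Multiset.map_singleton, Multiset.sum_singleton, hd])
  rw [Multiset.prod_singleton] at hAc
  have hAord : ∀ j : ℕ, A ^ j = 1 ↔ r * s ∣ j := by
    intro j
    constructor
    · intro h
      exact hPnd j (factor_dvd_of_pow_eq_one A j h Pα hPirr (by rw [hAc]))
    · rintro ⟨c, rfl⟩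
      rw [pow_mul, hA, one_pow]
  have hrs0 : 0 < r * s := Nat.mul_pos hr.pos hs.pos
  obtain ⟨Ai, hAidef⟩ : ∃ Ai, Ai = A ^ (r * s - 1) := ⟨_, rfl⟩
  have hAi : A * Ai = 1 := by rw [hAidef, ← pow_succ', Nat.sub_add_cancel hrs0, hA]
  have hAi' : Ai * A = 1 := mul_eq_one_comm.mp hAi
  rcases hηl with ⟨hlodd, hηl'⟩ | ⟨hlev, hηl'⟩
  · refine ⟨d, by omega, ?_⟩
    have hAT : Aᵀ * Aiᵀ = 1 := by rw [← Matrix.transpose_mul, hAi', Matrix.transpose_one]
    have hAT' : Aiᵀ * Aᵀ = 1 := by rw [← Matrix.transpose_mul, hAi, Matrix.transpose_one]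
    refine ⟨Fin d ⊕ Fin d, inferInstance, inferInstance, Matrix.fromBlocks A 0 0 Aiᵀ,
      Matrix.fromBlocks Ai 0 0 Aᵀ, Matrix.J (Fin d) F, -Matrix.J (Fin d) F, ?_, ?_, ?_,
      SympConj.J_alt d F, ?_, ?_⟩
    · rw [Fintype.card_sum, Fintype.card_fin]; ring
    · rw [Matrix.fromBlocks_multiply]; simp [hAi, hAT']
    · rw [Matrix.J, Matrix.fromBlocks_transpose, Matrix.fromBlocks_multiply,
        Matrix.fromBlocks_multiply]
      simp [hAi', hAT]
    · rw [Matrix.mul_neg, Matrix.J_squared, neg_neg]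
    · intro j
      rw [Matrix.fromBlocks_diagonal_pow, ← Matrix.fromBlocks_one (l := Fin d) (m := Fin d) (α := F),
        Matrix.fromBlocks_inj, hAord]
      constructor
      · exact fun h => h.1
      · intro h
        refine ⟨h, rfl, rfl, ?_⟩
        rw [← Matrix.transpose_pow, hAidef, ← pow_mul, mul_comm, pow_mul, (hAord j).2 h, one_pow,
          Matrix.transpose_one]
  · have hkev : Even k := by
      have h := hlev
      rw [hlt] at h
      rcases Nat.even_mul.1 h with h | h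
      · exact h
      · exact absurd h (Nat.not_even_iff_odd.2 ht)
    obtain ⟨k₁, hk₁⟩ := hkev
    have hηl2 : ηl = k₁ * t := by
      have : 2 * ηl = 2 * (k₁ * t) := by rw [hηl', hlt, hk₁]; ring
      omega
    have hk₁0 : k₁ ≠ 0 := by omega
    have hr1 : ((Fintype.card F : ℕ) : ZMod r) ^ k₁ = -1 := by
      have h1 : (((Fintype.card F : ℕ) : ZMod r) ^ k₁) * (((Fintype.card F : ℕ) : ZMod r) ^ k₁)
          = 1 := by
        rw [← pow_add, ← hk₁, hk, pow_orderOf_eq_one]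
      rcases mul_self_eq_one_iff.1 h1 with h | h
      · exfalso
        have hlt' : k₁ < orderOf ((Fintype.card F : ℕ) : ZMod r) := by rw [← hk]; omega
        exact pow_ne_one_of_lt_orderOf hk₁0 hlt' h
      · exact h
    have hrQ : ((Fintype.card F : ℕ) : ZMod r) ^ ηl = -1 := by
      rw [hηl2, pow_mul, hr1, ht.neg_one_pow]
    have hsQ : ((Fintype.card F : ℕ) : ZMod s) ^ ηl = -1 := by
      have h1 : (((Fintype.card F : ℕ) : ZMod s) ^ ηl) * (((Fintype.card F : ℕ) : ZMod s) ^ ηl)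
          = 1 := by
        rw [← pow_add, ← two_mul, hηl', hl, pow_orderOf_eq_one]
      rcases mul_self_eq_one_iff.1 h1 with h | h
      · exfalso
        have hlt' : ηl < orderOf ((Fintype.card F : ℕ) : ZMod s) := by rw [← hl]; omega
        exact pow_ne_one_of_lt_orderOf (by omega) hlt' h
      · exact h
    have hdvdQ : r * s ∣ Fintype.card F ^ ηl + 1 := by
      apply Nat.Coprime.mul_dvd_of_dvd_of_dvd ((Nat.coprime_primes hr hs).2 hrs)
      · rw [← ZMod.natCast_eq_zero_iff]; push_cast; rw [hrQ]; ring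
      · rw [← ZMod.natCast_eq_zero_iff]; push_cast; rw [hsQ]; ring
    have hAQ : A ^ (Fintype.card F ^ ηl) * A = 1 := by
      rw [← pow_succ]; exact (hAord _).2 hdvdQ
    have hAiQ : Ai = A ^ (Fintype.card F ^ ηl) := by
      calc Ai = (A ^ (Fintype.card F ^ ηl) * A) * Ai := by rw [hAQ, Matrix.one_mul]
        _ = A ^ (Fintype.card F ^ ηl) := by rw [Matrix.mul_assoc, hAi, Matrix.mul_one]
    have hfrob : ∀ (e : ℕ), (A ^ (Fintype.card F ^ e)).charpoly = A.charpoly := by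
      intro e
      induction e with
      | zero => rw [pow_zero, pow_one]
      | succ e ih =>
        have := FiniteField.Matrix.charpoly_pow_card (A ^ (Fintype.card F ^ e))
        rw [pow_succ, pow_mul, this, ih]
    have hinv : Ai.charpoly = A.charpoly := by rw [hAiQ, hfrob]
    have hrsF : ((r * s : ℕ) : F) ≠ 0 := by push_cast; exact mul_ne_zero hrF hsF
    have hA1 : A ≠ 1 := by
      intro h
      have h1 := (hAord 1).1 (by rw [pow_one]; exact h)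
      have h2 := Nat.le_of_dvd one_pos h1
      nlinarith [hr.two_le, hs.two_le]
    have hz := rz_self (r * s) ((hr.odd_of_ne_two hr2).mul (hs.odd_of_ne_two hs2)) hrsF A Ai hA hAi
      (by rw [hAc]; exact hPirr) hA1 hinv
    have hev := rz_even (r * s) _ hz
    rw [hAc, ← hd] at hev
    obtain ⟨m, hm⟩ := hev
    obtain ⟨ι, _, _, g, gi, Ω, Ωi, hc, hg, hgk, hΩ, ha, hi, hχ⟩ := hz
    refine ⟨m, by omega, ι, inferInstance, inferInstance, g, gi, Ω, Ωi, ?_, hg, hΩ, ha, hi, ?_⟩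
    · rw [hc, hAc, ← hd, hm]; ring
    · intro j
      constructor
      · intro h
        apply hPnd j
        have haev : aeval (Matrix.toLin' g) (X ^ j - 1 : F[X]) = 0 := by
          rw [map_sub, map_pow, aeval_X, map_one, ← Matrix.toLin'_pow, h, Matrix.toLin'_one]
          exact sub_self _
        exact factor_dvd_of_aeval (Matrix.toLin' g) _ haev Pα hPirr
          (by rw [Matrix.charpoly_toLin', hχ, hAc])
      · rintro ⟨c, rfl⟩
        rw [pow_mul, hgk, one_pow]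

theorem eta_le [Fintype F] {p q : ℕ} [Fact p.Prime] [CharP F p] (hF : Fintype.card F = q)
    (n s l : ℕ) (hs : s.Prime) (hsp : s ≠ p) (hl : l = orderOf (q : ZMod s))
    (ηl : ℕ) (hηl : (Odd l ∧ ηl = l) ∨ (Even l ∧ 2 * ηl = l))
    (y : Matrix.symplecticGroup (Fin n) F) (hys : y ^ s = 1) (hy1 : y ≠ 1) : ηl ≤ n := by
  classical
  subst hF
  have : Fact s.Prime := ⟨hs⟩
  have hsF : (s : F) ≠ 0 := cast_ne_zero_of_coprime p s ((Nat.coprime_primes hs Fact.out).2 hsp)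
  obtain ⟨hldvd, hl0⟩ := ord_dvd (F := F) (p := p) s hs hsp
  rw [← hl] at hldvd hl0
  obtain ⟨b, hb⟩ : ∃ b : Matrix (Fin n ⊕ Fin n) (Fin n ⊕ Fin n) F, b = y.1 := ⟨_, rfl⟩
  have hbs : b ^ s = 1 := by
    rw [hb]
    have h := congrArg Subtype.val hys
    simpa using h
  have hb1 : b ≠ 1 := fun h => hy1 (Subtype.ext (by rw [← hb]; exact h))
  have hisob : ∀ u v, (b *ᵥ u) ⬝ᵥ J (Fin n) F *ᵥ (b *ᵥ v) = u ⬝ᵥ J (Fin n) F *ᵥ v := by
    rw [hb]; exact sp_iso y.1 y.2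
  have hfr : Module.finrank F (Fin n ⊕ Fin n → F) = n + n := by
    rw [Module.finrank_fintype_fun_eq_card, Fintype.card_sum, Fintype.card_fin]
  have hne : fx b ≠ ⊤ := by
    intro htop
    apply hb1
    apply Matrix.toLin'.injective
    apply LinearMap.ext
    intro v
    have hv : v ∈ fx b := by rw [htop]; exact Submodule.mem_top
    rw [Matrix.toLin'_apply, (mem_fx b v).1 hv, Matrix.toLin'_one]
    rfl
  have hlt := Submodule.finrank_lt hne
  rw [hfr] at hlt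
  have c2 := fix_modEq s b hbs ⊤ (fun w _ => Submodule.mem_top)
  rw [top_inf_eq, finrank_top, hfr] at c2
  have e2 := dvd_sub_of_pow_eq s _ l hl hl0 (n + n) _ hlt.le
    (by have := (ZMod.natCast_eq_natCast_iff _ _ _).2 c2; push_cast at this; exact this)
  have hev_b : Even (Module.finrank F (fx b)) :=
    even_of_proj n (fx b) (nm b s) (s : F) hsF (nm_mem_fx b s hbs)
      (fun u hu v => form_nm b hisob s u ((mem_fx b u).1 hu) v)
  have hle_b : 2 * ηl ≤ n + n - Module.finrank F (fx b) :=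
    Nat.le_of_dvd (by omega) (eta_dvd l ηl hηl _ e2 (even_sub_of _ _ ⟨n, rfl⟩ hev_b))
  omega

end Cfsg.Agent.Lib.helper10.SpRS
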