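import Mathlib

set_option autoImplicit false

/-!
Trace (corestriction) map for a commutative subgroup `A` normalized by `N`, along a subgroup `S ≤ N`
of index prime to `p`: the `N`-fixed points of the `p`-group `A` are a direct factor of the `S`-fixed points.
-/

namespace Cfsg.Agent.Lib.helper10

open scoped IsMulCommutative

variable {G : Type*} [Group G]

/-- Conjugation by an element normalizing `A`, as an endomorphism of `A`. -/
def conjEnd (A : Subgroup G) (n : G) (hn : ∀ a ∈ A, n * a * n⁻¹ ∈ A) : ↥A →* ↥A where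
  toFun a := ⟨n * a * n⁻¹, hn a a.2⟩
  map_one' := by apply Subtype.ext; simp
  map_mul' a b := by apply Subtype.ext; simp [mul_assoc]

theorem trace_split [Finite G] {p : ℕ} [Fact p.Prime] (A N S Z W : Subgroup G)
    [IsMulCommutative ↥A] (hSN : S ≤ N) (hNA : ∀ n ∈ N, ∀ a ∈ A, n * a * n⁻¹ ∈ A)
    (hAp : IsPGroup p A) (hidx : ¬ p ∣ S.relIndex N)
    (hZ : ∀ x, x ∈ Z ↔ x ∈ A ∧ ∀ s ∈ S, s * x * s⁻¹ = x)
    (hW : ∀ x, x ∈ W ↔ x ∈ A ∧ ∀ n ∈ N, n * x * n⁻¹ = x) :
    ∃ K : Subgroup G, K ≤ Z ∧ W ⊓ K = ⊥ ∧ W ⊔ K = Z := by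
  classical
  have hp : p.Prime := Fact.out
  let S' : Subgroup N := S.subgroupOf N
  have : Fintype (↥N ⧸ S') := Fintype.ofFinite _
  let c : ↥N → (↥A →* ↥A) := fun n => conjEnd A (n : G) (hNA n n.2)
  let T : ↥A →* ↥A := ∏ q : ↥N ⧸ S', c q.out
  have hT : ∀ a, T a = ∏ q : ↥N ⧸ S', c q.out a := fun a => MonoidHom.finsetProd_apply _ _ a
  have hc : ∀ (n : N) (a : A), ((c n a : A) : G) = n * a * (n : G)⁻¹ := fun n a => rfl
  have hcmul : ∀ (n n' : N) (a : A), c (n * n') a = c n (c n' a) := by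
    intro n n' a; apply Subtype.ext; simp only [hc, Subgroup.coe_mul]; group
  have hfix : ∀ a : A, (a : G) ∈ Z → ∀ n : N, c n (T a) = T a := by
    intro a ha n
    rw [hT, map_prod]
    have hterm : ∀ q : ↥N ⧸ S', c n (c q.out a) = c ((n • q).out) a := by
      intro q
      have h1 : (QuotientGroup.mk (n * q.out) : ↥N ⧸ S') = QuotientGroup.mk ((n • q).out) := by
        rw [QuotientGroup.out_eq']
        conv_rhs => rw [← QuotientGroup.out_eq' q]
        rfl
      have h2 : ((n • q).out)⁻¹ * (n * q.out) ∈ S' := QuotientGroup.eq.1 h1.symm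
      obtain ⟨s, hs⟩ : ∃ s : N, s = ((n • q).out)⁻¹ * (n * q.out) := ⟨_, rfl⟩
      have hsS : (s : G) ∈ S := by rw [hs]; exact h2
      have hsa : c s a = a := by
        apply Subtype.ext
        rw [hc]
        exact ((hZ _).1 ha).2 _ hsS
      have h3 : n * q.out = (n • q).out * s := by rw [hs]; group
      rw [← hcmul, h3, hcmul, hsa]
    rw [Finset.prod_congr rfl (fun q _ => hterm q)]
    exact Fintype.prod_equiv (MulAction.toPerm n) _ _ (fun q => rfl)
  have hpow : ∀ w : A, (w : G) ∈ W → T w = w ^ (S.relIndex N) := by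
    intro w hw
    rw [hT]
    have h1 : ∀ q : ↥N ⧸ S', c q.out w = w := by
      intro q; apply Subtype.ext; rw [hc]; exact ((hW _).1 hw).2 _ (q.out).2
    rw [Finset.prod_congr rfl (fun q _ => h1 q), Finset.prod_const, Finset.card_univ]
    congr 1
    rw [← Nat.card_eq_fintype_card]; rfl
  have hWZ : W ≤ Z := by
    intro x hx
    rw [hZ]; rw [hW] at hx
    exact ⟨hx.1, fun s hs => hx.2 s (hSN hs)⟩
  have hTW : ∀ a : A, (a : G) ∈ Z → ((T a : A) : G) ∈ W := by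
    intro a ha
    rw [hW]
    refine ⟨(T a).2, fun n hn => ?_⟩
    have := hfix a ha ⟨n, hn⟩
    exact congrArg Subtype.val this
  have hcop : (S.relIndex N).Coprime p := ((Nat.Prime.coprime_iff_not_dvd hp).2 hidx).symm
  refine ⟨Z ⊓ T.ker.map A.subtype, inf_le_left, ?_, ?_⟩
  · rw [eq_bot_iff]
    rintro x ⟨hxW, -, a, ha, rfl⟩
    rw [Subgroup.mem_bot]
    have h1 : T a = a ^ (S.relIndex N) := hpow a hxW
    have h2 : a ^ (S.relIndex N) = 1 := by rw [← h1]; exact ha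
    obtain ⟨k, hk⟩ := hAp a
    have h3 : orderOf a ∣ Nat.gcd (S.relIndex N) (p ^ k) :=
      Nat.dvd_gcd (orderOf_dvd_of_pow_eq_one h2) (orderOf_dvd_of_pow_eq_one hk)
    have h4 : Nat.gcd (S.relIndex N) (p ^ k) = 1 := Nat.Coprime.pow_right k hcop
    rw [h4, Nat.dvd_one, orderOf_eq_one_iff] at h3
    rw [h3]; rfl
  · apply le_antisymm (sup_le hWZ inf_le_left)
    intro z hz
    have hzA : z ∈ A := ((hZ z).1 hz).1
    obtain ⟨w0, hw0⟩ : ∃ w0 : A, w0 = T ⟨z, hzA⟩ := ⟨_, rfl⟩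
    have hw0W : (w0 : G) ∈ W := by rw [hw0]; exact hTW ⟨z, hzA⟩ hz
    obtain ⟨k, hk⟩ := hAp w0
    have hcop' : Nat.Coprime (S.relIndex N) (orderOf w0) := by
      have h1 : orderOf w0 ∣ p ^ k := orderOf_dvd_of_pow_eq_one hk
      exact Nat.Coprime.coprime_dvd_right h1 (Nat.Coprime.pow_right k hcop)
    obtain ⟨j, hj⟩ := exists_pow_eq_self_of_coprime hcop'
    have huW : ((w0 ^ j : A) : G) ∈ W := by
      rw [Subgroup.coe_pow]; exact W.pow_mem hw0W j
    have hTu : T (w0 ^ j) = w0 := by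
      rw [hpow _ huW, ← pow_mul, mul_comm, pow_mul]; exact hj
    have hker : (w0 ^ j)⁻¹ * ⟨z, hzA⟩ ∈ T.ker := by
      rw [MonoidHom.mem_ker, map_mul, map_inv, hTu, hw0]; exact inv_mul_cancel _
    have hcoe : (((w0 ^ j)⁻¹ * ⟨z, hzA⟩ : A) : G) = ((w0 ^ j : A) : G)⁻¹ * z := by simp
    have hz' : z = ((w0 ^ j : A) : G) * (((w0 ^ j)⁻¹ * ⟨z, hzA⟩ : A) : G) := by
      rw [hcoe]; group
    rw [hz']
    refine Subgroup.mul_mem _ (Subgroup.mem_sup_left huW)
      (Subgroup.mem_sup_right ⟨?_, _, hker, rfl⟩)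
    rw [hcoe]; exact Z.mul_mem (Z.inv_mem (hWZ huW)) hz

end Cfsg.Agent.Lib.helper10
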